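import Cfsg.Agent.H778.ExcNot
import Cfsg.Agent.H778.ExcMain
import Cfsg.Agent.H130.WeylTab
import Cfsg.Agent.BpExc.FamTwSix
import Cfsg.Agent.BpExc.EmbInst
import Cfsg.Agent.H129.TorusMain
import Cfsg.Agent.ChevalleyStructure.TwE6BN
import Cfsg.Agent.Lib.WeylFast
import Cfsg.Agent.Lib.ListFast
import Cfsg.Agent.S1063
import Cfsg.Agent.S1066
import Cfsg.Agent.ChevalleyStructure.D4H1
import Cfsg.Agent.FastGrp
import Cfsg.Agent.Prune
set_option linter.all false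

section
prune_inst 0x7f00000000000000000000000000000000000000000000000000000000000000000000000000000000000000000000000000000000000000000000000000000000000000000000000000000000000000003fffffffffffffffffffffffffffbeffbdffffffff

-- part: H778/ExcTwSix
section
set_option linter.all false
open scoped Cfsg.Agent.FastGrp

-- part: H778/ExcCert
section
/-!
# Certificates for `exists_fix` (helper778)

`MCert` : lists of integers, checked by the kernel; `MCert.not_pcent` : the group `G0` has a `p`-element which is not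
`p`-central.
-/

set_option autoImplicit false
set_option linter.unusedSectionVars false

namespace Cfsg.Agent.H778.Exc

open CoxeterSystem Cfsg Cfsg.Lie Cfsg.Lie.ChevalleyDatum
open Cfsg.Agent.ChevalleyStructure Cfsg.Agent.ChevalleyStructure.Elts Cfsg.Agent.ChevalleyStructure.CoxeterGeom
  Cfsg.Agent.ChevalleyStructure.CoxeterGeomTypes Cfsg.Agent.ChevalleyStructure.NPerm
  Cfsg.Agent.ChevalleyStructure.RootVec
open Cfsg.Agent.Tits.Roots Cfsg.Agent.Tits.Core Cfsg.Agent.Nodes Cfsg.Agent.Nodes.Reps Cfsg.Agent.Nodes.BNOf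
  Cfsg.Agent.Nodes.RGDChev Cfsg.Agent.Nodes.Bruhat
open Cfsg.Agent.KFacts.RgdField Cfsg.Agent.KFacts.RgdChevCoord Cfsg.Agent.BpExc.TorCent Cfsg.Agent.BpExc.TorChev
open Cfsg.Agent.GpExc.Field Cfsg.Agent.BpExc.Tow Cfsg.Agent.BpExc.TowChev Cfsg.Agent.BpExc.Fr
  Cfsg.Agent.BpExc.LangFr Cfsg.Agent.LangThm Cfsg.Agent.BpExc Cfsg.Agent.H129.TorusChar Cfsg.Agent.H129.TorusMain
  Cfsg.Agent.H129.TorusUntw
open Cfsg.Agent.H573 Cfsg.Agent.H130.WeylCk

universe u v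

/-- all lists of length `m` with entries `0, …, p - 1` -/
def enumAll (p : ℕ) : ℕ → List (List ℤ)
  | 0 => [[]]
  | m + 1 => (List.range p).flatMap (fun (c : ℕ) => (enumAll p m).map (fun t => (c : ℤ) :: t))

/-- the combination of the vectors `BL` with coefficients `cs` -/
def lcomb (l : ℕ) (cs : List ℤ) (BL : List (List ℤ)) : List ℤ :=
  (List.range l).map (fun j => (List.zipWith (fun (c : ℤ) (B : List ℤ) => c * B.getD j 0) cs BL).sum)

theorem mem_enumAll {p : ℕ} [NeZero p] {α : Type*} (f : α → ZMod p) (L : List α) :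
    L.map (fun i => ((f i).val : ℤ)) ∈ enumAll p L.length := by
  induction L with
  | nil => simp [enumAll]
  | cons a L ih =>
    simp only [List.map_cons, List.length_cons, enumAll, List.mem_flatMap, List.mem_map, List.mem_range]
    exact ⟨(f a).val, ZMod.val_lt _, _, ih, rfl⟩

/-- **the certificate**; `TM`, `CM` : the images of the basis under `θ`, `c` -/
structure MCert (D : ChevalleyDatum) (l p : ℕ) (Al : List (List ℤ)) (gl : List ℤ → List ℤ) (w1 : List (Fin l)) (q : ℕ)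
    (VL : List (List ℤ)) (w0 : List (Fin l)) (n : ℕ) (a : List ℤ) (fr : List (Fin l)) (BL C C' TM CM : List (List ℤ))
    (RL : List (List ℤ)) : Prop where
  la : a.length = l
  tm : ∀ i : Fin l, ac Al w1 (gl (bas l i)) = TM.getD i []
  cm : ∀ i : Fin l, ac Al w0 (bas l i) = CM.getD i []
  ra : ∀ i : Fin l, (dot (TM.getD i []) a - q * a.getD i 0) % p = 0
  lv : ∀ v ∈ VL, v.length = l
  rv : ∀ v ∈ VL, ∀ i : Fin l, (dot (TM.getD i []) v - q * v.getD i 0) % p = 0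
  nv : ∀ x ∈ RL, ∃ v ∈ VL, dot x v % p ≠ 0
  sep : ∀ i : Fin l, ∀ x ∈ RL, (∀ v ∈ VL, (dot x v - v.getD i 0) % p = 0) → ∀ y ∈ x, 0 ≤ y
  one : ∀ i : Fin l, acn Al w0 n (bas l i) = bas l i
  com : ∀ i : Fin l, ac Al w0 (TM.getD i []) = ac Al w1 (gl (CM.getD i []))
  fix : ∀ j k : Fin l, ((bas l j).getD k 0 -
    (List.zipWith (fun (i : Fin l) (B : List ℤ) => B.getD j 0 * (bas l i).getD k 0) fr BL).sum -
    ∑ i : Fin l, (C.getD j []).getD i 0 * ((CM.getD i []).getD k 0 - (bas l i).getD k 0) -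
    ∑ i : Fin l, (C'.getD j []).getD i 0 * ((TM.getD i []).getD k 0 - q * (bas l i).getD k 0)) % p = 0
  cnt : ∀ cs ∈ enumAll p fr.length, cntL p RL (lcomb l cs BL) 0 ≠ cntL p RL a 0 ∨
    cntL p RL (lcomb l cs BL) 1 ≠ cntL p RL a 1

namespace MCert

variable {D : ChevalleyDatum} {l p : ℕ} {Al : List (List ℤ)} {gl : List ℤ → List ℤ} {w1 : List (Fin l)} {q : ℕ}
    {VL : List (List ℤ)} {w0 : List (Fin l)} {n : ℕ} {a : List ℤ} {fr : List (Fin l)} {BL C C' TM CM : List (List ℤ)}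
    {RL : List (List ℤ)} (H : MCert D l p Al gl w1 q VL w0 n a fr BL C C' TM CM RL)
    {M : CoxeterMatrix (Fin l)} (hp : IsType D l M) {W : Type*} [Group W] (cs : CoxeterSystem M W)
    (hA : MatList (cartanOf D l) Al) (hR : RootList D l RL) {g : (Fin l → ℤ) ≃+ (Fin l → ℤ)}
    (hg : ∀ v : List ℤ, v.length = l → toFn l (gl v) = g (toFn l v) ∧ (gl v).length = l)

include H in
theorem ra' (i : Fin l) : (dot (ac Al w1 (gl (bas l i))) a - q * a.getD i 0) % p = 0 := by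
  rw [H.tm]
  exact H.ra i

include H in
theorem rv' (v : List ℤ) (hv : v ∈ VL) (i : Fin l) : (dot (ac Al w1 (gl (bas l i))) v - q * v.getD i 0) % p = 0 := by
  rw [H.tm]
  exact H.rv v hv i

include H in
theorem com' (i : Fin l) : ac Al w0 (ac Al w1 (gl (bas l i))) = ac Al w1 (gl (ac Al w0 (bas l i))) := by
  rw [H.tm, H.cm]
  exact H.com i

/-- two functionals on the lattice agreeing on the simple roots -/
theorem ev_ext_hom {θ : (Fin l → ℤ) →+ (Fin l → ℤ)} {b : Fin l → ZMod p} {c : ZMod p}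
    (h : ∀ i, ev b (θ (sr i)) = c * b i) (x : Fin l → ℤ) : ev b (θ x) = c * ev b x := by
  have h1 : (evH b).comp θ = (AddMonoidHom.mulLeft c).comp (evH b) := by
    refine hom_ext fun i => ?_
    show ev b (θ (sr i)) = c * ev b (sr i)
    rw [h, ev_sr]
  exact DFunLike.congr_fun h1 x

include hA hg in
theorem theta_bas (i : Fin l) : theta hp cs (cs.wordProd w1) g (sr i) = toFn l (ac Al w1 (gl (bas l i))) ∧
    (ac Al w1 (gl (bas l i))).length = l := by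
  obtain ⟨h1, h2⟩ := hg (bas l i) (length_bas i)
  refine ⟨?_, by rw [length_ac, h2]⟩
  rw [theta_apply, toFn_ac cs hp.isCartan hA w1 _ h2, h1, toFn_bas]
  rfl

include hA hg in
theorem mem_VT {v : List ℤ} (hv : v.length = l)
    (h : ∀ i : Fin l, (dot (ac Al w1 (gl (bas l i))) v - q * v.getD i 0) % p = 0) :
    RCert.fa l p v ∈ VT hp cs p (cs.wordProd w1) g q := by
  intro x
  refine ev_ext_hom (fun i => ?_) x
  obtain ⟨h1, h2⟩ := theta_bas hp cs hA (w1 := w1) hg i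
  rw [h1, ev_toFn (b := RCert.fa l p v) hv (fun _ => rfl) h2]
  have h3 := h i
  rw [← Int.dvd_iff_emod_eq_zero, ← ZMod.intCast_zmod_eq_zero_iff_dvd, Int.cast_sub, sub_eq_zero] at h3
  rw [h3]
  push_cast
  rfl

include H hA hR hg in
theorem sepVT : Sep cs hp.isCartan (VT hp cs p (cs.wordProd w1) g q) := by
  have key : ∀ r, r < D.nroots → vec D l r = toFn l (RL.getD r []) := by
    intro r hr
    funext i
    exact (hR.2 r hr).2 i
  have hmem : ∀ r, r < D.nroots → RL.getD r [] ∈ RL := by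
    intro r hr
    rw [List.getD_eq_getElem _ _ (by rw [hR.1]; exact hr)]
    exact List.getElem_mem _
  refine Sep.mk' (fun x hx => ?_) (fun i x hx hb => ?_)
  · obtain ⟨r, hr, rfl⟩ := (isRoot_iff hp cs x).1 hx
    obtain ⟨v, hv, h1⟩ := H.nv _ (hmem r hr)
    refine ⟨_, mem_VT hp cs hA hg (H.lv v hv) (H.rv' v hv), ?_⟩
    rw [key r hr, ev_toFn (b := RCert.fa l p v) (H.lv v hv) (fun _ => rfl) (hR.2 r hr).1, Ne,
      ZMod.intCast_zmod_eq_zero_iff_dvd, Int.dvd_iff_emod_eq_zero]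
    exact h1
  · obtain ⟨r, hr, rfl⟩ := (isRoot_iff hp cs x).1 hx
    have h1 := H.sep i _ (hmem r hr) fun v hv => by
      have h2 := hb _ (mem_VT hp cs hA hg (H.lv v hv) (H.rv' v hv))
      rw [key r hr, ev_toFn (b := RCert.fa l p v) (H.lv v hv) (fun _ => rfl) (hR.2 r hr).1, ev_sr] at h2
      rw [← Int.dvd_iff_emod_eq_zero, ← ZMod.intCast_zmod_eq_zero_iff_dvd, Int.cast_sub, sub_eq_zero]
      exact h2
    intro m
    rw [key r hr]
    show (0 : ℤ) ≤ (RL.getD r []).getD m 0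
    rw [List.getD_eq_getElem _ _ (by rw [(hR.2 r hr).1]; exact m.2)]
    exact h1 _ (List.getElem_mem _)

include H hp hA in
theorem w0_pow : cs.wordProd w0 ^ n = 1 := by
  refine eq_one_of_fix cs hp.isCartan _ fun i => ?_
  have h1 := toFn_acn cs hp.isCartan hA w0 n (bas l i) (length_bas i)
  rw [H.one i, toFn_bas] at h1
  rw [map_pow]
  exact h1.symm

include H hA hg in
theorem comm (x : Fin l → ℤ) : rep cs hp.isCartan (cs.wordProd w0) (theta hp cs (cs.wordProd w1) g x) =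
    theta hp cs (cs.wordProd w1) g (rep cs hp.isCartan (cs.wordProd w0) x) := by
  have h1 : (rep cs hp.isCartan (cs.wordProd w0)).toAddMonoidHom.comp (theta hp cs (cs.wordProd w1) g) =
      (theta hp cs (cs.wordProd w1) g).comp (rep cs hp.isCartan (cs.wordProd w0)).toAddMonoidHom := by
    refine hom_ext fun i => ?_
    show rep cs hp.isCartan (cs.wordProd w0) (theta hp cs (cs.wordProd w1) g (sr i)) =
      theta hp cs (cs.wordProd w1) g (rep cs hp.isCartan (cs.wordProd w0) (sr i))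
    obtain ⟨h2, h3⟩ := theta_bas hp cs hA (w1 := w1) hg i
    have h4 : (ac Al w0 (bas l i)).length = l := RCert.length_ac_bas w0 i
    obtain ⟨h5, h6⟩ := hg _ h4
    rw [h2, RCert.rep_bas hp cs hA, theta_apply, ← h5, ← toFn_ac cs hp.isCartan hA w0 _ h3,
      ← toFn_ac cs hp.isCartan hA w1 _ h6, H.com' i]
  exact DFunLike.congr_fun h1 x

include H hA hR hg in
theorem inv [Fact p.Prime] (b : Fin l → ZMod p) (hb : pull cs hp.isCartan b (cs.wordProd w0) = b)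
    (hbV : b ∈ VT hp cs p (cs.wordProd w1) g q) :
    ∃ c, (Rc cs hp.isCartan b c).ncard ≠ (Rc cs hp.isCartan (RCert.fa l p a) c).ncard := by
  have hb1 : ∀ i : Fin l, ∑ k : Fin l, (((CM.getD i []).getD k 0 : ℤ) : ZMod p) * b k = b i := by
    intro i
    have h3 := congrFun hb i
    unfold pull at h3
    rw [RCert.rep_bas hp cs hA, H.cm] at h3
    exact h3
  have hb2 : ∀ i : Fin l, ∑ k : Fin l, (((TM.getD i []).getD k 0 : ℤ) : ZMod p) * b k = (q : ZMod p) * b i := by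
    intro i
    have h3 := hbV (sr i)
    rw [(theta_bas hp cs hA (w1 := w1) hg i).1, ev_sr, H.tm] at h3
    exact h3
  have hb3 : ∀ i : Fin l, ∑ k : Fin l, (((bas l i).getD k 0 : ℤ) : ZMod p) * b k = b i := by
    intro i
    have h6 : ev b (toFn l (bas l i)) = b i := by
      rw [toFn_bas]
      exact ev_sr b i
    exact h6
  set cl : List ℤ := fr.map (fun i => ((b i).val : ℤ)) with hcl
  set bl : List ℤ := lcomb l cl BL with hbl
  have hlen : bl.length = l := by rw [hbl, lcomb, List.length_map, List.length_range]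
  have hval : ∀ j : Fin l, b j = ((bl.getD j 0 : ℤ) : ZMod p) := by
    intro j
    have h1 : ∑ k : Fin l, (((bas l j).getD k 0 -
        (List.zipWith (fun (i : Fin l) (B : List ℤ) => B.getD j 0 * (bas l i).getD k 0) fr BL).sum -
        ∑ i : Fin l, (C.getD j []).getD i 0 * ((CM.getD i []).getD k 0 - (bas l i).getD k 0) -
        ∑ i : Fin l, (C'.getD j []).getD i 0 * ((TM.getD i []).getD k 0 - q * (bas l i).getD k 0) : ℤ) :
          ZMod p) * b k = 0 := by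
      refine Finset.sum_eq_zero fun k _ => ?_
      have h4 := H.fix j k
      rw [← Int.dvd_iff_emod_eq_zero, ← ZMod.intCast_zmod_eq_zero_iff_dvd] at h4
      rw [h4, zero_mul]
    have hz : ∀ (fr : List (Fin l)) (BL : List (List ℤ)),
        ∑ k : Fin l, (((List.zipWith (fun (i : Fin l) (B : List ℤ) => B.getD j 0 * (bas l i).getD k 0) fr BL).sum : ℤ) :
          ZMod p) * b k =
        (((List.zipWith (fun (c : ℤ) (B : List ℤ) => c * B.getD j 0) (fr.map (fun i => ((b i).val : ℤ))) BL).sum : ℤ) :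
          ZMod p) := by
      intro fr
      induction fr with
      | nil => intro BL; simp
      | cons i fr ih =>
        intro BL
        cases BL with
        | nil => simp
        | cons B BL =>
          simp only [List.zipWith_cons_cons, List.map_cons, List.sum_cons, Int.cast_add, add_mul,
            Finset.sum_add_distrib]
          rw [ih BL]
          congr 1
          have h2 := hb3 i
          calc ∑ k : Fin l, ((B.getD j 0 * (bas l i).getD k 0 : ℤ) : ZMod p) * b k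
              = ((B.getD j 0 : ℤ) : ZMod p) * ∑ k : Fin l, (((bas l i).getD k 0 : ℤ) : ZMod p) * b k := by
                rw [Finset.mul_sum]
                exact Finset.sum_congr rfl fun k _ => by rw [Int.cast_mul]; ring
            _ = _ := by
                rw [h2, Int.cast_mul, Int.cast_natCast, ZMod.natCast_zmod_val, mul_comm]
    have hC : ∑ k : Fin l, ((∑ i : Fin l, (C.getD j []).getD i 0 *
        ((CM.getD i []).getD k 0 - (bas l i).getD k 0) : ℤ) : ZMod p) * b k = 0 := by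
      calc _ = ∑ k : Fin l, ∑ i : Fin l, (((C.getD j []).getD i 0 : ℤ) : ZMod p) *
            ((((CM.getD i []).getD k 0 : ℤ) : ZMod p) * b k - (((bas l i).getD k 0 : ℤ) : ZMod p) * b k) := by
            refine Finset.sum_congr rfl fun k _ => ?_
            rw [Int.cast_sum, Finset.sum_mul]
            exact Finset.sum_congr rfl fun i _ => by rw [Int.cast_mul, Int.cast_sub]; ring
        _ = 0 := by
            rw [Finset.sum_comm]
            refine Finset.sum_eq_zero fun i _ => ?_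
            rw [← Finset.mul_sum, Finset.sum_sub_distrib, hb1, hb3, sub_self, mul_zero]
    have hC' : ∑ k : Fin l, ((∑ i : Fin l, (C'.getD j []).getD i 0 *
        ((TM.getD i []).getD k 0 - q * (bas l i).getD k 0) : ℤ) : ZMod p) * b k = 0 := by
      calc _ = ∑ k : Fin l, ∑ i : Fin l, (((C'.getD j []).getD i 0 : ℤ) : ZMod p) *
            ((((TM.getD i []).getD k 0 : ℤ) : ZMod p) * b k -
              (q : ZMod p) * ((((bas l i).getD k 0 : ℤ) : ZMod p) * b k)) := by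
            refine Finset.sum_congr rfl fun k _ => ?_
            rw [Int.cast_sum, Finset.sum_mul]
            exact Finset.sum_congr rfl fun i _ => by
              rw [Int.cast_mul, Int.cast_sub, Int.cast_mul, Int.cast_natCast]; ring
        _ = 0 := by
            rw [Finset.sum_comm]
            refine Finset.sum_eq_zero fun i _ => ?_
            rw [← Finset.mul_sum, Finset.sum_sub_distrib, ← Finset.mul_sum, hb2, hb3, sub_self, mul_zero]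
    have h5 : ∑ k : Fin l, (((bas l j).getD k 0 -
        (List.zipWith (fun (i : Fin l) (B : List ℤ) => B.getD j 0 * (bas l i).getD k 0) fr BL).sum -
        ∑ i : Fin l, (C.getD j []).getD i 0 * ((CM.getD i []).getD k 0 - (bas l i).getD k 0) -
        ∑ i : Fin l, (C'.getD j []).getD i 0 * ((TM.getD i []).getD k 0 - q * (bas l i).getD k 0) : ℤ) :
          ZMod p) * b k = b j - ((bl.getD j 0 : ℤ) : ZMod p) := by
      simp only [Int.cast_sub (R := ZMod p), sub_mul, Finset.sum_sub_distrib]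
      rw [hb3, hz, hC, hC', sub_zero, sub_zero]
      congr 2
      rw [hbl, lcomb, List.getD_eq_getElem _ _ (by rw [List.length_map, List.length_range]; exact j.2),
        List.getElem_map, List.getElem_range]
    rw [h5] at h1
    exact sub_eq_zero.1 h1
  have h4 : ∀ c : ℤ, (Rc cs hp.isCartan b (c : ZMod p)).ncard = cntL p RL bl c := ncard_eq hp cs hR hlen hval
  have h5 : ∀ c : ℤ, (Rc cs hp.isCartan (RCert.fa l p a) (c : ZMod p)).ncard = cntL p RL a c :=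
    ncard_eq hp cs hR H.la (fun _ => rfl)
  have h6 : cl ∈ enumAll p fr.length := by rw [hcl]; exact mem_enumAll b fr
  rcases H.cnt cl h6 with h6 | h6
  · exact ⟨((0 : ℤ) : ZMod p), by rw [h4, h5]; exact h6⟩
  · exact ⟨((1 : ℤ) : ZMod p), by rw [h4, h5]; exact h6⟩

end MCert

section Final

variable {D : ChevalleyDatum} {l p : ℕ} {Al : List (List ℤ)} {gl : List ℤ → List ℤ} {w1 : List (Fin l)} {q : ℕ}
    {VL : List (List ℤ)} {w0 : List (Fin l)} {j : ℕ} {a : List ℤ} {fr : List (Fin l)} {BL C C' TM CM : List (List ℤ)}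
    {RL : List (List ℤ)} (H : MCert D l p Al gl w1 q VL w0 (p ^ j) a fr BL C C' TM CM RL)
    {M : CoxeterMatrix (Fin l)} (hp : IsType D l M) {W : Type*} [Group W] (cs : CoxeterSystem M W)
    (hA : MatList (cartanOf D l) Al) (hR : RootList D l RL) {g : (Fin l → ℤ) ≃+ (Fin l → ℤ)}
    (hg : ∀ v : List ℤ, v.length = l → toFn l (gl v) = g (toFn l v) ∧ (gl v).length = l)

theorem VT_congr {w : W} {q q' : ℕ} (h : (q : ZMod p) = q') : VT hp cs p w g q = VT hp cs p w g q' := by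
  unfold VT
  rw [h]

include H hA hR hg in
/-- **A `p`-element which is not `p`-central.** -/
theorem MCert.not_pcent [Fact p.Prime] {k : Type u} [Field k] [IsAlgClosed k] (hk : LocFin k) {r e : ℕ}
    [Fact r.Prime] [CharP k r] (hpr : p ≠ r) (he : 0 < e) (hq : ((r ^ e : ℕ) : ZMod p) = q) {σ : MulAut ↥(D.group k)}
    (hσ : IsFrob r e σ) (F : Fr cs hp.isCartan (TT D k) (XX D l k) σ g) {d : ℕ} {B : Fin l → Fin l → ℤ}
    (hB : InvC D l d B) (hd : d ≠ 0) {G0 : Type*} [Group G0] [Finite G0] (hc : PCent p G0)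
    {e0 : G0 →* ↥(D.group k)} (he0 : Function.Injective e0) (hfix : ∀ x, σ (e0 x) = e0 x)
    (hrange : ∀ y, σ y = y → (∃ j : ℕ, y ^ p ^ j = 1) → y ∈ e0.range) : False := by
  have hpp : p.Prime := Fact.out
  have hr : Fact r.Prime := inferInstance
  have hpk : ((p : ℕ) : k) ≠ 0 := by
    rw [Ne, CharP.cast_eq_zero_iff k r]
    exact fun h => hpr ((Nat.prime_dvd_prime_iff_eq hr.out hpp).1 h).symm
  have : NeZero ((p : ℕ) : k) := ⟨hpk⟩
  obtain ⟨ζ, hζ'⟩ := HasEnoughRootsOfUnity.exists_primitiveRoot k p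
  have hζ : orderOf ζ = p := hζ'.eq_orderOf.symm
  have hVT : VT hp cs p (cs.wordProd w1) g (r ^ e) = VT hp cs p (cs.wordProd w1) g q := VT_congr hp cs hq
  obtain ⟨b, h1, h2, w', h3⟩ := exists_fix hp cs hζ hk he hσ F hB hd hc he0 hfix hrange (cs.wordProd w1)
    (by rw [hVT]; exact H.sepVT hp cs hA hR hg) (H.w0_pow hp cs hA) (H.comm hp cs hA hg) (a := RCert.fa l p a)
    (by rw [hVT]; exact MCert.mem_VT hp cs hA hg H.la H.ra')
  obtain ⟨c, hc⟩ := H.inv hp cs hA hR hg b h1 (by rw [← hVT]; exact h2)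
  apply hc
  rw [← h3]
  exact (ncard_pull cs hp.isCartan b w' c).symm

end Final

end Cfsg.Agent.H778.Exc
end

-- part: H778/ExcOrb
section
/-!
# Rational elements, twisted version, and certificates by orbits (helper778)

`Rat` : the data of a functional `a` which is conjugate to all its nonzero multiples and fixed by no element of order
`p`; `Rat.comm_tw` : a finite group embedded in the fixed points of `σ`, containing all fixed `p`-elements, all of whose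
`p`-elements are `p`-central, has abelian Sylow `p`-subgroups.
-/

set_option autoImplicit false
set_option linter.unusedSectionVars false

namespace Cfsg.Agent.H778.Exc

open CoxeterSystem Cfsg Cfsg.Lie Cfsg.Lie.ChevalleyDatum
open Cfsg.Agent.ChevalleyStructure Cfsg.Agent.ChevalleyStructure.Elts Cfsg.Agent.ChevalleyStructure.CoxeterGeom
  Cfsg.Agent.ChevalleyStructure.CoxeterGeomTypes Cfsg.Agent.ChevalleyStructure.NPerm
  Cfsg.Agent.ChevalleyStructure.RootVec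
open Cfsg.Agent.Tits.Roots Cfsg.Agent.Tits.Core Cfsg.Agent.Nodes Cfsg.Agent.Nodes.Reps Cfsg.Agent.Nodes.BNOf
  Cfsg.Agent.Nodes.RGDChev Cfsg.Agent.Nodes.Bruhat
open Cfsg.Agent.KFacts.RgdField Cfsg.Agent.KFacts.RgdChevCoord Cfsg.Agent.BpExc.TorCent Cfsg.Agent.BpExc.TorChev
open Cfsg.Agent.GpExc.Field Cfsg.Agent.BpExc.Tow Cfsg.Agent.BpExc.TowChev Cfsg.Agent.BpExc.Fr
  Cfsg.Agent.BpExc.LangFr Cfsg.Agent.LangThm Cfsg.Agent.BpExc Cfsg.Agent.H129.TorusChar Cfsg.Agent.H129.TorusMain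
  Cfsg.Agent.H129.TorusUntw
open Cfsg.Agent.H573 Cfsg.Agent.H130.WeylCk

universe u v

section Comb

variable {l : ℕ} {M : CoxeterMatrix (Fin l)} {W : Type*} [Group W] (cs : CoxeterSystem M W)
  {A : Fin l → Fin l → ℤ} (h : IsCartan M A) {p : ℕ}

/-- **No element of order `p` fixes `a`**, by orbits. -/
theorem no_fix_orb [Finite W] [Fact p.Prime] (h1 : p ∣ Nat.card W) (h2 : ¬ p ^ 2 ∣ Nat.card W) {w0 : W}
    (hw0 : w0 ^ p = 1) (hw1 : w0 ≠ 1) {a : Fin l → ZMod p} {O : Set (Fin l → ZMod p)} (ha : a ∈ O)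
    (hO : ∀ b ∈ O, ∀ i, pull cs h b (cs.simple i) ∈ O) (hne : ∀ b ∈ O, pull cs h b w0 ≠ b)
    {w : W} (hw : w ^ p = 1) (hwa : pull cs h a w = a) : w = 1 := by
  by_contra hne1
  have hp : p.Prime := Fact.out
  have hf : (Nat.card W).factorization p = 1 := by
    have h3 := (hp.dvd_iff_one_le_factorization Nat.card_pos.ne').1 h1
    by_contra h4
    exact h2 ((hp.pow_dvd_iff_le_factorization Nat.card_pos.ne').2 (by omega))
  have ho : ∀ v : W, v ^ p = 1 → v ≠ 1 → Nat.card ↥(Subgroup.zpowers v) = p ^ (Nat.card W).factorization p := by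
    intro v hv hv1
    rw [Nat.card_zpowers, hf, pow_one]
    exact orderOf_eq_prime hv hv1
  let P : Sylow p W := Sylow.ofCard (Subgroup.zpowers w) (ho w hw hne1)
  let Q : Sylow p W := Sylow.ofCard (Subgroup.zpowers w0) (ho w0 hw0 hw1)
  obtain ⟨u, hu⟩ := MulAction.exists_smul_eq W P Q
  have h3 : w0 ∈ u • P := by rw [hu]; exact Subgroup.mem_zpowers w0
  rw [Sylow.smul_def] at h3
  obtain ⟨y, ⟨j, hj⟩, hy⟩ := h3
  have hy' : w0 = u * y * u⁻¹ := hy.symm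
  have hfix : ∀ m : ℤ, pull cs h a (w ^ m) = a := by
    let S : Subgroup W :=
      { carrier := {v | pull cs h a v = a}
        one_mem' := pull_one cs h a
        mul_mem' := by
          intro v v' hv hv'
          show pull cs h a (v * v') = a
          rw [pull_mul, show pull cs h a v = a from hv, show pull cs h a v' = a from hv']
        inv_mem' := by
          intro v hv
          show pull cs h a v⁻¹ = a
          have h4 : pull cs h (pull cs h a v) v⁻¹ = a := by rw [← pull_mul, mul_inv_cancel, pull_one]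
          rwa [show pull cs h a v = a from hv] at h4 }
    intro m
    have h5 : w ∈ S := hwa
    exact S.zpow_mem h5 m
  have hmem : ∀ v : W, ∀ b ∈ O, pull cs h b v ∈ O := by
    intro v
    obtain ⟨ω, rfl⟩ := cs.wordProd_surjective v
    induction ω with
    | nil => intro b hb; rwa [CoxeterSystem.wordProd_nil, pull_one]
    | cons i ω ih =>
      intro b hb
      rw [CoxeterSystem.wordProd_cons, pull_mul]
      exact ih _ (hO b hb i)
  refine hne _ (hmem u⁻¹ a ha) ?_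
  rw [← pull_mul, hy', show u⁻¹ * (u * y * u⁻¹) = y * u⁻¹ by group, pull_mul]
  have : pull cs h a y = a := by
    have h6 : w ^ j = y := hj
    rw [← h6]
    exact hfix j
  rw [this]

end Comb

/-- the certificate by orbits -/
structure OCert (D : ChevalleyDatum) (l p : ℕ) (Al : List (List ℤ)) (g : ℕ) (a : List ℤ) (w1 w0 : List (Fin l))
    (O : List (List ℤ)) : Prop where
  la : a.length = l
  rat : ∀ i : Fin l, (dot (ac Al w1 (bas l i)) a - g * a.getD i 0) % p = 0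
  one : ∀ i : Fin l, acn Al w0 p (bas l i) = bas l i
  ne : ∃ i : Fin l, ac Al w0 (bas l i) ≠ bas l i
  lo : ∀ b ∈ O, b.length = l
  mem : a ∈ O
  cl : ∀ b ∈ O, ∀ i : Fin l, ∃ b' ∈ O, ∀ j : Fin l, (dot (ac Al [i] (bas l j)) b - b'.getD j 0) % p = 0
  nf : ∀ b ∈ O, ∃ j : Fin l, (dot (ac Al w0 (bas l j)) b - b.getD j 0) % p ≠ 0

/-- The data of a rational functional fixed by no element of order `p`. -/
structure Rat {D : ChevalleyDatum} {l : ℕ} {M : CoxeterMatrix (Fin l)} (hp : IsType D l M) {W : Type*} [Group W]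
    (cs : CoxeterSystem M W) (p g : ℕ) (a : List ℤ) (w1 : W) : Prop where
  rat : ∀ i, pull cs hp.isCartan (RCert.fa l p a) w1 i = (g : ZMod p) * RCert.fa l p a i
  nofix : ∀ w : W, w ^ p = 1 → pull cs hp.isCartan (RCert.fa l p a) w = RCert.fa l p a → w = 1

theorem RCert.toRat {D : ChevalleyDatum} {l p : ℕ} {Al : List (List ℤ)} {g : ℕ} {a : List ℤ} {w1 w0 : List (Fin l)}
    {fs : List Bool} {C : List (List ℤ)} {RL : List (List ℤ)} (H : RCert D l p Al g a w1 w0 fs C RL)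
    {M : CoxeterMatrix (Fin l)} (hp : IsType D l M) {W : Type*} [Group W] (cs : CoxeterSystem M W)
    (hA : MatList (cartanOf D l) Al) (hR : RootList D l RL) [Finite W] [Fact p.Prime] (h1 : p ∣ Nat.card W)
    (h2 : ¬ p ^ 2 ∣ Nat.card W) : Rat hp cs p g a (cs.wordProd w1) where
  rat := H.pull_w1 hp cs hA
  nofix := fun _ hw hw' => H.no_fix hp cs hA hR h1 h2 hw hw'

theorem OCert.toRat {D : ChevalleyDatum} {l p : ℕ} {Al : List (List ℤ)} {g : ℕ} {a : List ℤ} {w1 w0 : List (Fin l)}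
    {O : List (List ℤ)} (H : OCert D l p Al g a w1 w0 O)
    {M : CoxeterMatrix (Fin l)} (hp : IsType D l M) {W : Type*} [Group W] (cs : CoxeterSystem M W)
    (hA : MatList (cartanOf D l) Al) [Finite W] [Fact p.Prime] (h1 : p ∣ Nat.card W)
    (h2 : ¬ p ^ 2 ∣ Nat.card W) : Rat hp cs p g a (cs.wordProd w1) := by
  have key : ∀ (b : List ℤ), b.length = l → ∀ (w : List (Fin l)) (i : Fin l),
      pull cs hp.isCartan (RCert.fa l p b) (cs.wordProd w) i = ((dot (ac Al w (bas l i)) b : ℤ) : ZMod p) := by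
    intro b hb w i
    show ev (RCert.fa l p b) (rep cs hp.isCartan (cs.wordProd w) (sr i)) = _
    rw [RCert.rep_bas hp cs hA, ev_toFn (b := RCert.fa l p b) hb (fun _ => rfl) (RCert.length_ac_bas w i)]
  have hz : ∀ x y : ℤ, (x - y) % p = 0 ↔ ((x : ℤ) : ZMod p) = ((y : ℤ) : ZMod p) := by
    intro x y
    rw [← Int.dvd_iff_emod_eq_zero, ← ZMod.intCast_zmod_eq_zero_iff_dvd, Int.cast_sub, sub_eq_zero]
  refine ⟨fun i => ?_, fun w hw hwa => ?_⟩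
  · rw [key a H.la, (hz _ _).1 (H.rat i)]
    push_cast
    rfl
  · refine no_fix_orb cs hp.isCartan h1 h2 (w0 := cs.wordProd w0) ?_ ?_
      (O := {b | ∃ bl ∈ O, b = RCert.fa l p bl}) ⟨a, H.mem, rfl⟩ ?_ ?_ hw hwa
    · refine eq_one_of_fix cs hp.isCartan _ fun i => ?_
      have h1 := toFn_acn cs hp.isCartan hA w0 p (bas l i) (length_bas i)
      rw [H.one i, toFn_bas] at h1
      rw [map_pow]
      exact h1.symm
    · intro h
      obtain ⟨i, hi⟩ := H.ne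
      apply hi
      have h1 := RCert.rep_bas hp cs hA w0 i
      rw [h, map_one, Module.End.one_apply] at h1
      have h2 : toFn l (bas l i) = toFn l (ac Al w0 (bas l i)) := by rw [← h1, toFn_bas]; rfl
      apply List.ext_getElem
      · rw [length_ac]
      · intro n h3 h4
        have h5 : n < l := by rw [RCert.length_ac_bas] at h3; exact h3
        have h6 := congrFun h2 ⟨n, h5⟩
        unfold toFn at h6
        rw [List.getD_eq_getElem _ _ h4, List.getD_eq_getElem _ _ h3] at h6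
        exact h6.symm
    · rintro _ ⟨bl, hbl, rfl⟩ i
      obtain ⟨b', hb', h3⟩ := H.cl bl hbl i
      refine ⟨b', hb', funext fun j => ?_⟩
      have h4 := key bl (H.lo bl hbl) [i] j
      rw [CoxeterSystem.wordProd_singleton] at h4
      rw [h4, (hz _ _).1 (h3 j)]
      rfl
    · rintro _ ⟨bl, hbl, rfl⟩ h3
      obtain ⟨j, hj⟩ := H.nf bl hbl
      apply hj
      rw [hz]
      have h4 := congrFun h3 j
      rw [key bl (H.lo bl hbl)] at h4
      exact h4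

namespace Rat

variable {D : ChevalleyDatum} {l : ℕ} {M : CoxeterMatrix (Fin l)} {hp : IsType D l M} {W : Type*} [Group W]
    {cs : CoxeterSystem M W} {p g0 : ℕ} {a : List ℤ} {w1 : W} (H : Rat hp cs p g0 a w1)

include H

theorem pull_pow (n : ℕ) : pull cs hp.isCartan (RCert.fa l p a) (w1 ^ n) = fun i => (g0 : ZMod p) ^ n * RCert.fa l p a i := by
  funext i
  induction n generalizing i with
  | zero => rw [pow_zero, pull_one, pow_zero, one_mul]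
  | succ n ih =>
    rw [pow_succ', pull_mul]
    have h1 : pull cs hp.isCartan (RCert.fa l p a) w1 = fun i => (g0 : ZMod p) * RCert.fa l p a i := funext fun i => H.rat i
    rw [h1]
    have h2 : ∀ x, ev (fun i => (g0 : ZMod p) * RCert.fa l p a i) x = (g0 : ZMod p) * ev (RCert.fa l p a) x := by
      intro x
      unfold ev
      rw [Finset.mul_sum]
      exact Finset.sum_congr rfl fun i _ => by ring
    show ev _ (rep cs hp.isCartan _ (sr i)) = _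
    rw [h2]
    have h3 := ih i
    rw [show pull cs hp.isCartan (RCert.fa l p a) (w1 ^ n) i =
      ev (RCert.fa l p a) (rep cs hp.isCartan (w1 ^ n) (sr i)) from rfl] at h3
    rw [h3, pow_succ']
    ring

/-- **The twisted version.** -/
theorem comm_tw [Fact p.Prime] (hg0 : ∀ c : ZMod p, c ≠ 0 → ∃ n : ℕ, c = (g0 : ZMod p) ^ n)
    {k : Type u} [Field k] [IsAlgClosed k] (hk : LocFin k) {r e : ℕ}
    [Fact r.Prime] [CharP k r] (hpr : p ≠ r) (he : 0 < e) {σ : MulAut ↥(D.group k)} {g : (Fin l → ℤ) ≃+ (Fin l → ℤ)}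
    (hσ : IsFrob r e σ) (F : Fr cs hp.isCartan (TT D k) (XX D l k) σ g) {d : ℕ} {B : Fin l → Fin l → ℤ}
    (hB : InvC D l d B) (hd : d ≠ 0) (hag : ∀ i, ev (RCert.fa l p a) (g (sr i)) = RCert.fa l p a i)
    {G0 : Type*} [Group G0] [Finite G0] (hc : PCent p G0)
    {e0 : G0 →* ↥(D.group k)} (he0 : Function.Injective e0)
    (hrange : ∀ y, σ y = y → (∃ j : ℕ, y ^ p ^ j = 1) → y ∈ e0.range) (Q : Sylow p G0) : IsMulCommutative Q := by
  have hpp : p.Prime := Fact.out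
  have hr : Fact r.Prime := inferInstance
  have hpk : ((p : ℕ) : k) ≠ 0 := by
    rw [Ne, CharP.cast_eq_zero_iff k r]
    exact fun h => hpr ((Nat.prime_dvd_prime_iff_eq hr.out hpp).1 h).symm
  have : NeZero ((p : ℕ) : k) := ⟨hpk⟩
  obtain ⟨ζ, hζ'⟩ := HasEnoughRootsOfUnity.exists_primitiveRoot k p
  have hζ : orderOf ζ = p := hζ'.eq_orderOf.symm
  obtain ⟨t, ht, htx⟩ := exists_torus_elt hp hζ hB hd (RCert.fa l p a)
  obtain ⟨n, hn⟩ := hg0 ((r ^ e : ℕ) : ZMod p) (by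
    rw [Ne, ZMod.natCast_eq_zero_iff]
    exact fun h => hpr ((Nat.prime_dvd_prime_iff_eq hpp hr.out).1 (hpp.dvd_of_dvd_pow h)))
  have hag' : ∀ x, ev (RCert.fa l p a) (g x) = ev (RCert.fa l p a) x := by
    intro x
    have h1 := MCert.ev_ext_hom (θ := g.toAddMonoidHom) (b := RCert.fa l p a) (c := 1)
      (fun i => by rw [one_mul]; exact hag i) x
    rwa [one_mul] at h1
  have hw : ∀ x, cX hp t (theta hp cs (w1 ^ n) g x) = cX hp t x ^ r ^ e := by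
    intro x
    rw [htx, htx, ← zz_natCast_mul hζ, zz_inj hζ, theta_apply, ← ev_pull, H.pull_pow n, hn]
    have h2 : ∀ x, ev (fun i => (g0 : ZMod p) ^ n * RCert.fa l p a i) x = (g0 : ZMod p) ^ n * ev (RCert.fa l p a) x := by
      intro x
      unfold ev
      rw [Finset.mul_sum]
      exact Finset.sum_congr rfl fun i _ => by ring
    rw [h2, hag']
  obtain ⟨z, hz⟩ := exists_elt_tw hp cs hk he hσ F ht _ hw
  have htp : t ^ p = 1 := pow_eq_one_of_fun hp hζ ht htx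
  obtain ⟨s, hs⟩ := hrange _ hz ⟨1, by rw [pow_one, conj_pow, htp, mul_one, mul_inv_cancel]⟩
  refine comm_of_pcent hp cs hk r hpr hζ ht ?_ (fun w hw1 hw2 => ?_) hc he0 hs Q
  · obtain ⟨j, -, hj⟩ := (Nat.dvd_prime_pow hpp).1 (show orderOf t ∣ p ^ 1 by
      rw [pow_one]; exact orderOf_dvd_of_pow_eq_one htp)
    exact ⟨j, hj⟩
  · refine H.nofix w hw1 (funext fun i => ?_)
    have h3 := hw2 i
    rw [htx, htx, zz_inj hζ, ev_sr] at h3
    exact h3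

end Rat

end Cfsg.Agent.H778.Exc
end

-- part: H778/ExcDataM
section
/-!
# Certificates for `p = 3` and `p = 5` (helper778; generated)
-/

set_option autoImplicit false
set_option maxRecDepth 100000

namespace Cfsg.Agent.H778.Exc

open Cfsg.Agent.H130.WeylTab Cfsg.Agent.H130.WeylCk Cfsg.Agent.ChevalleyStructure.CoxeterGeomTypes

/-- the Cartan matrix of type D4 -/
def alD4 : List (List ℤ) := [[2, -1, 0, 0], [-1, 2, -1, -1], [0, -1, 2, 0], [0, -1, 0, 2]]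

theorem lists_D4 : MatList (cartanOf Cfsg.Lie.chevD4 4) alD4 := by
  unfold MatList
  decide +kernel

/-- the codes of the roots of type G2 -/
def clG2 : List ℕ := [
    101, 117, 118, 119, 135, 120, 152, 137, 153, 154, 155, 171]

/-- the roots of type G2 -/
def rlG2 : List (List ℤ) := clG2.map (decN 2)

theorem rootList_G2 : RootList Cfsg.Lie.chevG2 2 rlG2 := by
  unfold RootList
  decide +kernel

/-- the codes of the roots of type F4 -/
def clF4 : List ℕ := [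
    25926, 30022, 30278, 30294, 30310, 30566, 34662, 30295, 30311, 30567, 34663, 30583, 34679, 34935, 34951, 30312,
    30568, 34664, 30584, 34680, 34936, 30600, 34696, 30856, 39048, 35208, 39304, 34968, 35224, 39320, 35240, 39336,
    39592, 34953, 34969, 35225, 39321, 35241, 39337, 39593, 39609, 35242, 39338, 39594, 39610, 39626, 39882, 43978]

/-- the roots of type F4 -/
def rlF4 : List (List ℤ) := clF4.map (decN 4)

theorem rootList_F4 : RootList Cfsg.Lie.chevF4 4 rlF4 := by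
  unfold RootList
  decide +kernel

theorem cert_G2_3 : RCert Cfsg.Lie.chevG2 2 3 alG2 2 [0, 1]
    [1, 0, 1, 0, 1]
    [0, 1, 0, 1] [true, false] [[], [1, 0]] rlG2 where
  la := rfl
  rat := by decide +kernel
  one := by rewrite [Cfsg.Agent.WeylFast.acn_eq]; decide +kernel
  ne := by decide +kernel
  lf := rfl
  fix := by decide +kernel
  cnt := by decide +kernel

private theorem _root_.Cfsg.Agent.KO32bcdca.e0.{ku, kv} {α : Type kv} {M : List α → Sort ku} (φ : ∀ l, M l) {z : M List.nil} {s : ∀ a l, M l → M (List.cons a l)} (h0 : φ List.nil = z) (hs : ∀ a l, φ (List.cons a l) = s a l (φ l)) (l : List α) : φ l = @List.rec α M z s l := List.rec h0 (fun a l ih => (hs a l).trans (congrArg (s a l) ih)) l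
private theorem _root_.Cfsg.Agent.KO32bcdca.e2.{ku} {M : Nat → Sort ku} (φ : ∀ n, M n) {z : M Nat.zero} {s : ∀ n, M n → M (Nat.succ n)} (h0 : φ Nat.zero = z) (hs : ∀ n, φ (Nat.succ n) = s n (φ n)) (n : Nat) : φ n = @Nat.rec M z s n := Nat.rec h0 (fun n ih => (hs n).trans (congrArg (s n) ih)) n
private noncomputable def _root_.Cfsg.Agent.KO32bcdca.k3 : type_of% @Int.add := @(fun x0 x1 => @Int.rec.{1} @(fun x2 => ℤ) @(fun x2 => @Int.rec.{1} @(fun x3 => ℤ) @(fun x3 => @Int.ofNat (@Nat.add @x2 @x3)) @(fun x3 => @Nat.rec.{1} @(fun x4 => ℤ) (@Int.ofNat (@Nat.sub @x2 (@Nat.succ @x3))) @(fun x4 x5 => @Int.negSucc @x4) (@Nat.sub (@Nat.succ @x3) @x2)) @x1) @(fun x2 => @Int.rec.{1} @(fun x3 => ℤ) @(fun x3 => @Nat.rec.{1} @(fun x4 => ℤ) (@Int.ofNat (@Nat.sub @x3 (@Nat.succ @x2))) @(fun x4 x5 => @Int.negSucc @x4) (@Nat.sub (@Nat.succ @x2) @x3)) @(fun x3 => @Int.negSucc (@Nat.succ (@Nat.add @x2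 @x3))) @x1) @x0)
private theorem _root_.Cfsg.Agent.KO32bcdca.e3 : @Int.add = @_root_.Cfsg.Agent.KO32bcdca.k3 := by delta _root_.Cfsg.Agent.KO32bcdca.k3; rfl'
private noncomputable def _root_.Cfsg.Agent.KO32bcdca.k5 : type_of% @Decidable.decide := @(fun x0 x1 => @Decidable.rec.{1} _ @(fun x2 => @Bool) @(fun x2 => @Bool.false) @(fun x2 => @Bool.true) @x1)
private theorem _root_.Cfsg.Agent.KO32bcdca.e5 : @Decidable.decide = @_root_.Cfsg.Agent.KO32bcdca.k5 := by delta _root_.Cfsg.Agent.KO32bcdca.k5; rfl'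
private noncomputable def _root_.Cfsg.Agent.KO32bcdca.k7 : type_of% @Nat.decEq := @(fun x0 x1 => @Bool.rec.{1} @(fun x2 => (@Eq.{1} _ (@Nat.beq @x0 @x1) @x2) → @Decidable (@Eq.{1} _ @x0 @x1)) @(fun x2 => @Decidable.isFalse _ (@Nat.ne_of_beq_eq_false _ _ @x2)) @(fun x2 => @Decidable.isTrue _ (@Nat.eq_of_beq_eq_true _ _ @x2)) (@Nat.beq @x0 @x1) (@Eq.refl.{1} _ (@Nat.beq @x0 @x1)))
private theorem _root_.Cfsg.Agent.KO32bcdca.e7 : @Nat.decEq = @_root_.Cfsg.Agent.KO32bcdca.k7 := by delta _root_.Cfsg.Agent.KO32bcdca.k7; rfl'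
private noncomputable def _root_.Cfsg.Agent.KO32bcdca.k10l (n : Nat) (P : ∀ k, k < n → Prop) (H : ∀ k h, Decidable (P k h)) (m : Nat) : m ≤ n → Bool := @Nat.rec (fun m => m ≤ n → Bool) (fun _ => true) (fun k ih h => @Decidable.rec (P k h) (fun _ => Bool) (fun _ => false) (fun _ => ih (Nat.le_of_succ_le h)) (H k h)) m
private theorem _root_.Cfsg.Agent.KO32bcdca.k10ls (n : Nat) (P : ∀ k, k < n → Prop) (H : ∀ k h, Decidable (P k h)) (m : Nat) : ∀ h : m ≤ n, _root_.Cfsg.Agent.KO32bcdca.k10l n P H m h = true ↔ ∀ k (g : k < m), P k (Nat.lt_of_lt_of_le g h) := by induction m with | zero => exact fun _ => ⟨fun _ _ g => absurd g (Nat.not_lt_zero _), fun _ => rfl⟩ | succ m ih => intro h; show @Decidable.rec (P m h) (fun _ => Bool) (fun _ => false) (fun _ => _root_.Cfsg.Agent.KO32bcdca.k10l n P H m (Nat.le_of_succ_le h)) (H m h) = true ↔ _; cases H m h with | isFalse q => exact ⟨fun g => absurd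 g Bool.false_ne_true, fun g => absurd (g m (Nat.lt_succ_self m)) q⟩ | isTrue q => exact ⟨fun g k hk => (Nat.lt_succ_iff_lt_or_eq.1 hk).elim ((ih _).1 g k) fun e => by subst e; exact q, fun g => (ih _).2 fun k hk => g k (Nat.lt_succ_of_lt hk)⟩
private noncomputable def _root_.Cfsg.Agent.KO32bcdca.k10 (n : Nat) (P : ∀ k, k < n → Prop) (H : ∀ k h, Decidable (P k h)) : Decidable (∀ k h, P k h) := @Bool.rec (fun b => _root_.Cfsg.Agent.KO32bcdca.k10l n P H n (Nat.le_refl n) = b → Decidable (∀ k h, P k h)) (fun g => isFalse fun q => Bool.false_ne_true (g.symm.trans ((_root_.Cfsg.Agent.KO32bcdca.k10ls n P H n _).2 fun k h => q k h))) (fun g => isTrue fun k h => (_root_.Cfsg.Agent.KO32bcdca.k10ls n P H n _).1 g k h) (_root_.Cfsg.Agent.KO32bcdca.k10l n P H n (Nat.le_refl n)) rfl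
private theorem _root_.Cfsg.Agent.KO32bcdca.e10 : @Nat.decidableBallLT = @_root_.Cfsg.Agent.KO32bcdca.k10 := funext fun _ => funext fun _ => funext fun _ => Subsingleton.elim _ _
private noncomputable def _root_.Cfsg.Agent.KO32bcdca.k12.{ku0} : type_of% @List.get?Internal.{ku0} := @(fun x0 x1 x2 => @List.rec.{(ku0+1), ku0} @x0 @(fun x3 => ℕ → @Option.{ku0} @x0) @(fun x3 => @Option.none.{ku0} _) @(fun x3 x4 x5 x6 => @Nat.rec.{(ku0+1)} @(fun x7 => @Option.{ku0} @x0) (@Option.some.{ku0} _ @x3) @(fun x7 x8 => @x5 @x7) @x6) @x1 @x2)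
private theorem _root_.Cfsg.Agent.KO32bcdca.e12.{ku0} : @List.get?Internal.{ku0} = @_root_.Cfsg.Agent.KO32bcdca.k12.{ku0} := by delta _root_.Cfsg.Agent.KO32bcdca.k12; funext a0 a1 a2; refine (congrFun (_root_.Cfsg.Agent.KO32bcdca.e0 (fun a1 a2 => @List.get?Internal.{ku0} a0 a1 a2) ?_ (fun c0 c1 => ?_) a1) a2 :) <;> [(funext b0; (rfl')); (funext b0; (cases b0 with | @zero  => (rfl') | @succ b0_0 => (rfl')))]
private noncomputable def _root_.Cfsg.Agent.KO32bcdca.k13.{ku0} : type_of% @List.getD.{ku0} := @(fun x0 x1 x2 x3 => @Option.rec.{(ku0+1), ku0} @x0 @(fun x4 => @x0) @x3 @(fun x4 => @x4) (@Cfsg.Agent.KO32bcdca.k12.{ku0} _ @x1 @x2))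
private theorem _root_.Cfsg.Agent.KO32bcdca.e13.{ku0} : @List.getD.{ku0} = @_root_.Cfsg.Agent.KO32bcdca.k13.{ku0} := by delta _root_.Cfsg.Agent.KO32bcdca.k13; rewrite [← Cfsg.Agent.KO32bcdca.e12.{ku0}]; rfl'
private noncomputable def _root_.Cfsg.Agent.KO32bcdca.k14 : type_of% @Nat.decidableForallFin := @(fun x0 x1 x2 => @Decidable.rec.{1} _ @(fun x3 => @Decidable ((x4 : @Fin @x0) → @x1 @x4)) @(fun x3 => @Decidable.isFalse _ (@decidable_of_decidable_of_iff._proof_1 _ _ (@Nat.decidableForallFin._proof_1 _ @x1) @x3)) @(fun x3 => @Decidable.isTrue _ (@Iff.mp _ _ (@Nat.decidableForallFin._proof_1 _ @x1) @x3)) (@Cfsg.Agent.KO32bcdca.k10 @x0 @(fun x3 x4 => @x1 (@Fin.mk _ @x3 @x4)) @(fun x3 x4 => @x2 (@Fin.mk _ @x3 @x4))))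
private theorem _root_.Cfsg.Agent.KO32bcdca.e14 : @Nat.decidableForallFin = @_root_.Cfsg.Agent.KO32bcdca.k14 := by delta _root_.Cfsg.Agent.KO32bcdca.k14; rewrite [← Cfsg.Agent.KO32bcdca.e10]; rfl'
private noncomputable def _root_.Cfsg.Agent.KO32bcdca.k15 : type_of% @Int.decEq := @(fun x0 x1 => @Int.rec.{1} @(fun x2 => @Decidable (@Eq.{1} _ @x2 @x1)) @(fun x2 => @Int.rec.{1} @(fun x3 => @Decidable (@Eq.{1} _ (@Int.ofNat @x2) @x3)) @(fun x3 => @Decidable.rec.{1} _ @(fun x4 => @Decidable (@Eq.{1} _ (@Int.ofNat @x2) (@Int.ofNat @x3))) @(fun x4 => @Decidable.isFalse _ (@Int.decEq._proof_2 @x2 @x3 @x4)) @(fun x4 => @Decidable.isTrue _ (@Int.decEq._proof_1 @x2 @x3 @x4)) (@Cfsg.Agent.KO32bcdca.k7 @x2 @x3)) @(fun x3 => @Decidable.isFalse _ (@Int.decEq._proof_3 @x2 @x3)) @x1) @(fun x2 => @Int.rec.{1} @(fun x3 => @Decidable (@Eq.{1} _ (@Int.negSucc @x2) @x3)) @(fun x3 => @Decidable.isFalse _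 (@Int.decEq._proof_4 @x2 @x3)) @(fun x3 => @Decidable.rec.{1} _ @(fun x4 => @Decidable (@Eq.{1} _ (@Int.negSucc @x2) (@Int.negSucc @x3))) @(fun x4 => @Decidable.isFalse _ (@Int.decEq._proof_6 @x2 @x3 @x4)) @(fun x4 => @Decidable.isTrue _ (@Int.decEq._proof_5 @x2 @x3 @x4)) (@Cfsg.Agent.KO32bcdca.k7 @x2 @x3)) @x1) @x0)
private theorem _root_.Cfsg.Agent.KO32bcdca.e15 : @Int.decEq = @_root_.Cfsg.Agent.KO32bcdca.k15 := by delta _root_.Cfsg.Agent.KO32bcdca.k15; rewrite [← Cfsg.Agent.KO32bcdca.e7]; rfl'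
private noncomputable def _root_.Cfsg.Agent.KO32bcdca.k16 : type_of% @Int.instDecidableEq := @Cfsg.Agent.KO32bcdca.k15
private theorem _root_.Cfsg.Agent.KO32bcdca.e16 : @Int.instDecidableEq = @_root_.Cfsg.Agent.KO32bcdca.k16 := by delta _root_.Cfsg.Agent.KO32bcdca.k16; rewrite [← Cfsg.Agent.KO32bcdca.e15]; rfl'
private noncomputable def _root_.Cfsg.Agent.KO32bcdca.k24.{ku0} : type_of% @List.decidableBAll.{ku0} := @(fun x0 x1 x2 x3 => @List.rec.{1, ku0} @x0 @(fun x4 => @Decidable ((x5 : @x0) → (@Membership.mem.{ku0, ku0} _ _ _ @x4 @x5) → @x1 @x5)) (@Decidable.isTrue _ (@List.decidableBAll._proof_1.{ku0} _ @x1)) @(fun x4 x5 x6 => @Decidable.rec.{1} _ @(fun x7 => @Decidable ((x8 : @x0) → (@Membership.mem.{ku0, ku0} _ _ _ (@x4 :: @x5) @x8) → @x1 @x8)) @(fun x7 => @Decidable.isFalse _ (@List.decidableBAll._proof_4.{ku0} _ @x1 @x4 @x5 @x7)) @(fun x7 => @Decidable.rec.{1} _ @(fun x8 => @Decidable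 ((x9 : @x0) → (@Membership.mem.{ku0, ku0} _ _ _ (@x4 :: @x5) @x9) → @x1 @x9)) @(fun x8 => @Decidable.isFalse _ (@List.decidableBAll._proof_3.{ku0} _ @x1 @x4 @x5 @x8)) @(fun x8 => @Decidable.isTrue _ (@List.decidableBAll._proof_2.{ku0} _ @x1 @x4 @x5 @x7 @x8)) @x6) (@x2 @x4)) @x3)
private theorem _root_.Cfsg.Agent.KO32bcdca.e24.{ku0} : @List.decidableBAll.{ku0} = @_root_.Cfsg.Agent.KO32bcdca.k24.{ku0} := by delta _root_.Cfsg.Agent.KO32bcdca.k24; funext a0 a1 a2 a3; refine (_root_.Cfsg.Agent.KO32bcdca.e0 (fun a3 => @List.decidableBAll.{ku0} a0 a1 a2 a3) ?_ (fun c0 c1 => ?_) a3 :) <;> (rfl')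
private noncomputable def _root_.Cfsg.Agent.KO32bcdca.k25.{ku0} : type_of% @List.decidableBEx.{ku0} := @(fun x0 x1 x2 x3 => @List.rec.{1, ku0} @x0 @(fun x4 => @Decidable (@Exists.{(ku0+1)} _ @(fun x5 => @And (@Membership.mem.{ku0, ku0} _ _ _ @x4 @x5) (@x1 @x5)))) (@Decidable.isFalse _ (@List.decidableBEx._proof_1.{ku0} _ @x1)) @(fun x4 x5 x6 => @Decidable.rec.{1} _ @(fun x7 => @Decidable (@Exists.{(ku0+1)} _ @(fun x8 => @And (@Membership.mem.{ku0, ku0} _ _ _ (@x4 :: @x5) @x8) (@x1 @x8)))) @(fun x7 => @Decidable.rec.{1} _ @(fun x8 => @Decidable (@Exists.{(ku0+1)} _ @(fun x9 => @And (@Membership.mem.{ku0, ku0} _ _ _ (@x4 :: @x5) @x9) (@x1 @x9)))) @(fun x8 => @Decidable.isFalse _ (@List.decidableBEx._proof_4.{ku0} _ @x1 @x4 @x5 @x7 @x8)) @(fun x8 => @Decidable.isTrue _ (@List.decidableBEx._proof_3.{ku0} _ @x1 @x4 @x5 @x8)) @x6) @(fun x7 => @Decidable.isTrue _ (@List.decidableBEx._proof_2.{ku0}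 _ @x1 @x4 @x5 @x7)) (@x2 @x4)) @x3)
private theorem _root_.Cfsg.Agent.KO32bcdca.e25.{ku0} : @List.decidableBEx.{ku0} = @_root_.Cfsg.Agent.KO32bcdca.k25.{ku0} := by delta _root_.Cfsg.Agent.KO32bcdca.k25; funext a0 a1 a2 a3; refine (_root_.Cfsg.Agent.KO32bcdca.e0 (fun a3 => @List.decidableBEx.{ku0} a0 a1 a2 a3) ?_ (fun c0 c1 => ?_) a3 :) <;> (rfl')
private noncomputable def _root_.Cfsg.Agent.KO32bcdca.k26 : type_of% @Int.mul := @(fun x0 x1 => @Int.rec.{1} @(fun x2 => ℤ) @(fun x2 => @Int.rec.{1} @(fun x3 => ℤ) @(fun x3 => @Int.ofNat (@Nat.mul @x2 @x3)) @(fun x3 => @Nat.rec.{1} @(fun x4 => ℤ) (@Int.ofNat (nat_lit 0)) @(fun x4 x5 => @Int.negSucc @x4) (@Nat.mul @x2 (@Nat.succ @x3))) @x1) @(fun x2 => @Int.rec.{1} @(fun x3 => ℤ) @(fun x3 => @Nat.rec.{1} @(fun x4 => ℤ) (@Int.ofNat (nat_lit 0)) @(fun x4 x5 => @Int.negSucc @x4) (@Nat.mul (@Nat.succ @x2) @x3)) @(fun x3 => @Int.ofNat (@Nat.mul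 (@Nat.succ @x2) (@Nat.succ @x3))) @x1) @x0)
private theorem _root_.Cfsg.Agent.KO32bcdca.e26 : @Int.mul = @_root_.Cfsg.Agent.KO32bcdca.k26 := by delta _root_.Cfsg.Agent.KO32bcdca.k26; rfl'
private noncomputable def _root_.Cfsg.Agent.KO32bcdca.k27 : (by first | exact type_of% @Cfsg.Agent.H130.WeylCk.dot | exact Unit : Sort _) := by first | (refine @Subtype.val _ (fun g => @Cfsg.Agent.H130.WeylCk.dot = @g) (@Subtype.mk _ _ (@(fun x0 x1 => @List.rec.{1, 0} ℤ @(fun x2 => (@List.{0} ℤ) → ℤ) @(fun x2 => @Int.ofNat (nat_lit 0)) @(fun x2 x3 x4 x5 => @List.rec.{1, 0} ℤ @(fun x6 => ℤ) (@Int.ofNat (nat_lit 0)) @(fun x6 x7 x8 => @Cfsg.Agent.KO32bcdca.k3 (@Cfsg.Agent.KO32bcdca.k26 @x2 @x6) (@x4 @x7)) @x5) @x0 @x1)) ?_); rewrite [← Cfsg.Agent.KO32bcdca.e26, ← Cfsg.Agent.KO32bcdca.e3]; funext a0 a1; refine (congrFun (_root_.Cfsg.Agent.KO32bcdca.e0 (fun a0 a1 => @Cfsg.Agent.H130.WeylCk.dot a0 a1)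 ?_ (fun c0 c1 => ?_) a0) a1 :) <;> (rfl')) | exact @Cfsg.Agent.H130.WeylCk.dot | exact ()
private theorem _root_.Cfsg.Agent.KO32bcdca.e27 : (by first | exact @Cfsg.Agent.H130.WeylCk.dot = @_root_.Cfsg.Agent.KO32bcdca.k27 | exact True : Prop) := by first | (delta _root_.Cfsg.Agent.KO32bcdca.k27; exact @Subtype.property _ (fun g => @Cfsg.Agent.H130.WeylCk.dot = @g) _) | rfl | trivial
private noncomputable def _root_.Cfsg.Agent.KO32bcdca.k28.{ku0, ku1} : type_of% @List.foldr.{ku0, ku1} := @(fun x0 x1 x2 x3 x4 => @List.rec.{(ku1+1), ku0} @x0 @(fun x5 => @x1) @x3 @(fun x5 x6 x7 => @x2 @x5 @x7) @x4)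
private theorem _root_.Cfsg.Agent.KO32bcdca.e28.{ku0, ku1} : @List.foldr.{ku0, ku1} = @_root_.Cfsg.Agent.KO32bcdca.k28.{ku0, ku1} := by delta _root_.Cfsg.Agent.KO32bcdca.k28; funext a0 a1 a2 a3 a4; refine (_root_.Cfsg.Agent.KO32bcdca.e0 (fun a4 => @List.foldr.{ku0, ku1} a0 a1 a2 a3 a4) ?_ (fun c0 c1 => ?_) a4 :) <;> (rfl')
private noncomputable def _root_.Cfsg.Agent.KO32bcdca.k30.{ku0} : type_of% @List.set.{ku0} := @(fun x0 x1 x2 x3 => @List.rec.{(ku0+1), ku0} @x0 @(fun x4 => ℕ → @x0 → @List.{ku0} @x0) @(fun x4 x5 => []) @(fun x4 x5 x6 x7 x8 => @Nat.rec.{(ku0+1)} @(fun x9 => @List.{ku0} @x0) (@x8 :: @x5) @(fun x9 x10 => @x4 :: (@x6 @x9 @x8)) @x7) @x1 @x2 @x3)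
private theorem _root_.Cfsg.Agent.KO32bcdca.e30.{ku0} : @List.set.{ku0} = @_root_.Cfsg.Agent.KO32bcdca.k30.{ku0} := by delta _root_.Cfsg.Agent.KO32bcdca.k30; funext a0 a1 a2 a3; refine (congrFun (congrFun (_root_.Cfsg.Agent.KO32bcdca.e0 (fun a1 a2 a3 => @List.set.{ku0} a0 a1 a2 a3) ?_ (fun c0 c1 => ?_) a1) a2) a3 :) <;> [(funext b0 b1; (rfl')); (funext b0 b1; (cases b0 with | @zero  => (rfl') | @succ b0_0 => (rfl')))]
private noncomputable def _root_.Cfsg.Agent.KO32bcdca.k31 : (by first | exact type_of% @Cfsg.Agent.H130.WeylCk.rf | exact Unit : Sort _) := by first | (refine @Subtype.val _ (fun g => @Cfsg.Agent.H130.WeylCk.rf = @g) (@Subtype.mk _ _ (@(fun x0 x1 x2 => @Cfsg.Agent.KO32bcdca.k30.{0} _ @x2 @x1 (@Cfsg.Agent.KO32bcdca.k3 (@Option.rec.{1, 0} ℤ @(fun x3 => ℤ) (@Int.ofNat (nat_lit 0)) @(fun x3 => @x3) (@Cfsg.Agent.KO32bcdca.k12.{0} _ @x2 @x1)) (@Int.rec.{1} @(fun x3 => ℤ) @(fun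 x3 => @Nat.rec.{1} @(fun x4 => ℤ) (@Int.ofNat (nat_lit 0)) @(fun x4 x5 => @Int.negSucc @x4) @x3) @(fun x3 => @Int.ofNat (@Nat.succ @x3)) (@Cfsg.Agent.KO32bcdca.k27 (@Option.rec.{1, 0} (@List.{0} ℤ) @(fun x3 => @List.{0} ℤ) [] @(fun x3 => @x3) (@Cfsg.Agent.KO32bcdca.k12.{0} _ @x0 @x1)) @x2))))) ?_); rewrite [← Cfsg.Agent.KO32bcdca.e27, ← Cfsg.Agent.KO32bcdca.e12.{0}, ← Cfsg.Agent.KO32bcdca.e3, ← Cfsg.Agent.KO32bcdca.e30.{0}]; (try delta Cfsg.Agent.H130.WeylCk.rf); (try generalize @Cfsg.Agent.H130.WeylCk.dot = g0); rfl') | exact @Cfsg.Agent.H130.WeylCk.rf | exact ()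
private theorem _root_.Cfsg.Agent.KO32bcdca.e31 : (by first | exact @Cfsg.Agent.H130.WeylCk.rf = @_root_.Cfsg.Agent.KO32bcdca.k31 | exact True : Prop) := by first | (delta _root_.Cfsg.Agent.KO32bcdca.k31; exact @Subtype.property _ (fun g => @Cfsg.Agent.H130.WeylCk.rf = @g) _) | rfl | trivial
private noncomputable def _root_.Cfsg.Agent.KO32bcdca.k32 : (by first | exact type_of% @Cfsg.Agent.H130.WeylCk.ac | exact Unit : Sort _) := by first | (refine @Subtype.val _ (fun g => @Cfsg.Agent.H130.WeylCk.ac = @g) (@Subtype.mk _ _ (@(fun x0 x1 x2 x3 => @Cfsg.Agent.KO32bcdca.k28.{0, 0} _ _ @(fun x4 x5 => @Cfsg.Agent.KO32bcdca.k31 @x1 (@Fin.val _ @x4) @x5) @x3 @x2)) ?_); rewrite [← Cfsg.Agent.KO32bcdca.e31, ← Cfsg.Agent.KO32bcdca.e28.{0, 0}]; (try delta Cfsg.Agent.H130.WeylCk.ac); (try generalize @Cfsg.Agent.H130.WeylCk.rf = g0); rfl') | exact @Cfsg.Agent.H130.WeylCk.ac | exact ()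
private theorem _root_.Cfsg.Agent.KO32bcdca.e32 : (by first | exact @Cfsg.Agent.H130.WeylCk.ac = @_root_.Cfsg.Agent.KO32bcdca.k32 | exact True : Prop) := by first | (delta _root_.Cfsg.Agent.KO32bcdca.k32; exact @Subtype.property _ (fun g => @Cfsg.Agent.H130.WeylCk.ac = @g) _) | rfl | trivial
private noncomputable def _root_.Cfsg.Agent.KO32bcdca.k33.{ku0} : type_of% @List.replicate.{ku0} := @(fun x0 x1 x2 => @Nat.rec.{(ku0+1)} @(fun x3 => @x0 → @List.{ku0} @x0) @(fun x3 => []) @(fun x3 x4 x5 => @x5 :: (@x4 @x5)) @x1 @x2)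
private theorem _root_.Cfsg.Agent.KO32bcdca.e33.{ku0} : @List.replicate.{ku0} = @_root_.Cfsg.Agent.KO32bcdca.k33.{ku0} := by delta _root_.Cfsg.Agent.KO32bcdca.k33; funext a0 a1 a2; refine (congrFun (_root_.Cfsg.Agent.KO32bcdca.e2 (fun a1 a2 => @List.replicate.{ku0} a0 a1 a2) ?_ (fun c0 => ?_) a1) a2 :) <;> (rfl')
private noncomputable def _root_.Cfsg.Agent.KO32bcdca.k34 : (by first | exact type_of% @Cfsg.Agent.H130.WeylCk.bas | exact Unit : Sort _) := by first | (refine @Subtype.val _ (fun g => @Cfsg.Agent.H130.WeylCk.bas = @g) (@Subtype.mk _ _ (@(fun x0 x1 => @Cfsg.Agent.KO32bcdca.k30.{0} _ (@Cfsg.Agent.KO32bcdca.k33.{0} _ @x0 (@Int.ofNat (nat_lit 0))) @x1 (@Int.ofNat (nat_lit 1)))) ?_); rewrite [← Cfsg.Agent.KO32bcdca.e33.{0}, ← Cfsg.Agent.KO32bcdca.e30.{0}]; rfl') | exact @Cfsg.Agent.H130.WeylCk.bas | exact ()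
private theorem _root_.Cfsg.Agent.KO32bcdca.e34 : (by first | exact @Cfsg.Agent.H130.WeylCk.bas = @_root_.Cfsg.Agent.KO32bcdca.k34 | exact True : Prop) := by first | (delta _root_.Cfsg.Agent.KO32bcdca.k34; exact @Subtype.property _ (fun g => @Cfsg.Agent.H130.WeylCk.bas = @g) _) | rfl | trivial

theorem cert_D4_3 : OCert Cfsg.Lie.chevD4 4 3 alD4 2 [0, 1, 0, 0] [1, 2, 0, 1, 3, 1, 2, 0, 1] [0, 1]
    [[0, 1, 0, 0], [1, -1, 1, 1], [-1, 0, 1, 1], [1, 0, -1, 1], [1, 0, 1, -1], [-1, 1, 1, -1], [1, 1, -1, -1], [-1,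
    -1, -1, -1], [-1, -1, 0, 0], [1, 1, 0, 0], [-1, -1, 1, 1], [1, 1, 1, 1], [-1, 0, -1, 1], [-1, 0, 1, -1], [1,
    -1, 1, -1], [-1, 1, -1, -1], [1, 0, -1, -1], [0, -1, 0, 0], [1, -1, -1, 1], [0, 1, 1, 0], [0, -1, -1, 0], [0,
    1, 0, 1], [0, -1, 0, -1], [-1, 1, -1, 1]] where
  la := rfl
  rat := by decide +kernel
  one := by rewrite [Cfsg.Agent.WeylFast.acn_eq]; decide +kernel
  ne := by decide +kernel
  lo := by decide +kernel
  mem := by decide +kernel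
  cl := by (first | (refine of_decide_eq_true ?_; rewrite [Cfsg.Agent.KO32bcdca.e5, Cfsg.Agent.KO32bcdca.e24.{0}, Cfsg.Agent.KO32bcdca.e14, Cfsg.Agent.KO32bcdca.e25.{0}, Cfsg.Agent.KO32bcdca.e16, Cfsg.Agent.KO32bcdca.e27, Cfsg.Agent.KO32bcdca.e32, Cfsg.Agent.KO32bcdca.e34, Cfsg.Agent.KO32bcdca.e13.{0}]; decide +kernel) | decide +kernel)
  nf := by decide +kernel

/-- a word -/
def cwF4 : List (Fin 4) := [0, 2, 1, 3, 0, 2, 1, 3, 0, 2, 1, 3, 0, 2, 1, 3]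

/-- its matrix -/
def cMF4 : List (List ℤ) := [[0, 1, 1, 1], [-1, -3, -2, -1], [2, 4, 2, 1], [-2, -2, -1, -1]]

/-- fixed functionals -/
def bLF4 : List (List ℤ) := [[1, 0, 1, 0], [0, -1, 0, 1]]

private def sDg (q : ℕ) (x : ℤ) : ℕ := (x % (q : ℤ)).toNat
private def sCol (q : ℕ) (R : List (List ℤ)) : ℕ :=
  @List.rec (List ℤ) (fun _ => ℕ) 0 (fun v _ s => Nat.add (sDg q (v.headD 0)) (Nat.mul 256 s)) R
private def sCmb (q : ℕ) (b : List ℤ) : List (List ℤ) → ℕ :=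
  @List.rec ℤ (fun _ => List (List ℤ) → ℕ) (fun _ => 0)
    (fun x _ ih R => Nat.add (Nat.mul (sCol q R) (sDg q x)) (ih (R.map List.tail))) b
private def sDot (q : ℕ) (b : List ℤ) : List ℤ → ℕ :=
  @List.rec ℤ (fun _ => List ℤ → ℕ) (fun _ => 0)
    (fun x _ ih v => sDg q (v.headD 0) * sDg q x + ih v.tail) b
private def sCnt (q k n : ℕ) : ℕ → ℕ :=
  @Nat.rec (fun _ => ℕ → ℕ) (fun _ => 0) (fun _ ih x =>
    @Bool.rec (fun _ => ℕ) (ih (Nat.shiftRight x 8)) (Nat.succ (ih (Nat.shiftRight x 8)))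
      (Nat.beq (Nat.mod (Nat.land x 255) q) k)) n
private def sAll (q : ℕ) (R : List (List ℤ)) (b : List ℤ) (c : ℤ) : ℕ :=
  @Bool.rec (fun _ => ℕ) (cntL q R b c) (sCnt q (sDg q c) R.length (sCmb q b R))
    (Nat.ble (b.length * (q * q)) 255 && Nat.ble 1 q)

private theorem sCmb_cons (q : ℕ) (b : List ℤ) : ∀ (v : List ℤ) (R : List (List ℤ)),
    sCmb q b (v :: R) = sDot q b v + 256 * sCmb q b R := by
  induction b with
  | nil => intro _ _; rfl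
  | cons x b ih =>
    intro v R
    change (sDg q (v.headD 0) + 256 * sCol q R) * sDg q x + sCmb q b (v.tail :: R.map List.tail) =
      sDg q (v.headD 0) * sDg q x + sDot q b v.tail + 256 * (sCol q R * sDg q x + sCmb q b (R.map List.tail))
    rw [ih]; ring

private theorem sDg_cast {q : ℕ} (hq : 1 ≤ q) (x : ℤ) : (sDg q x : ℤ) = x % q :=
  Int.toNat_of_nonneg (Int.emod_nonneg _ (by omega))

private theorem sDg_lt {q : ℕ} (hq : 1 ≤ q) (x : ℤ) : sDg q x < q := by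
  have h := Int.emod_lt_of_pos x (show (0 : ℤ) < q by omega)
  rw [← sDg_cast hq] at h
  exact_mod_cast h

private theorem sDot_le {q : ℕ} (hq : 1 ≤ q) (b : List ℤ) : ∀ v, sDot q b v ≤ b.length * (q * q) := by
  induction b with
  | nil => intro _; exact Nat.zero_le _
  | cons x b ih =>
    intro v
    change sDg q (v.headD 0) * sDg q x + sDot q b v.tail ≤ (b.length + 1) * (q * q)
    rw [Nat.succ_mul, Nat.add_comm]
    exact Nat.add_le_add (ih _) (Nat.mul_le_mul (sDg_lt hq _).le (sDg_lt hq _).le)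

private theorem sDot_mod {q : ℕ} (hq : 1 ≤ q) (b : List ℤ) : ∀ v, (sDot q b v : ℤ) ≡ dot v b [ZMOD q] := by
  induction b with
  | nil => intro v; cases v <;> rfl
  | cons x b ih =>
    intro v
    change ((sDg q (v.headD 0) * sDg q x + sDot q b v.tail : ℕ) : ℤ) ≡ _ [ZMOD q]
    rw [Nat.cast_add, Nat.cast_mul, sDg_cast hq, sDg_cast hq]
    refine (((Int.mod_modEq _ _).mul (Int.mod_modEq _ _)).add (ih _)).trans ?_
    cases v with
    | nil =>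
      have : ∀ b : List ℤ, dot [] b = 0 := fun _ => rfl
      simp only [List.headD_nil, List.tail_nil, this, zero_mul, add_zero]; rfl
    | cons a v => rfl

private theorem cntL_s (q : ℕ) : cntL q = sAll q := by
  funext R b c
  unfold sAll
  cases h : (Nat.ble (b.length * (q * q)) 255 && Nat.ble 1 q)
  · rfl
  obtain ⟨h1, hq⟩ := Bool.and_eq_true_iff.1 h
  have h1 := Nat.le_of_ble_eq_true h1
  have hq := Nat.le_of_ble_eq_true hq
  change _ = sCnt q (sDg q c) R.length (sCmb q b R)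
  unfold cntL
  induction R with
  | nil => rfl
  | cons v R ih =>
    have hd : sDot q b v < 256 := Nat.lt_succ_of_le ((sDot_le hq b v).trans h1)
    have e1 : Nat.shiftRight (sCmb q b (v :: R)) 8 = sCmb q b R := by
      change sCmb q b (v :: R) >>> 8 = _
      rw [sCmb_cons, Nat.shiftRight_eq_div_pow]; omega
    have e2 : Nat.land (sCmb q b (v :: R)) 255 = sDot q b v := by
      change sCmb q b (v :: R) &&& (2 ^ 8 - 1) = _
      rw [sCmb_cons, Nat.and_two_pow_sub_one_eq_mod]; omega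
    have e3 : decide ((dot v b - c) % (q : ℤ) = 0) = Nat.beq (Nat.mod (sDot q b v) q) (sDg q c) := by
      rw [Bool.eq_iff_iff, decide_eq_true_eq, Nat.beq_eq, ← Int.emod_eq_emod_iff_emod_sub_eq_zero, ← sDot_mod hq b v,
        ← sDg_cast hq c, ← Int.natCast_mod, Nat.cast_inj]
      rfl
    change _ = @Bool.rec (fun _ => ℕ) (sCnt q (sDg q c) R.length (Nat.shiftRight (sCmb q b (v :: R)) 8))
      (Nat.succ (sCnt q (sDg q c) R.length (Nat.shiftRight (sCmb q b (v :: R)) 8)))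
      (Nat.beq (Nat.mod (Nat.land (sCmb q b (v :: R)) 255) q) (sDg q c))
    rw [e1, e2, ← ih, List.filter_cons, e3]
    cases Nat.beq (Nat.mod (sDot q b v) q) (sDg q c) <;> rfl

theorem cntF4 : ∀ cs ∈ enumAll 3 ([2, 3] : List (Fin 4)).length, cntL 3 rlF4 (lcomb 4 cs bLF4) 0 ≠
    cntL 3 rlF4 [1, 0, 0, 0] 0 ∨ cntL 3 rlF4 (lcomb 4 cs bLF4) 1 ≠ cntL 3 rlF4 [1, 0, 0, 0] 1 := by rewrite [show cntL 3 = sAll 3 from cntL_s 3]; decide +kernel

theorem cmF4 : ∀ i : Fin 4, ac alF4 cwF4 (bas 4 i) = cMF4.getD i [] := by rewrite [Cfsg.Agent.WeylFast.ac_eq]; decide +kernel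

theorem oneF4 : ∀ i : Fin 4, acn alF4 cwF4 (3) (bas 4 i) = bas 4 i := by rewrite [Cfsg.Agent.WeylFast.acn_eq]; decide +kernel

/-- functionals -/
def vLF4 : List (List ℤ) := [[1, 0, 0, 0], [0, 1, 0, 0], [0, 0, 1, 0], [0, 0, 0, 1]]

theorem nvF4 : ∀ x ∈ rlF4, ∃ v ∈ vLF4, dot x v % 3 ≠ 0 := by rewrite [Cfsg.Agent.WeylFast.dot_eq]; decide +kernel

private noncomputable def _root_.Cfsg.Agent.KO32bcdca.k1.{ku0, ku1} : type_of% @List.map.{ku0, ku1} := @(fun x0 x1 x2 x3 => @List.rec.{(ku1+1), ku0} @x0 @(fun x4 => @List.{ku1} @x1) [] @(fun x4 x5 x6 => (@x2 @x4) :: @x6) @x3)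
private theorem _root_.Cfsg.Agent.KO32bcdca.e1.{ku0, ku1} : @List.map.{ku0, ku1} = @_root_.Cfsg.Agent.KO32bcdca.k1.{ku0, ku1} := by delta _root_.Cfsg.Agent.KO32bcdca.k1; funext a0 a1 a2 a3; refine (_root_.Cfsg.Agent.KO32bcdca.e0 (fun a3 => @List.map.{ku0, ku1} a0 a1 a2 a3) ?_ (fun c0 c1 => ?_) a3 :) <;> (rfl')
private noncomputable def _root_.Cfsg.Agent.KO32bcdca.k4 : (by first | exact type_of% @Cfsg.Agent.H778.Exc.decN | exact Unit : Sort _) := by first | (refine @Subtype.val _ (fun g => @Cfsg.Agent.H778.Exc.decN = @g) (@Subtype.mk _ _ (@(fun x0 x1 => @Nat.rec.{1} @(fun x2 => ℕ → @List.{0} ℤ) @(fun x2 => []) @(fun x2 x3 x4 => (@Cfsg.Agent.KO32bcdca.k3 (@Int.ofNat (@Nat.mod @x4 (nat_lit 16))) (@Nat.rec.{1} @(fun x5 => ℤ) (@Int.ofNat (nat_lit 0)) @(fun x5 x6 => @Int.negSucc @x5) (nat_lit 8))) :: (@x3 (@Nat.div @x4 (nat_lit 16)))) @x0 @x1)) ?_); rewrite [← Cfsg.Agent.KO32bcdca.e3];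 funext a0 a1; refine (congrFun (_root_.Cfsg.Agent.KO32bcdca.e2 (fun a0 a1 => @Cfsg.Agent.H778.Exc.decN a0 a1) ?_ (fun c0 => ?_) a0) a1 :) <;> (rfl')) | exact @Cfsg.Agent.H778.Exc.decN | exact ()
private theorem _root_.Cfsg.Agent.KO32bcdca.e4 : (by first | exact @Cfsg.Agent.H778.Exc.decN = @_root_.Cfsg.Agent.KO32bcdca.k4 | exact True : Prop) := by first | (delta _root_.Cfsg.Agent.KO32bcdca.k4; exact @Subtype.property _ (fun g => @Cfsg.Agent.H778.Exc.decN = @g) _) | rfl | trivial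
private noncomputable def _root_.Cfsg.Agent.KO32bcdca.k48 : type_of% @forall_prop_decidable := @(fun x0 x1 x2 x3 => @Decidable.rec.{1} _ @(fun x4 => @Decidable ((x5 : @x0) → @x1 @x5)) @(fun x4 => @Decidable.isTrue _ (@forall_prop_decidable._proof_2 _ @x1 @x4)) @(fun x4 => @Decidable.rec.{1} _ @(fun x5 => @Decidable ((x6 : @x0) → @x1 @x6)) @(fun x5 => @Decidable.isFalse _ (@decidable_of_decidable_of_iff._proof_1 _ _ (@forall_prop_decidable._proof_1 _ @x1 @x4) @x5)) @(fun x5 => @Decidable.isTrue _ (@Iff.mp _ _ (@forall_prop_decidable._proof_1 _ @x1 @x4) @x5)) (@x3 @x4)) @x2)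
private theorem _root_.Cfsg.Agent.KO32bcdca.e48 : @forall_prop_decidable = @_root_.Cfsg.Agent.KO32bcdca.k48 := by delta _root_.Cfsg.Agent.KO32bcdca.k48; rfl'
private noncomputable def _root_.Cfsg.Agent.KO32bcdca.k49 : (by first | exact type_of% @Cfsg.Agent.WeylFast.dotQ | exact Unit : Sort _) := by first | (refine @Subtype.val _ (fun g => @Cfsg.Agent.WeylFast.dotQ = @g) (@Subtype.mk _ _ (@(fun x0 x1 => @Cfsg.Agent.WeylFast.dotF @x0 @x1 (nat_lit 0) (nat_lit 0))) ?_); (try delta Cfsg.Agent.WeylFast.dotQ); (try generalize @Cfsg.Agent.WeylFast.dotF = g0); rfl') | exact @Cfsg.Agent.WeylFast.dotQ | exact ()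
private theorem _root_.Cfsg.Agent.KO32bcdca.e49 : (by first | exact @Cfsg.Agent.WeylFast.dotQ = @_root_.Cfsg.Agent.KO32bcdca.k49 | exact True : Prop) := by first | (delta _root_.Cfsg.Agent.KO32bcdca.k49; exact @Subtype.property _ (fun g => @Cfsg.Agent.WeylFast.dotQ = @g) _) | rfl | trivial

theorem sepF4 : ∀ i : Fin 4, ∀ x ∈ rlF4, (∀ v ∈ vLF4, (dot x v - v.getD i 0) % 3 = 0) → ∀ y ∈ x, 0 ≤ y := by
  rewrite [Cfsg.Agent.WeylFast.dot_eq]; (first | (refine of_decide_eq_true ?_; delta Cfsg.Agent.H778.Exc.rlF4; rewrite [Cfsg.Agent.KO32bcdca.e5, Cfsg.Agent.KO32bcdca.e14, Cfsg.Agent.KO32bcdca.e24.{0}, Cfsg.Agent.KO32bcdca.e48, Cfsg.Agent.KO32bcdca.e16, Cfsg.Agent.KO32bcdca.e49, Cfsg.Agent.KO32bcdca.e13.{0}, Cfsg.Agent.KO32bcdca.e1.{0, 0}, Cfsg.Agent.KO32bcdca.e4]; decide +kernel) | decide +kernel)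

theorem mc_F4_1 : MCert Cfsg.Lie.chevF4 4 3 alF4 id
    []
    1 vLF4 cwF4 (3 ^ 1) [1, 0, 0, 0] [2, 3] bLF4
    [[1, 1, 0, 0], [-1, 1, 0, 0], [], []]
    []
    [[1, 0, 0, 0], [0, 1, 0, 0], [0, 0, 1, 0], [0, 0, 0, 1]]
    cMF4 rlF4 where
  la := rfl
  tm := by rewrite [Cfsg.Agent.WeylFast.ac_eq]; decide +kernel
  cm := cmF4
  ra := by rewrite [Cfsg.Agent.WeylFast.dot_eq]; decide +kernel
  lv := by decide +kernel
  rv := by rewrite [Cfsg.Agent.WeylFast.dot_eq]; decide +kernel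
  nv := nvF4
  sep := sepF4
  one := oneF4
  com := by rewrite [Cfsg.Agent.WeylFast.ac_eq]; decide +kernel
  fix := by decide +kernel
  cnt := cntF4

theorem mc_F4_2 : MCert Cfsg.Lie.chevF4 4 3 alF4 id
    [0, 2, 1, 3, 0, 2, 1, 3, 0, 2, 1, 3, 0, 2, 1, 3, 0, 2, 1, 3, 0, 2, 1, 3]
    2 vLF4 cwF4 (3 ^ 1) [1, 0, 0, 0] [2, 3] bLF4
    [[1, 1, 0, 0], [-1, 1, 0, 0], [], []]
    []
    [[-1, 0, 0, 0], [0, -1, 0, 0], [0, 0, -1, 0], [0, 0, 0, -1]]
    cMF4 rlF4 where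
  la := rfl
  tm := by rewrite [Cfsg.Agent.WeylFast.ac_eq]; decide +kernel
  cm := cmF4
  ra := by rewrite [Cfsg.Agent.WeylFast.dot_eq]; decide +kernel
  lv := by decide +kernel
  rv := by rewrite [Cfsg.Agent.WeylFast.dot_eq]; decide +kernel
  nv := nvF4
  sep := sepF4
  one := oneF4
  com := by rewrite [Cfsg.Agent.WeylFast.ac_eq]; decide +kernel
  fix := by decide +kernel
  cnt := cntF4

/-- a word -/
def cwE6 : List (Fin 6) := [0, 3, 5, 2, 4, 1, 0, 3, 5, 2, 4, 1, 0, 3, 5, 2, 4, 1, 0, 3, 5, 2, 4, 1]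

/-- its matrix -/
def cME6 : List (List ℤ) := [[0, 1, 1, 1, 0, 0], [-1, -1, -1, -1, -1, -1], [-1, -1, -2, -2, -1, 0], [1, 1, 2, 2, 2, 1], [0, -1, -1, -2, -2,
    -1], [0, 1, 0, 1, 1, 0]]

/-- fixed functionals -/
def bLE6 : List (List ℤ) := [[0, -1, 1, 0, 1, 0], [1, 0, 0, 1, 0, 1]]

theorem cntE6 : ∀ cs ∈ enumAll 3 ([4, 5] : List (Fin 6)).length, cntL 3 rlE6 (lcomb 6 cs bLE6) 0 ≠
    cntL 3 rlE6 [0, 1, 0, 0, 0, 0] 0 ∨ cntL 3 rlE6 (lcomb 6 cs bLE6) 1 ≠ cntL 3 rlE6 [0, 1, 0, 0, 0, 0] 1 := by rewrite [show cntL 3 = sAll 3 from cntL_s 3]; decide +kernel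

theorem cmE6 : ∀ i : Fin 6, ac alE6 cwE6 (bas 6 i) = cME6.getD i [] := by rewrite [Cfsg.Agent.WeylFast.ac_eq]; decide +kernel

theorem oneE6 : ∀ i : Fin 6, acn alE6 cwE6 (3) (bas 6 i) = bas 6 i := by rewrite [Cfsg.Agent.WeylFast.acn_eq]; decide +kernel

/-- functionals -/
def vLE6t : List (List ℤ) := [[1, 0, 0, 0, 0, 1], [0, 0, 1, 0, 1, 0], [0, 1, 0, 0, 0, 0], [0, 0, 0, 1, 0, 0]]

theorem nvE6t : ∀ x ∈ rlE6, ∃ v ∈ vLE6t, dot x v % 3 ≠ 0 := by rewrite [Cfsg.Agent.WeylFast.dot_eq]; decide +kernel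

theorem sepE6t : ∀ i : Fin 6, ∀ x ∈ rlE6, (∀ v ∈ vLE6t, (dot x v - v.getD i 0) % 3 = 0) → ∀ y ∈ x, 0 ≤ y := by
  rewrite [Cfsg.Agent.WeylFast.dot_eq]; (first | (refine of_decide_eq_true ?_; delta Cfsg.Agent.H778.Exc.rlE6; rewrite [Cfsg.Agent.KO32bcdca.e5, Cfsg.Agent.KO32bcdca.e14, Cfsg.Agent.KO32bcdca.e24.{0}, Cfsg.Agent.KO32bcdca.e48, Cfsg.Agent.KO32bcdca.e16, Cfsg.Agent.KO32bcdca.e49, Cfsg.Agent.KO32bcdca.e13.{0}, Cfsg.Agent.KO32bcdca.e1.{0, 0}, Cfsg.Agent.KO32bcdca.e4]; decide +kernel) | decide +kernel)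

theorem mc_E6_2 : MCert Cfsg.Lie.chevE6 6 3 alE6 id
    [0, 3, 5, 2, 4, 1, 0, 3, 5, 2, 4, 1, 0, 3, 5, 2, 4, 1, 0, 3, 5, 2, 4, 1, 0, 3, 5, 2, 4, 1, 0, 3, 5, 2, 4, 1]
    2 vLE6t cwE6 (3 ^ 1) [0, 1, 0, 0, 0, 0] [4, 5] bLE6
    [[0, 0, 0, 0, 0, 0], [-1, -1, 0, 0, 0, 0], [0, -1, -1, 0, 0, 0], [-1, -1, 1, 0, 0, 0], [], []]
    [[1, 0, 0, 0, 0, 0], [1, 0, 0, 0, 0, 0], [1, 0, 0, 0, 0, 0], [-1, 0, 0, 0, 0, 0], [], []]
    [[0, 0, 0, 0, 0, -1], [0, -1, 0, 0, 0, 0], [0, 0, 0, 0, -1, 0], [0, 0, 0, -1, 0, 0], [0, 0, -1, 0, 0, 0], [-1,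
    0, 0, 0, 0, 0]]
    cME6 rlE6 where
  la := rfl
  tm := by rewrite [Cfsg.Agent.WeylFast.ac_eq]; decide +kernel
  cm := cmE6
  ra := by rewrite [Cfsg.Agent.WeylFast.dot_eq]; decide +kernel
  lv := by decide +kernel
  rv := by rewrite [Cfsg.Agent.WeylFast.dot_eq]; decide +kernel
  nv := nvE6t
  sep := sepE6t
  one := oneE6
  com := by rewrite [Cfsg.Agent.WeylFast.ac_eq]; decide +kernel
  fix := by decide +kernel
  cnt := cntE6

/-- a word -/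
def cwE6b : List (Fin 6) := [0, 3, 5, 2, 4, 1, 0, 3, 5, 2, 4, 1, 0, 3, 5, 2, 4, 1, 0, 3, 5, 2, 4, 1]

/-- its matrix -/
def cME6b : List (List ℤ) := [[0, 1, 1, 1, 0, 0], [-1, -1, -1, -1, -1, -1], [-1, -1, -2, -2, -1, 0], [1, 1, 2, 2, 2, 1], [0, -1, -1, -2, -2,
    -1], [0, 1, 0, 1, 1, 0]]

/-- fixed functionals -/
def bLE6b : List (List ℤ) := [[-1, -1, -1, 1, 0, 0], [0, -1, 1, 0, 1, 0], [-1, 1, 1, 0, 0, 1]]

theorem cntE6b : ∀ cs ∈ enumAll 3 ([3, 4, 5] : List (Fin 6)).length, cntL 3 rlE6 (lcomb 6 cs bLE6b) 0 ≠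
    cntL 3 rlE6 [0, 1, 0, 0, 0, 0] 0 ∨ cntL 3 rlE6 (lcomb 6 cs bLE6b) 1 ≠ cntL 3 rlE6 [0, 1, 0, 0, 0, 0] 1 := by rewrite [show cntL 3 = sAll 3 from cntL_s 3]; decide +kernel

theorem cmE6b : ∀ i : Fin 6, ac alE6 cwE6b (bas 6 i) = cME6b.getD i [] := by rewrite [Cfsg.Agent.WeylFast.ac_eq]; decide +kernel

theorem oneE6b : ∀ i : Fin 6, acn alE6 cwE6b (3) (bas 6 i) = bas 6 i := by rewrite [Cfsg.Agent.WeylFast.acn_eq]; decide +kernel

/-- functionals -/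
def vLE6s : List (List ℤ) := [[2, 0, -1, 0, 0, 0], [0, 2, 0, -1, 0, 0], [-1, 0, 2, -1, 0, 0], [0, -1, -1, 2, -1, 0], [0, 0, 0, -1, 2, -1],
    [0, 0, 0, 0, -1, 2]]

theorem nvE6s : ∀ x ∈ rlE6, ∃ v ∈ vLE6s, dot x v % 3 ≠ 0 := by rewrite [Cfsg.Agent.WeylFast.dot_eq]; decide +kernel

theorem sepE6s : ∀ i : Fin 6, ∀ x ∈ rlE6, (∀ v ∈ vLE6s, (dot x v - v.getD i 0) % 3 = 0) → ∀ y ∈ x, 0 ≤ y := by
  rewrite [Cfsg.Agent.WeylFast.dot_eq]; (first | (refine of_decide_eq_true ?_; delta Cfsg.Agent.H778.Exc.rlE6; rewrite [Cfsg.Agent.KO32bcdca.e5, Cfsg.Agent.KO32bcdca.e14, Cfsg.Agent.KO32bcdca.e24.{0}, Cfsg.Agent.KO32bcdca.e48, Cfsg.Agent.KO32bcdca.e16, Cfsg.Agent.KO32bcdca.e49, Cfsg.Agent.KO32bcdca.e13.{0}, Cfsg.Agent.KO32bcdca.e1.{0, 0}, Cfsg.Agent.KO32bcdca.e4]; decide +kernel) | decide +kernel)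

theorem mc_E6_1 : MCert Cfsg.Lie.chevE6 6 3 alE6 id
    []
    1 vLE6s cwE6b (3 ^ 1) [0, 1, 0, 0, 0, 0] [3, 4, 5] bLE6b
    [[-1, -1, 1, 0, 0, 0], [1, 1, 1, 0, 0, 0], [-1, 1, 0, 0, 0, 0], [], [], []]
    []
    [[1, 0, 0, 0, 0, 0], [0, 1, 0, 0, 0, 0], [0, 0, 1, 0, 0, 0], [0, 0, 0, 1, 0, 0], [0, 0, 0, 0, 1, 0], [0, 0, 0,
    0, 0, 1]]
    cME6b rlE6 where
  la := rfl
  tm := by rewrite [Cfsg.Agent.WeylFast.ac_eq]; decide +kernel
  cm := cmE6b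
  ra := by rewrite [Cfsg.Agent.WeylFast.dot_eq]; decide +kernel
  lv := by decide +kernel
  rv := by rewrite [Cfsg.Agent.WeylFast.dot_eq]; decide +kernel
  nv := nvE6s
  sep := sepE6s
  one := oneE6b
  com := by rewrite [Cfsg.Agent.WeylFast.ac_eq]; decide +kernel
  fix := by decide +kernel
  cnt := cntE6b

/-- functionals -/
def vLE6tw : List (List ℤ) := [[0, 2, 0, -1, 0, 0], [0, -1, -1, 2, -1, 0], [2, 0, -1, 0, -1, 2], [-1, 0, 2, -2, 2, -1]]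

theorem nvE6tw : ∀ x ∈ rlE6, ∃ v ∈ vLE6tw, dot x v % 3 ≠ 0 := by rewrite [Cfsg.Agent.WeylFast.dot_eq]; decide +kernel

theorem sepE6tw : ∀ i : Fin 6, ∀ x ∈ rlE6, (∀ v ∈ vLE6tw, (dot x v - v.getD i 0) % 3 = 0) → ∀ y ∈ x, 0 ≤ y := by
  rewrite [Cfsg.Agent.WeylFast.dot_eq]; (first | (refine of_decide_eq_true ?_; delta Cfsg.Agent.H778.Exc.rlE6; rewrite [Cfsg.Agent.KO32bcdca.e5, Cfsg.Agent.KO32bcdca.e14, Cfsg.Agent.KO32bcdca.e24.{0}, Cfsg.Agent.KO32bcdca.e48, Cfsg.Agent.KO32bcdca.e16, Cfsg.Agent.KO32bcdca.e49, Cfsg.Agent.KO32bcdca.e13.{0}, Cfsg.Agent.KO32bcdca.e1.{0, 0}, Cfsg.Agent.KO32bcdca.e4]; decide +kernel) | decide +kernel)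

theorem mc_E6tw_1 : MCert Cfsg.Lie.chevE6 6 3 alE6 id
    []
    1 vLE6tw cwE6b (3 ^ 1) [0, 1, 0, 0, 0, 0] [3, 4, 5] bLE6b
    [[-1, -1, 1, 0, 0, 0], [1, 1, 1, 0, 0, 0], [-1, 1, 0, 0, 0, 0], [], [], []]
    []
    [[1, 0, 0, 0, 0, 0], [0, 1, 0, 0, 0, 0], [0, 0, 1, 0, 0, 0], [0, 0, 0, 1, 0, 0], [0, 0, 0, 0, 1, 0], [0, 0, 0,
    0, 0, 1]]
    cME6b rlE6 where
  la := rfl
  tm := by rewrite [Cfsg.Agent.WeylFast.ac_eq]; decide +kernel
  cm := cmE6b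
  ra := by rewrite [Cfsg.Agent.WeylFast.dot_eq]; decide +kernel
  lv := by decide +kernel
  rv := by rewrite [Cfsg.Agent.WeylFast.dot_eq]; decide +kernel
  nv := nvE6tw
  sep := sepE6tw
  one := oneE6b
  com := by rewrite [Cfsg.Agent.WeylFast.ac_eq]; decide +kernel
  fix := by decide +kernel
  cnt := cntE6b

/-- a word -/
def cwE7 : List (Fin 7) := [0, 3, 5, 2, 4, 1, 6, 0, 3, 5, 2, 4, 1, 6]

/-- its matrix -/
def cME7 : List (List ℤ) := [[0, 1, 0, 1, 1, 1, 0], [-1, 0, -1, -1, -1, -1, 0], [0, -1, -1, -2, -1, -1, 0], [1, 1, 2, 3, 2, 2, 1], [-1, -1,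
    -1, -2, -1, -1, -1], [1, 1, 1, 2, 1, 0, 0], [0, 0, 0, -1, -1, 0, 0]]

/-- fixed functionals -/
def bLE7 : List (List ℤ) := [[0, 1, 0, 0, -1, 0, 1]]

theorem cntE7 : ∀ cs ∈ enumAll 3 ([6] : List (Fin 7)).length, cntL 3 rlE7 (lcomb 7 cs bLE7) 0 ≠
    cntL 3 rlE7 [1, 0, 0, 0, 0, 0, 0] 0 ∨ cntL 3 rlE7 (lcomb 7 cs bLE7) 1 ≠ cntL 3 rlE7 [1, 0, 0, 0, 0, 0, 0] 1 := by rewrite [show cntL 3 = sAll 3 from cntL_s 3]; decide +kernel

theorem cmE7 : ∀ i : Fin 7, ac alE7 cwE7 (bas 7 i) = cME7.getD i [] := by rewrite [Cfsg.Agent.WeylFast.ac_eq]; decide +kernel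

theorem oneE7 : ∀ i : Fin 7, acn alE7 cwE7 (9) (bas 7 i) = bas 7 i := by rewrite [Cfsg.Agent.WeylFast.acn_eq]; decide +kernel

/-- functionals -/
def vLE7 : List (List ℤ) := [[1, 0, 0, 0, 0, 0, 0], [0, 1, 0, 0, 0, 0, 0], [0, 0, 1, 0, 0, 0, 0], [0, 0, 0, 1, 0, 0, 0], [0, 0, 0, 0, 1, 0,
    0], [0, 0, 0, 0, 0, 1, 0], [0, 0, 0, 0, 0, 0, 1]]

private noncomputable def _root_.Cfsg.Agent.KO32bcdca.k36 : type_of% @instDecidableNot := @(fun x0 x1 => @Decidable.rec.{1} _ @(fun x2 => @Decidable (¬ @x0)) @(fun x2 => @Decidable.isTrue _ @x2) @(fun x2 => @Decidable.isFalse _ (@absurd.{0} _ _ @x2)) @x1)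
private theorem _root_.Cfsg.Agent.KO32bcdca.e36 : @instDecidableNot = @_root_.Cfsg.Agent.KO32bcdca.k36 := by delta _root_.Cfsg.Agent.KO32bcdca.k36; rfl'

theorem nvE7 : ∀ x ∈ rlE7, ∃ v ∈ vLE7, dot x v % 3 ≠ 0 := by rewrite [Cfsg.Agent.WeylFast.dot_eq]; (first | (refine of_decide_eq_true ?_; delta Cfsg.Agent.H778.Exc.rlE7; rewrite [Cfsg.Agent.KO32bcdca.e5, Cfsg.Agent.KO32bcdca.e24.{0}, Cfsg.Agent.KO32bcdca.e25.{0}, Cfsg.Agent.KO32bcdca.e36, Cfsg.Agent.KO32bcdca.e16, Cfsg.Agent.KO32bcdca.e49, Cfsg.Agent.KO32bcdca.e1.{0, 0}, Cfsg.Agent.KO32bcdca.e4]; decide +kernel) | decide +kernel)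

theorem sepE7 : ∀ i : Fin 7, ∀ x ∈ rlE7, (∀ v ∈ vLE7, (dot x v - v.getD i 0) % 3 = 0) → ∀ y ∈ x, 0 ≤ y := by
  rewrite [Cfsg.Agent.WeylFast.dot_eq]; (first | (refine of_decide_eq_true ?_; delta Cfsg.Agent.H778.Exc.rlE7; rewrite [Cfsg.Agent.KO32bcdca.e5, Cfsg.Agent.KO32bcdca.e14, Cfsg.Agent.KO32bcdca.e24.{0}, Cfsg.Agent.KO32bcdca.e48, Cfsg.Agent.KO32bcdca.e16, Cfsg.Agent.KO32bcdca.e49, Cfsg.Agent.KO32bcdca.e13.{0}, Cfsg.Agent.KO32bcdca.e1.{0, 0}, Cfsg.Agent.KO32bcdca.e4]; decide +kernel) | decide +kernel)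

theorem mc_E7_1 : MCert Cfsg.Lie.chevE7 7 3 alE7 id
    []
    1 vLE7 cwE7 (3 ^ 2) [1, 0, 0, 0, 0, 0, 0] [6] bLE7
    [[-1, -1, -1, 1, 1, -1, 0], [1, -1, 1, 1, -1, 1, 0], [1, 1, -1, 1, 1, -1, 0], [1, -1, -1, 0, 0, 0, 0], [-1, -1,
    1, 0, -1, 0, 0], [-1, -1, 1, 0, 0, 1, 0], []]
    []
    [[1, 0, 0, 0, 0, 0, 0], [0, 1, 0, 0, 0, 0, 0], [0, 0, 1, 0, 0, 0, 0], [0, 0, 0, 1, 0, 0, 0], [0, 0, 0, 0, 1, 0,
    0], [0, 0, 0, 0, 0, 1, 0], [0, 0, 0, 0, 0, 0, 1]]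
    cME7 rlE7 where
  la := rfl
  tm := by rewrite [Cfsg.Agent.WeylFast.ac_eq]; decide +kernel
  cm := cmE7
  ra := by rewrite [Cfsg.Agent.WeylFast.dot_eq]; decide +kernel
  lv := by decide +kernel
  rv := by rewrite [Cfsg.Agent.WeylFast.dot_eq]; decide +kernel
  nv := nvE7
  sep := sepE7
  one := oneE7
  com := by rewrite [Cfsg.Agent.WeylFast.ac_eq]; decide +kernel
  fix := by decide +kernel
  cnt := cntE7

theorem mc_E7_2 : MCert Cfsg.Lie.chevE7 7 3 alE7 id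
    [0, 3, 5, 2, 4, 1, 6, 0, 3, 5, 2, 4, 1, 6, 0, 3, 5, 2, 4, 1, 6, 0, 3, 5, 2, 4, 1, 6, 0, 3, 5, 2, 4, 1, 6, 0, 3,
    5, 2, 4, 1, 6, 0, 3, 5, 2, 4, 1, 6, 0, 3, 5, 2, 4, 1, 6, 0, 3, 5, 2, 4, 1, 6]
    2 vLE7 cwE7 (3 ^ 2) [1, 0, 0, 0, 0, 0, 0] [6] bLE7
    [[-1, -1, -1, 1, 1, -1, 0], [1, -1, 1, 1, -1, 1, 0], [1, 1, -1, 1, 1, -1, 0], [1, -1, -1, 0, 0, 0, 0], [-1, -1,
    1, 0, -1, 0, 0], [-1, -1, 1, 0, 0, 1, 0], []]
    []
    [[-1, 0, 0, 0, 0, 0, 0], [0, -1, 0, 0, 0, 0, 0], [0, 0, -1, 0, 0, 0, 0], [0, 0, 0, -1, 0, 0, 0], [0, 0, 0, 0,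
    -1, 0, 0], [0, 0, 0, 0, 0, -1, 0], [0, 0, 0, 0, 0, 0, -1]]
    cME7 rlE7 where
  la := rfl
  tm := by rewrite [Cfsg.Agent.WeylFast.ac_eq]; decide +kernel
  cm := cmE7
  ra := by rewrite [Cfsg.Agent.WeylFast.dot_eq]; decide +kernel
  lv := by decide +kernel
  rv := by rewrite [Cfsg.Agent.WeylFast.dot_eq]; decide +kernel
  nv := nvE7
  sep := sepE7
  one := oneE7
  com := by rewrite [Cfsg.Agent.WeylFast.ac_eq]; decide +kernel
  fix := by decide +kernel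
  cnt := cntE7

/-- a word -/
def cwE8 : List (Fin 8) := [0, 3, 5, 7, 2, 4, 1, 6, 0, 3, 5, 7, 2, 4, 1, 6, 0, 3, 5, 7, 2, 4, 1, 6, 0, 3, 5, 7, 2, 4, 1, 6, 0, 3, 5, 7, 2,
    4, 1, 6, 0, 3, 5, 7, 2, 4, 1, 6, 0, 3, 5, 7, 2, 4, 1, 6, 0, 3, 5, 7, 2, 4, 1, 6, 0, 3, 5, 7, 2, 4, 1, 6, 0, 3,
    5, 7, 2, 4, 1, 6]

/-- its matrix -/
def cME8 : List (List ℤ) := [[0, 1, 1, 2, 2, 1, 0, 0], [-1, -2, -2, -3, -2, -1, -1, -1], [-1, -2, -3, -4, -3, -2, -1, 0], [2, 3, 4, 5, 4,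
    3, 2, 1], [-2, -2, -3, -4, -4, -3, -2, -1], [1, 1, 2, 3, 3, 2, 2, 1], [0, -1, -1, -2, -2, -2, -2, -1], [0, 1,
    0, 1, 1, 1, 1, 0]]

/-- fixed functionals -/
def bLE8 : List (List ℤ) := [[0, -1, -1, 0, 1, 0, 0, 0], [-1, 0, 0, -1, 0, 1, 0, 0], [0, -1, 1, 0, 0, 0, 1, 0], [-1, 0, 0, 1, 0, 0, 0, 1]]

private noncomputable def _root_.Cfsg.Agent.KO32bcdca.k37 : (by first | exact type_of% @Cfsg.Agent.WeylFast.fN | exact Unit : Sort _) := by first | (refine @Subtype.val _ (fun g => @Cfsg.Agent.WeylFast.fN = @g) (@Subtype.mk _ _ (@(fun x0 x1 x2 => @Nat.rec.{1} @(fun x3 => @x0) (@x2 (nat_lit 0)) @(fun x3 x4 => @x2 (@Nat.succ @x3)) @x1)) ?_); rfl') | exact @Cfsg.Agent.WeylFast.fN | exact ()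
private theorem _root_.Cfsg.Agent.KO32bcdca.e37 : (by first | exact @Cfsg.Agent.WeylFast.fN = @_root_.Cfsg.Agent.KO32bcdca.k37 | exact True : Prop) := by first | (delta _root_.Cfsg.Agent.KO32bcdca.k37; exact @Subtype.property _ (fun g => @Cfsg.Agent.WeylFast.fN = @g) _) | rfl | trivial
private noncomputable def _root_.Cfsg.Agent.KO32bcdca.k38 : (by first | exact type_of% @Cfsg.Agent.WeylFast.fZ | exact Unit : Sort _) := by first | (refine @Subtype.val _ (fun g => @Cfsg.Agent.WeylFast.fZ = @g) (@Subtype.mk _ _ (@(fun x0 x1 x2 => @Int.rec.{1} @(fun x3 => @x0) @(fun x3 => @Cfsg.Agent.KO32bcdca.k37 _ @x3 @(fun x4 => @x2 (@Int.ofNat @x4))) @(fun x3 => @Cfsg.Agent.KO32bcdca.k37 _ @x3 @(fun x4 => @x2 (@Int.negSucc @x4))) @x1)) ?_); rewrite [← Cfsg.Agent.KO32bcdca.e37]; (try delta Cfsg.Agent.WeylFast.fZ); (try generalize @Cfsg.Agent.WeylFast.fN = g0); rfl') | exact @Cfsg.Agent.WeylFast.fZ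 | exact ()
private theorem _root_.Cfsg.Agent.KO32bcdca.e38 : (by first | exact @Cfsg.Agent.WeylFast.fZ = @_root_.Cfsg.Agent.KO32bcdca.k38 | exact True : Prop) := by first | (delta _root_.Cfsg.Agent.KO32bcdca.k38; exact @Subtype.property _ (fun g => @Cfsg.Agent.WeylFast.fZ = @g) _) | rfl | trivial
private noncomputable def _root_.Cfsg.Agent.KO32bcdca.k39 : (by first | exact type_of% @Cfsg.Agent.WeylFast.mpK | exact Unit : Sort _) := by first | (refine @Subtype.val _ (fun g => @Cfsg.Agent.WeylFast.mpK = @g) (@Subtype.mk _ _ (@(fun x0 x1 x2 x3 => @List.rec.{1, 0} @x1 @(fun x4 => ((@List.{0} ℤ) → @x0) → @x0) @(fun x4 => @x4 []) @(fun x4 x5 x6 x7 => @Cfsg.Agent.KO32bcdca.k38 _ (@x2 @x4) @(fun x8 => @x6 @(fun x9 => @x7 (@x8 :: @x9)))) @x3)) ?_); rewrite [← Cfsg.Agent.KO32bcdca.e38]; (try delta Cfsg.Agent.WeylFast.mpK); (try generalize @Cfsg.Agent.WeylFast.fZ = g0); rfl') | exact @Cfsg.Agent.WeylFast.mpK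 | exact ()
private theorem _root_.Cfsg.Agent.KO32bcdca.e39 : (by first | exact @Cfsg.Agent.WeylFast.mpK = @_root_.Cfsg.Agent.KO32bcdca.k39 | exact True : Prop) := by first | (delta _root_.Cfsg.Agent.KO32bcdca.k39; exact @Subtype.property _ (fun g => @Cfsg.Agent.WeylFast.mpK = @g) _) | rfl | trivial
private noncomputable def _root_.Cfsg.Agent.LsF.fceb575_3 : {f // @Cfsg.Agent.H130.WeylCk.dot = f} := ⟨_, by first | (delta Cfsg.Agent.H130.WeylCk.dot List.brecOn List.brecOn.go Cfsg.Agent.H130.WeylCk.dot._f; rewrite [Cfsg.Agent.LsF.iadd_pat, Cfsg.Agent.LsF.imul_pat]; (try delta Cfsg.Agent.H130.WeylCk.dot.match_3); (try delta Cfsg.Agent.H130.WeylCk.dot.match_1); (try delta List.casesOn); first | dsimp -zeta only | exact rfl) | exact rfl⟩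
private noncomputable def _root_.Cfsg.Agent.LsF.fceb575_4 : {f // @Cfsg.Agent.H778.Exc.cntL = f} := ⟨_, by first | (delta Cfsg.Agent.H778.Exc.cntL; rewrite [Cfsg.Agent.LsF.fceb575_3.2, Cfsg.Agent.LsF.isub_pat, Cfsg.Agent.LsF.imod_pat, Cfsg.Agent.LsF.filter_eq, Cfsg.Agent.LsF.instIDecEq_eq, Cfsg.Agent.LsF.length_eq, Cfsg.Agent.LsF.decide_eq]; exact rfl) | exact rfl⟩
private noncomputable def _root_.Cfsg.Agent.LsF.fceb575_5 : {f // @Cfsg.Agent.H778.Exc.sDg = f} := ⟨_, by first | (delta Cfsg.Agent.H778.Exc.sDg; rewrite [Cfsg.Agent.LsF.imod_pat, Cfsg.Agent.LsF.icast_pat, Cfsg.Agent.LsF.toNat_eq]; exact rfl) | exact rfl⟩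
private noncomputable def _root_.Cfsg.Agent.LsF.fceb575_6 : {f // @Cfsg.Agent.H778.Exc.sCol = f} := ⟨_, by first | (delta Cfsg.Agent.H778.Exc.sCol; rewrite [Cfsg.Agent.LsF.fceb575_5.2, Cfsg.Agent.LsF.headD_eq]; exact rfl) | exact rfl⟩
private noncomputable def _root_.Cfsg.Agent.LsF.fceb575_7 : {f // @Cfsg.Agent.H778.Exc.sCmb = f} := ⟨_, by first | (delta Cfsg.Agent.H778.Exc.sCmb; rewrite [Cfsg.Agent.LsF.fceb575_6.2, Cfsg.Agent.LsF.fceb575_5.2, Cfsg.Agent.LsF.map_eq, Cfsg.Agent.LsF.tail_eq]; exact rfl) | exact rfl⟩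
private noncomputable def _root_.Cfsg.Agent.LsF.fceb575_8 : {f // @Cfsg.Agent.H778.Exc.sAll = f} := ⟨_, by first | (delta Cfsg.Agent.H778.Exc.sAll; rewrite [Cfsg.Agent.LsF.fceb575_4.2, Cfsg.Agent.LsF.fceb575_5.2, Cfsg.Agent.LsF.fceb575_7.2, Cfsg.Agent.LsF.nmul_pat, Cfsg.Agent.LsF.icast_pat, Cfsg.Agent.LsF.and_eq, Cfsg.Agent.LsF.length_eq]; exact rfl) | exact rfl⟩
private noncomputable def _root_.Cfsg.Agent.LsF.fceb575_9 : {f // @Cfsg.Agent.H778.Exc.decN = f} := ⟨_, by first | (delta Cfsg.Agent.H778.Exc.decN Nat.brecOn.go Nat.brecOn Cfsg.Agent.H778.Exc.decN._f; rewrite [Cfsg.Agent.LsF.ndiv_pat, Cfsg.Agent.LsF.nmod_pat, Cfsg.Agent.LsF.isub_pat, Cfsg.Agent.LsF.icast_pat]; (try delta Cfsg.Agent.H778.Exc.decN.match_1); (try delta Nat.casesOn); first | dsimp -zeta only | exact rfl) | exact rfl⟩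
private noncomputable def _root_.Cfsg.Agent.LsF.fceb575_10 : {f // @Cfsg.Agent.H778.Exc.rlE8 = f} := ⟨_, by first | (delta Cfsg.Agent.H778.Exc.rlE8; rewrite [Cfsg.Agent.LsF.fceb575_9.2, Cfsg.Agent.LsF.map_eq]; exact rfl) | exact rfl⟩
theorem cntE8_k0 : cntL 3 rlE8 [0, 0, 0, 0, 0, 0, 0, 1] 0 = 126 := by rewrite [show cntL 3 = sAll 3 from cntL_s 3]; (refine of_decide_eq_true ?_; (try (rewrite [Cfsg.Agent.LsF.fceb575_8.2, Cfsg.Agent.LsF.fceb575_10.2, Cfsg.Agent.LsF.instDecEq_eq, Cfsg.Agent.LsF.decide_eq])); decide +kernel)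

theorem cntE8_k1 : cntL 3 rlE8 [0, 0, 0, 0, 0, 0, 0, 1] 1 = 57 := by rewrite [show cntL 3 = sAll 3 from cntL_s 3]; (refine of_decide_eq_true ?_; (try (rewrite [Cfsg.Agent.LsF.fceb575_8.2, Cfsg.Agent.LsF.fceb575_10.2, Cfsg.Agent.LsF.instDecEq_eq, Cfsg.Agent.LsF.decide_eq])); decide +kernel)

private noncomputable def _root_.Cfsg.Agent.LsF.fceb575_11 : {f // @Cfsg.Agent.H778.Exc.enumAll = f} := ⟨_, by first | (delta Cfsg.Agent.H778.Exc.enumAll Cfsg.Agent.H778.Exc.enumAll._f Nat.brecOn.go Nat.brecOn; rewrite [Cfsg.Agent.LsF.icast_pat, Cfsg.Agent.LsF.map_eq, Cfsg.Agent.LsF.flatMap_eq, Cfsg.Agent.LsF.range_eq]; (try delta Cfsg.Agent.H778.Exc.enumAll.match_1); (try delta Nat.casesOn); first | dsimp -zeta only | exact rfl) | exact rfl⟩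
private noncomputable def _root_.Cfsg.Agent.LsF.fceb575_12 : {f // @Cfsg.Agent.H778.Exc.lcomb = f} := ⟨_, by first | (delta Cfsg.Agent.H778.Exc.lcomb; rewrite [Cfsg.Agent.LsF.imul_pat, Cfsg.Agent.LsF.map_eq, Cfsg.Agent.LsF.zipWith_eq, Cfsg.Agent.LsF.range_eq, Cfsg.Agent.LsF.sum_eq, Cfsg.Agent.LsF.getD_eq, Cfsg.Agent.LsF.instIAdd_eq]; exact rfl) | exact rfl⟩
theorem cntE8_0 : ∀ t ∈ enumAll 3 3, cntL 3 rlE8 (lcomb 8 (((0 : ℕ) : ℤ) :: t) bLE8) 0 ≠ 126 ∨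
    cntL 3 rlE8 (lcomb 8 (((0 : ℕ) : ℤ) :: t) bLE8) 1 ≠ 57 := by rewrite [show cntL 3 = sAll 3 from cntL_s 3]; (refine of_decide_eq_true ?_; (try (rewrite [Cfsg.Agent.LsF.fceb575_11.2, Cfsg.Agent.LsF.fceb575_8.2, Cfsg.Agent.LsF.fceb575_10.2, Cfsg.Agent.LsF.fceb575_12.2, Cfsg.Agent.LsF.icast_pat, Cfsg.Agent.LsF.instDecEq_eq, Cfsg.Agent.LsF.dOr_eq, Cfsg.Agent.LsF.dNot_eq, Cfsg.Agent.LsF.dBAll_eq, Cfsg.Agent.LsF.decide_eq])); decide +kernel)

theorem cntE8_1 : ∀ t ∈ enumAll 3 3, cntL 3 rlE8 (lcomb 8 (((1 : ℕ) : ℤ) :: t) bLE8) 0 ≠ 126 ∨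
    cntL 3 rlE8 (lcomb 8 (((1 : ℕ) : ℤ) :: t) bLE8) 1 ≠ 57 := by rewrite [show cntL 3 = sAll 3 from cntL_s 3]; (refine of_decide_eq_true ?_; (try (rewrite [Cfsg.Agent.LsF.fceb575_11.2, Cfsg.Agent.LsF.fceb575_8.2, Cfsg.Agent.LsF.fceb575_10.2, Cfsg.Agent.LsF.fceb575_12.2, Cfsg.Agent.LsF.icast_pat, Cfsg.Agent.LsF.instDecEq_eq, Cfsg.Agent.LsF.dOr_eq, Cfsg.Agent.LsF.dNot_eq, Cfsg.Agent.LsF.dBAll_eq, Cfsg.Agent.LsF.decide_eq])); decide +kernel)

theorem cntE8_2 : ∀ t ∈ enumAll 3 3, cntL 3 rlE8 (lcomb 8 (((2 : ℕ) : ℤ) :: t) bLE8) 0 ≠ 126 ∨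
    cntL 3 rlE8 (lcomb 8 (((2 : ℕ) : ℤ) :: t) bLE8) 1 ≠ 57 := by rewrite [show cntL 3 = sAll 3 from cntL_s 3]; (refine of_decide_eq_true ?_; (try (rewrite [Cfsg.Agent.LsF.fceb575_11.2, Cfsg.Agent.LsF.fceb575_8.2, Cfsg.Agent.LsF.fceb575_10.2, Cfsg.Agent.LsF.fceb575_12.2, Cfsg.Agent.LsF.icast_pat, Cfsg.Agent.LsF.instDecEq_eq, Cfsg.Agent.LsF.dOr_eq, Cfsg.Agent.LsF.dNot_eq, Cfsg.Agent.LsF.dBAll_eq, Cfsg.Agent.LsF.decide_eq])); decide +kernel)

theorem cntE8 : ∀ cs ∈ enumAll 3 ([4, 5, 6, 7] : List (Fin 8)).length, cntL 3 rlE8 (lcomb 8 cs bLE8) 0 ≠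
    cntL 3 rlE8 [0, 0, 0, 0, 0, 0, 0, 1] 0 ∨ cntL 3 rlE8 (lcomb 8 cs bLE8) 1 ≠ cntL 3 rlE8 [0, 0, 0, 0, 0, 0, 0, 1] 1 := by
  intro cs hcs
  rw [cntE8_k0, cntE8_k1]
  obtain ⟨c, hc, h⟩ := List.mem_flatMap.1 hcs
  obtain ⟨t, ht, rfl⟩ := List.mem_map.1 h
  have hc3 : c < 3 := List.mem_range.1 hc
  have h3 : c = 0 ∨ c = 1 ∨ c = 2 := by omega
  rcases h3 with rfl | rfl | rfl
  · exact cntE8_0 t ht
  · exact cntE8_1 t ht
  · exact cntE8_2 t ht

theorem cmE8 : ∀ i : Fin 8, ac alE8 cwE8 (bas 8 i) = cME8.getD i [] := by rewrite [Cfsg.Agent.WeylFast.ac_eq]; decide +kernel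

theorem oneE8 : ∀ i : Fin 8, acn alE8 cwE8 (3) (bas 8 i) = bas 8 i := by rewrite [Cfsg.Agent.WeylFast.acn_eq]; decide +kernel

/-- functionals -/
def vLE8 : List (List ℤ) := [[1, 0, 0, 0, 0, 0, 0, 0], [0, 1, 0, 0, 0, 0, 0, 0], [0, 0, 1, 0, 0, 0, 0, 0], [0, 0, 0, 1, 0, 0, 0, 0], [0, 0,
    0, 0, 1, 0, 0, 0], [0, 0, 0, 0, 0, 1, 0, 0], [0, 0, 0, 0, 0, 0, 1, 0], [0, 0, 0, 0, 0, 0, 0, 1]]

theorem nvE8 : ∀ x ∈ rlE8, ∃ v ∈ vLE8, dot x v % 3 ≠ 0 := by rewrite [Cfsg.Agent.WeylFast.dot_eq]; (first | (refine of_decide_eq_true ?_; delta Cfsg.Agent.H778.Exc.rlE8; rewrite [Cfsg.Agent.KO32bcdca.e5, Cfsg.Agent.KO32bcdca.e24.{0}, Cfsg.Agent.KO32bcdca.e25.{0}, Cfsg.Agent.KO32bcdca.e36, Cfsg.Agent.KO32bcdca.e16, Cfsg.Agent.KO32bcdca.e49, Cfsg.Agent.KO32bcdca.e1.{0, 0}, Cfsg.Agent.KO32bcdca.e4]; decide +kernel) | decide +kernel)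

theorem sepE8 : ∀ i : Fin 8, ∀ x ∈ rlE8, (∀ v ∈ vLE8, (dot x v - v.getD i 0) % 3 = 0) → ∀ y ∈ x, 0 ≤ y := by
  rewrite [Cfsg.Agent.WeylFast.dot_eq]; (first | (refine of_decide_eq_true ?_; delta Cfsg.Agent.H778.Exc.rlE8; rewrite [Cfsg.Agent.KO32bcdca.e5, Cfsg.Agent.KO32bcdca.e14, Cfsg.Agent.KO32bcdca.e24.{0}, Cfsg.Agent.KO32bcdca.e48, Cfsg.Agent.KO32bcdca.e16, Cfsg.Agent.KO32bcdca.e49, Cfsg.Agent.KO32bcdca.e13.{0}, Cfsg.Agent.KO32bcdca.e1.{0, 0}, Cfsg.Agent.KO32bcdca.e4]; decide +kernel) | decide +kernel)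

private noncomputable def _root_.Cfsg.Agent.KO32bcdca.k42.{ku0, ku1, ku2} : type_of% @List.zipWith.{ku0, ku1, ku2} := @(fun x0 x1 x2 x3 x4 x5 => @List.rec.{(max (ku1+1) (ku2+1)), ku0} @x0 @(fun x6 => (@List.{ku1} @x1) → @List.{ku2} @x2) @(fun x6 => []) @(fun x6 x7 x8 x9 => @List.rec.{(ku2+1), ku1} @x1 @(fun x10 => @List.{ku2} @x2) [] @(fun x10 x11 x12 => (@x3 @x6 @x10) :: (@x8 @x11)) @x9) @x4 @x5)
private theorem _root_.Cfsg.Agent.KO32bcdca.e42.{ku0, ku1, ku2} : @List.zipWith.{ku0, ku1, ku2} = @_root_.Cfsg.Agent.KO32bcdca.k42.{ku0, ku1, ku2} := by delta _root_.Cfsg.Agent.KO32bcdca.k42; funext a0 a1 a2 a3 a4 a5; refine (congrFun (_root_.Cfsg.Agent.KO32bcdca.e0 (fun a4 a5 => @List.zipWith.{ku0, ku1, ku2} a0 a1 a2 a3 a4 a5) ?_ (fun c0 c1 => ?_) a4) a5 :) <;> [(funext b0; (rfl')); (funext b0; (cases b0 with | @nil  => (rfl') | @cons b0_0 b0_1 => (rfl')))]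
private noncomputable def _root_.Cfsg.Agent.KO32bcdca.k62.{ku0} : type_of% @List.sum.{ku0} := @(fun x0 x1 x2 => @Cfsg.Agent.KO32bcdca.k28.{ku0, ku0} _ _ @(fun x3 x4 => @Add.add.{ku0} _ @x1 @x3 @x4) (@Zero.zero.{ku0} _ @x2))
private theorem _root_.Cfsg.Agent.KO32bcdca.e62.{ku0} : @List.sum.{ku0} = @_root_.Cfsg.Agent.KO32bcdca.k62.{ku0} := by delta _root_.Cfsg.Agent.KO32bcdca.k62; rewrite [← Cfsg.Agent.KO32bcdca.e28.{ku0, ku0}]; rfl'
private noncomputable def _root_.Cfsg.Agent.KO32bcdca.k63.{ku0, ku1} : type_of% @Multiset.foldr.{ku0, ku1} := @(fun x0 x1 x2 x3 x4 x5 => @Quot.lift.{(ku1+1), (ku0+1)} _ _ _ @(fun x6 => @List.foldr.{ku1, ku0} _ _ @x2 @x4 @x6) @(fun x6 x7 x8 => @List.Perm.foldr_eq.{ku1, ku0} _ _ _ _ _ _ @x8 @x4) @x5)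
private theorem _root_.Cfsg.Agent.KO32bcdca.e63.{ku0, ku1} : @Multiset.foldr.{ku0, ku1} = @_root_.Cfsg.Agent.KO32bcdca.k63.{ku0, ku1} := by delta _root_.Cfsg.Agent.KO32bcdca.k63; rfl'
private noncomputable def _root_.Cfsg.Agent.KO32bcdca.k64.{ku0} : type_of% @Multiset.sum.{ku0} := @(fun x0 x1 => @Cfsg.Agent.KO32bcdca.k63.{ku0, ku0} _ _ @(fun x2 x3 => @Add.add.{ku0} _ (@AddSemigroup.toAdd.{ku0} _ (@AddMonoid.toAddSemigroup.{ku0} _ (@AddCommMonoid.toAddMonoid.{ku0} _ @x1))) @x2 @x3) (@Multiset.sum._proof_1.{ku0} _ _) (@Zero.zero.{ku0} _ (@AddMonoid.toZero.{ku0} _ (@AddCommMonoid.toAddMonoid.{ku0} _ @x1))))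
private theorem _root_.Cfsg.Agent.KO32bcdca.e64.{ku0} : @Multiset.sum.{ku0} = @_root_.Cfsg.Agent.KO32bcdca.k64.{ku0} := by delta _root_.Cfsg.Agent.KO32bcdca.k64; rewrite [← Cfsg.Agent.KO32bcdca.e63.{ku0, ku0}]; rfl'
private noncomputable def _root_.Cfsg.Agent.KO32bcdca.k65.{ku0, ku1} : type_of% @Finset.sum.{ku0, ku1} := @(fun x0 x1 x2 x3 x4 => @Cfsg.Agent.KO32bcdca.k64.{ku1} _ @x2 (@Quot.lift.{(ku0+1), (ku1+1)} _ _ _ @(fun x5 => @Quot.mk.{(ku1+1)} _ (@Setoid.r.{(ku1+1)} _ _) (@List.map.{ku0, ku1} _ _ @x4 @x5)) (@Multiset.map._proof_1.{ku0, ku1} _ _ @x4) (@Finset.val.{ku0} _ @x3)))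
private theorem _root_.Cfsg.Agent.KO32bcdca.e65.{ku0, ku1} : @Finset.sum.{ku0, ku1} = @_root_.Cfsg.Agent.KO32bcdca.k65.{ku0, ku1} := by delta _root_.Cfsg.Agent.KO32bcdca.k65; rewrite [← Cfsg.Agent.KO32bcdca.e64.{ku1}]; rfl'

theorem mc_E8_1 : MCert Cfsg.Lie.chevE8 8 3 alE8 id
    []
    1 vLE8 cwE8 (3 ^ 1) [0, 0, 0, 0, 0, 0, 0, 1] [4, 5, 6, 7] bLE8
    [[-1, -1, 1, 0, 0, 0, 0, 0], [1, 1, 0, 1, 0, 0, 0, 0], [-1, 0, 1, 0, 0, 0, 0, 0], [0, -1, 0, 1, 0, 0, 0, 0],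
    [], [], [], []]
    []
    [[1, 0, 0, 0, 0, 0, 0, 0], [0, 1, 0, 0, 0, 0, 0, 0], [0, 0, 1, 0, 0, 0, 0, 0], [0, 0, 0, 1, 0, 0, 0, 0], [0, 0,
    0, 0, 1, 0, 0, 0], [0, 0, 0, 0, 0, 1, 0, 0], [0, 0, 0, 0, 0, 0, 1, 0], [0, 0, 0, 0, 0, 0, 0, 1]]
    cME8 rlE8 where
  la := rfl
  tm := by rewrite [Cfsg.Agent.WeylFast.ac_eq]; decide +kernel
  cm := cmE8
  ra := by rewrite [Cfsg.Agent.WeylFast.dot_eq]; decide +kernel
  lv := by decide +kernel
  rv := by rewrite [Cfsg.Agent.WeylFast.dot_eq]; decide +kernel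
  nv := nvE8
  sep := sepE8
  one := oneE8
  com := by rewrite [Cfsg.Agent.WeylFast.ac_eq]; decide +kernel
  fix := by (first | (refine of_decide_eq_true ?_; rewrite [Cfsg.Agent.KO32bcdca.e5, Cfsg.Agent.KO32bcdca.e14, Cfsg.Agent.KO32bcdca.e16, Cfsg.Agent.KO32bcdca.e13.{0}, Cfsg.Agent.KO32bcdca.e34, Cfsg.Agent.KO32bcdca.e62.{0}, Cfsg.Agent.KO32bcdca.e42.{0, 0, 0}, Cfsg.Agent.KO32bcdca.e65.{0, 0}]; decide +kernel) | decide +kernel)
  cnt := cntE8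

theorem mc_E8_2 : MCert Cfsg.Lie.chevE8 8 3 alE8 id
    [0, 3, 5, 7, 2, 4, 1, 6, 0, 3, 5, 7, 2, 4, 1, 6, 0, 3, 5, 7, 2, 4, 1, 6, 0, 3, 5, 7, 2, 4, 1, 6, 0, 3, 5, 7, 2,
    4, 1, 6, 0, 3, 5, 7, 2, 4, 1, 6, 0, 3, 5, 7, 2, 4, 1, 6, 0, 3, 5, 7, 2, 4, 1, 6, 0, 3, 5, 7, 2, 4, 1, 6, 0, 3,
    5, 7, 2, 4, 1, 6, 0, 3, 5, 7, 2, 4, 1, 6, 0, 3, 5, 7, 2, 4, 1, 6, 0, 3, 5, 7, 2, 4, 1, 6, 0, 3, 5, 7, 2, 4, 1,
    6, 0, 3, 5, 7, 2, 4, 1, 6]
    2 vLE8 cwE8 (3 ^ 1) [0, 0, 0, 0, 0, 0, 0, 1] [4, 5, 6, 7] bLE8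
    [[-1, -1, 1, 0, 0, 0, 0, 0], [1, 1, 0, 1, 0, 0, 0, 0], [-1, 0, 1, 0, 0, 0, 0, 0], [0, -1, 0, 1, 0, 0, 0, 0],
    [], [], [], []]
    []
    [[-1, 0, 0, 0, 0, 0, 0, 0], [0, -1, 0, 0, 0, 0, 0, 0], [0, 0, -1, 0, 0, 0, 0, 0], [0, 0, 0, -1, 0, 0, 0, 0],
    [0, 0, 0, 0, -1, 0, 0, 0], [0, 0, 0, 0, 0, -1, 0, 0], [0, 0, 0, 0, 0, 0, -1, 0], [0, 0, 0, 0, 0, 0, 0, -1]]
    cME8 rlE8 where
  la := rfl
  tm := by rewrite [Cfsg.Agent.WeylFast.ac_eq]; decide +kernel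
  cm := cmE8
  ra := by rewrite [Cfsg.Agent.WeylFast.dot_eq]; decide +kernel
  lv := by decide +kernel
  rv := by rewrite [Cfsg.Agent.WeylFast.dot_eq]; decide +kernel
  nv := nvE8
  sep := sepE8
  one := oneE8
  com := by rewrite [Cfsg.Agent.WeylFast.ac_eq]; decide +kernel
  fix := by (first | (refine of_decide_eq_true ?_; rewrite [Cfsg.Agent.KO32bcdca.e5, Cfsg.Agent.KO32bcdca.e14, Cfsg.Agent.KO32bcdca.e16, Cfsg.Agent.KO32bcdca.e13.{0}, Cfsg.Agent.KO32bcdca.e34, Cfsg.Agent.KO32bcdca.e62.{0}, Cfsg.Agent.KO32bcdca.e42.{0, 0, 0}, Cfsg.Agent.KO32bcdca.e65.{0, 0}]; decide +kernel) | decide +kernel)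
  cnt := cntE8

/-- a word -/
def cwE8f : List (Fin 8) := [0, 3, 5, 7, 2, 4, 1, 6, 0, 3, 5, 7, 2, 4, 1, 6, 0, 3, 5, 7, 2, 4, 1, 6, 0, 3, 5, 7, 2, 4, 1, 6, 0, 3, 5, 7, 2,
    4, 1, 6, 0, 3, 5, 7, 2, 4, 1, 6]

/-- its matrix -/
def cME8f : List (List ℤ) := [[1, 1, 2, 2, 1, 1, 1, 1], [-1, -2, -2, -3, -2, -2, -1, 0], [-2, -2, -3, -4, -3, -2, -1, -1], [2, 3, 4, 6, 5,
    4, 2, 1], [-1, -2, -3, -5, -4, -3, -2, -1], [1, 2, 2, 4, 3, 2, 2, 1], [-1, -1, -1, -2, -2, -2, -2, -1], [1, 0,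
    1, 1, 1, 1, 1, 0]]

/-- fixed functionals -/
def bLE8f : List (List ℤ) := [[0, 2, -2, 0, 1, 0, 1, 0], [-2, 0, 0, 1, 0, 2, 0, 1]]

theorem cntE8f : ∀ cs ∈ enumAll 5 ([6, 7] : List (Fin 8)).length, cntL 5 rlE8 (lcomb 8 cs bLE8f) 0 ≠
    cntL 5 rlE8 [0, 0, 0, 0, 0, 0, 0, 1] 0 ∨ cntL 5 rlE8 (lcomb 8 cs bLE8f) 1 ≠ cntL 5 rlE8 [0, 0, 0, 0, 0, 0, 0, 1] 1 := by rewrite [show cntL 5 = sAll 5 from cntL_s 5]; (refine of_decide_eq_true ?_; (try (rewrite [Cfsg.Agent.LsF.fceb575_11.2, Cfsg.Agent.LsF.fceb575_8.2, Cfsg.Agent.LsF.fceb575_10.2, Cfsg.Agent.LsF.fceb575_12.2, Cfsg.Agent.LsF.instDecEq_eq, Cfsg.Agent.LsF.dOr_eq, Cfsg.Agent.LsF.dNot_eq, Cfsg.Agent.LsF.dBAll_eq, Cfsg.Agent.LsF.length_eq, Cfsg.Agent.LsF.decide_eq])); decide +kernel)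

theorem cmE8f : ∀ i : Fin 8, ac alE8 cwE8f (bas 8 i) = cME8f.getD i [] := by rewrite [Cfsg.Agent.WeylFast.ac_eq]; decide +kernel

theorem oneE8f : ∀ i : Fin 8, acn alE8 cwE8f (5) (bas 8 i) = bas 8 i := by rewrite [Cfsg.Agent.WeylFast.acn_eq]; decide +kernel

/-- functionals -/
def vLE8f : List (List ℤ) := [[1, 0, 0, 0, 0, 0, 0, 0], [0, 1, 0, 0, 0, 0, 0, 0], [0, 0, 1, 0, 0, 0, 0, 0], [0, 0, 0, 1, 0, 0, 0, 0], [0, 0,
    0, 0, 1, 0, 0, 0], [0, 0, 0, 0, 0, 1, 0, 0], [0, 0, 0, 0, 0, 0, 1, 0], [0, 0, 0, 0, 0, 0, 0, 1]]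

theorem nvE8f : ∀ x ∈ rlE8, ∃ v ∈ vLE8f, dot x v % 5 ≠ 0 := by rewrite [Cfsg.Agent.WeylFast.dot_eq]; (first | (refine of_decide_eq_true ?_; delta Cfsg.Agent.H778.Exc.rlE8; rewrite [Cfsg.Agent.KO32bcdca.e5, Cfsg.Agent.KO32bcdca.e24.{0}, Cfsg.Agent.KO32bcdca.e25.{0}, Cfsg.Agent.KO32bcdca.e36, Cfsg.Agent.KO32bcdca.e16, Cfsg.Agent.KO32bcdca.e49, Cfsg.Agent.KO32bcdca.e1.{0, 0}, Cfsg.Agent.KO32bcdca.e4]; decide +kernel) | decide +kernel)

theorem sepE8f : ∀ i : Fin 8, ∀ x ∈ rlE8, (∀ v ∈ vLE8f, (dot x v - v.getD i 0) % 5 = 0) → ∀ y ∈ x, 0 ≤ y := by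
  rewrite [Cfsg.Agent.WeylFast.dot_eq]; (first | (refine of_decide_eq_true ?_; delta Cfsg.Agent.H778.Exc.rlE8; rewrite [Cfsg.Agent.KO32bcdca.e5, Cfsg.Agent.KO32bcdca.e14, Cfsg.Agent.KO32bcdca.e24.{0}, Cfsg.Agent.KO32bcdca.e48, Cfsg.Agent.KO32bcdca.e16, Cfsg.Agent.KO32bcdca.e49, Cfsg.Agent.KO32bcdca.e13.{0}, Cfsg.Agent.KO32bcdca.e1.{0, 0}, Cfsg.Agent.KO32bcdca.e4]; decide +kernel) | decide +kernel)

theorem mc_E8_5_1 : MCert Cfsg.Lie.chevE8 8 5 alE8 id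
    []
    1 vLE8f cwE8f (5 ^ 1) [0, 0, 0, 0, 0, 0, 0, 1] [6, 7] bLE8f
    [[-1, -2, -2, -1, 0, 2, 0, 0], [2, -1, -1, 0, -1, 1, 0, 0], [2, -1, -2, -1, -2, 0, 0, 0], [-1, 0, 1, 1, -2, -2,
    0, 0], [0, -1, -2, 2, 0, 1, 0, 0], [2, -1, 0, -2, -1, 2, 0, 0], [], []]
    []
    [[1, 0, 0, 0, 0, 0, 0, 0], [0, 1, 0, 0, 0, 0, 0, 0], [0, 0, 1, 0, 0, 0, 0, 0], [0, 0, 0, 1, 0, 0, 0, 0], [0, 0,
    0, 0, 1, 0, 0, 0], [0, 0, 0, 0, 0, 1, 0, 0], [0, 0, 0, 0, 0, 0, 1, 0], [0, 0, 0, 0, 0, 0, 0, 1]]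
    cME8f rlE8 where
  la := rfl
  tm := by rewrite [Cfsg.Agent.WeylFast.ac_eq]; decide +kernel
  cm := cmE8f
  ra := by rewrite [Cfsg.Agent.WeylFast.dot_eq]; decide +kernel
  lv := by decide +kernel
  rv := by rewrite [Cfsg.Agent.WeylFast.dot_eq]; decide +kernel
  nv := nvE8f
  sep := sepE8f
  one := oneE8f
  com := by rewrite [Cfsg.Agent.WeylFast.ac_eq]; decide +kernel
  fix := by (first | (refine of_decide_eq_true ?_; rewrite [Cfsg.Agent.KO32bcdca.e5, Cfsg.Agent.KO32bcdca.e14, Cfsg.Agent.KO32bcdca.e16, Cfsg.Agent.KO32bcdca.e13.{0}, Cfsg.Agent.KO32bcdca.e34, Cfsg.Agent.KO32bcdca.e62.{0}, Cfsg.Agent.KO32bcdca.e42.{0, 0, 0}, Cfsg.Agent.KO32bcdca.e65.{0, 0}]; decide +kernel) | decide +kernel)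
  cnt := cntE8f

private noncomputable def _root_.Cfsg.Agent.KO32bcdca.k45.{ku0} : type_of% @List.append.{ku0} := @(fun x0 x1 x2 => @List.rec.{(ku0+1), ku0} @x0 @(fun x3 => (@List.{ku0} @x0) → @List.{ku0} @x0) @(fun x3 => @x3) @(fun x3 x4 x5 x6 => @x3 :: (@x5 @x6)) @x1 @x2)
private theorem _root_.Cfsg.Agent.KO32bcdca.e45.{ku0} : @List.append.{ku0} = @_root_.Cfsg.Agent.KO32bcdca.k45.{ku0} := by delta _root_.Cfsg.Agent.KO32bcdca.k45; funext a0 a1 a2; refine (congrFun (_root_.Cfsg.Agent.KO32bcdca.e0 (fun a1 a2 => @List.append.{ku0} a0 a1 a2) ?_ (fun c0 c1 => ?_) a1) a2 :) <;> (rfl')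
private noncomputable def _root_.Cfsg.Agent.KO32bcdca.k46.{ku0} : type_of% @List.flatten.{ku0} := @(fun x0 x1 => @List.rec.{(ku0+1), ku0} (@List.{ku0} @x0) @(fun x2 => @List.{ku0} @x0) [] @(fun x2 x3 x4 => @Cfsg.Agent.KO32bcdca.k45.{ku0} _ @x2 @x4) @x1)
private theorem _root_.Cfsg.Agent.KO32bcdca.e46.{ku0} : @List.flatten.{ku0} = @_root_.Cfsg.Agent.KO32bcdca.k46.{ku0} := by delta _root_.Cfsg.Agent.KO32bcdca.k46; rewrite [← Cfsg.Agent.KO32bcdca.e45.{ku0}]; funext a0 a1; refine (_root_.Cfsg.Agent.KO32bcdca.e0 (fun a1 => @List.flatten.{ku0} a0 a1) ?_ (fun c0 c1 => ?_) a1 :) <;> (rfl')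
private noncomputable def _root_.Cfsg.Agent.KO32bcdca.k52.{ku0} : type_of% @List.hasDecEq.{ku0} := @(fun x0 x1 x2 x3 => @List.rec.{(ku0+1), ku0} @x0 @(fun x4 => (x5 : @List.{ku0} @x0) → @Decidable (@Eq.{(ku0+1)} _ @x4 @x5)) @(fun x4 => @List.rec.{1, ku0} @x0 @(fun x5 => @Decidable (@Eq.{(ku0+1)} _ [] @x5)) (@Decidable.isTrue _ (@List.hasDecEq._proof_1.{ku0} _)) @(fun x5 x6 x7 => @Decidable.isFalse _ (@List.hasDecEq._proof_3.{ku0} _ @x5 @x6)) @x4) @(fun x4 x5 x6 x7 => @List.rec.{1, ku0} @x0 @(fun x8 => @Decidable (@Eq.{(ku0+1)} _ (@x4 :: @x5) @x8)) (@Decidable.isFalse _ (@List.hasDecEq._proof_2.{ku0} _ @x4 @x5)) @(fun x8 x9 x10 => @Decidable.rec.{1} _ @(fun x11 => @Decidable (@Eq.{(ku0+1)} _ (@x4 :: @x5) (@x8 :: @x9))) @(fun x11 => @Decidable.isFalse _ (@List.hasDecEq._proof_6.{ku0} _ @x4 @x5 @x8 @x9 @x11)) @(fun x11 => @Decidable.rec.{1} _ @(fun x12 => @Decidable (@Eq.{(ku0+1)} _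 (@x4 :: @x5) (@x8 :: @x9))) @(fun x12 => @Decidable.isFalse _ (@List.hasDecEq._proof_5.{ku0} _ @x4 @x5 @x8 @x9 @x12)) @(fun x12 => @Decidable.isTrue _ (@List.hasDecEq._proof_4.{ku0} _ @x4 @x5 @x8 @x9 @x11 @x12)) (@x6 @x9)) (@x1 @x4 @x8)) @x7) @x2 @x3)
private theorem _root_.Cfsg.Agent.KO32bcdca.e52.{ku0} : @List.hasDecEq.{ku0} = @_root_.Cfsg.Agent.KO32bcdca.k52.{ku0} := by delta _root_.Cfsg.Agent.KO32bcdca.k52; funext a0 a1 a2 a3; refine (congrFun (_root_.Cfsg.Agent.KO32bcdca.e0 (fun a2 a3 => @List.hasDecEq.{ku0} a0 a1 a2 a3) ?_ (fun c0 c1 => ?_) a2) a3 :) <;> [(funext b0; (cases b0 with | @nil  => (rfl') | @cons b0_0 b0_1 => (rfl'))); (funext b0; (cases b0 with | @nil  => (rfl') | @cons b0_0 b0_1 => (rfl')))]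
private noncomputable def _root_.Cfsg.Agent.KO32bcdca.k53.{ku0} : type_of% @instDecidableEqList.{ku0} := @(fun x0 x1 x2 x3 => @List.rec.{1, ku0} @x0 @(fun x4 => @Decidable (@Eq.{(ku0+1)} _ @x4 @x3)) (@List.rec.{1, ku0} @x0 @(fun x4 => @Decidable (@Eq.{(ku0+1)} _ [] @x4)) (@Decidable.isTrue _ (@List.hasDecEq._proof_1.{ku0} _)) @(fun x4 x5 x6 => @Decidable.isFalse _ (@List.hasDecEq._proof_3.{ku0} _ @x4 @x5)) @x3) @(fun x4 x5 x6 => @List.rec.{1, ku0} @x0 @(fun x7 => @Decidable (@Eq.{(ku0+1)} _ (@x4 :: @x5) @x7)) (@Decidable.isFalse _ (@List.hasDecEq._proof_2.{ku0} _ @x4 @x5)) @(fun x7 x8 x9 => @Decidable.rec.{1} _ @(fun x10 => @Decidable (@Eq.{(ku0+1)} _ (@x4 :: @x5) (@x7 :: @x8))) @(fun x10 => @Decidable.isFalse _ (@List.hasDecEq._proof_6.{ku0} _ @x4 @x5 @x7 @x8 @x10)) @(fun x10 => @Decidable.rec.{1} _ @(fun x11 => @Decidable (@Eq.{(ku0+1)} _ (@x4 :: @x5) (@x7 :: @x8))) @(fun x11 =>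 @Decidable.isFalse _ (@List.hasDecEq._proof_5.{ku0} _ @x4 @x5 @x7 @x8 @x11)) @(fun x11 => @Decidable.isTrue _ (@List.hasDecEq._proof_4.{ku0} _ @x4 @x5 @x7 @x8 @x10 @x11)) (@Cfsg.Agent.KO32bcdca.k52.{ku0} _ @x1 @x5 @x8)) (@x1 @x4 @x7)) @x3) @x2)
private theorem _root_.Cfsg.Agent.KO32bcdca.e53.{ku0} : @instDecidableEqList.{ku0} = @_root_.Cfsg.Agent.KO32bcdca.k53.{ku0} := by delta _root_.Cfsg.Agent.KO32bcdca.k53; rewrite [← Cfsg.Agent.KO32bcdca.e52.{ku0}]; rfl'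
private noncomputable def _root_.Cfsg.Agent.KO32bcdca.k56 : type_of% @Int.neg := @(fun x0 => @Int.rec.{1} @(fun x1 => ℤ) @(fun x1 => @Nat.rec.{1} @(fun x2 => ℤ) (@Int.ofNat (nat_lit 0)) @(fun x2 x3 => @Int.negSucc @x2) @x1) @(fun x1 => @Int.ofNat (@Nat.succ @x1)) @x0)
private theorem _root_.Cfsg.Agent.KO32bcdca.e56 : @Int.neg = @_root_.Cfsg.Agent.KO32bcdca.k56 := by delta _root_.Cfsg.Agent.KO32bcdca.k56; rfl'
private noncomputable def _root_.Cfsg.Agent.KO32bcdca.k57 : (by first | exact type_of% @Cfsg.Agent.WeylFast.rws | exact Unit : Sort _) := by first | (refine @Subtype.val _ (fun g => @Cfsg.Agent.WeylFast.rws = @g) (@Subtype.mk _ _ (@(fun x0 x1 x2 => @Cfsg.Agent.KO32bcdca.k1.{0, 0} _ _ @(fun x3 => @Cfsg.Agent.KO32bcdca.k1.{0, 0} _ _ @Cfsg.Agent.KO32bcdca.k56 (@Option.rec.{1, 0} (@List.{0} ℤ) @(fun x4 => @List.{0} ℤ) [] @(fun x4 => @x4) (@Cfsg.Agent.KO32bcdca.k12.{0} _ @x1 @x3)))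 (@Cfsg.Agent.KO32bcdca.k46.{0} _ (@Cfsg.Agent.KO32bcdca.k1.{0, 0} _ _ @(fun x3 => (@Fin.val _ @x3) :: []) @x2)))) ?_); rewrite [← Cfsg.Agent.KO32bcdca.e46.{0}, ← Cfsg.Agent.KO32bcdca.e12.{0}, ← Cfsg.Agent.KO32bcdca.e56, ← Cfsg.Agent.KO32bcdca.e1.{0, 0}]; rfl') | exact @Cfsg.Agent.WeylFast.rws | exact ()
private theorem _root_.Cfsg.Agent.KO32bcdca.e57 : (by first | exact @Cfsg.Agent.WeylFast.rws = @_root_.Cfsg.Agent.KO32bcdca.k57 | exact True : Prop) := by first | (delta _root_.Cfsg.Agent.KO32bcdca.k57; exact @Subtype.property _ (fun g => @Cfsg.Agent.WeylFast.rws = @g) _) | rfl | trivial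
private noncomputable def _root_.Cfsg.Agent.KO32bcdca.k58 : (by first | exact type_of% @Cfsg.Agent.WeylFast.rfK | exact Unit : Sort _) := by first | (refine @Subtype.val _ (fun g => @Cfsg.Agent.WeylFast.rfK = @g) (@Subtype.mk _ _ (@(fun x0 x1 x2 x3 => @List.rec.{1, 0} ℤ @(fun x4 => ℕ → ((@List.{0} ℤ) → @x0) → @x0) @(fun x4 x5 => @x5 []) @(fun x4 x5 x6 x7 x8 => @Nat.rec.{1} @(fun x9 => @x0) (@Cfsg.Agent.KO32bcdca.k38 _ (@Cfsg.Agent.WeylFast.s3 (@Cfsg.Agent.WeylFast.dotF @x1 @x2) (@Int.ofNat (nat_lit 1)) @x4 (nat_lit 0) (nat_lit 0)) @(fun x9 => @x8 (@x9 :: @x5))) @(fun x9 x10 => @x6 @x9 @(fun x11 => @x8 (@x4 :: @x11))) @x7) @x3)) ?_); rewrite [← Cfsg.Agent.KO32bcdca.e38]; (try delta Cfsg.Agent.WeylFast.rfK); (try generalize @Cfsg.Agent.WeylFast.fZ = g0); (try generalize @Cfsg.Agent.WeylFast.s3 = g1); (try generalize @Cfsg.Agent.WeylFast.dotF = g2); rfl') | exact @Cfsg.Agent.WeylFast.rfK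 | exact ()
private theorem _root_.Cfsg.Agent.KO32bcdca.e58 : (by first | exact @Cfsg.Agent.WeylFast.rfK = @_root_.Cfsg.Agent.KO32bcdca.k58 | exact True : Prop) := by first | (delta _root_.Cfsg.Agent.KO32bcdca.k58; exact @Subtype.property _ (fun g => @Cfsg.Agent.WeylFast.rfK = @g) _) | rfl | trivial
private noncomputable def _root_.Cfsg.Agent.KO32bcdca.k59 : (by first | exact type_of% @Cfsg.Agent.WeylFast.acK | exact Unit : Sort _) := by first | (refine @Subtype.val _ (fun g => @Cfsg.Agent.WeylFast.acK = @g) (@Subtype.mk _ _ (@(fun x0 x1 => @List.rec.{1, 0} ℕ @(fun x2 => (@List.{0} (@List.{0} ℤ)) → (@List.{0} ℤ) → ((@List.{0} ℤ) → @x0) → @x0) @(fun x2 x3 x4 => @x4 @x3) @(fun x2 x3 x4 x5 x6 x7 => @List.rec.{1, 0} (@List.{0} ℤ) @(fun x8 => @x0) (@x7 @x6) @(fun x8 x9 x10 => @x4 @x9 @x6 @(fun x11 => @Cfsg.Agent.KO32bcdca.k58 _ @x8 @x11 @x11 @x2 @x7)) @x5) @x1)) ?_); rewrite [← Cfsg.Agent.KO32bcdca.e58];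 (try delta Cfsg.Agent.WeylFast.acK); (try generalize @Cfsg.Agent.WeylFast.rfK = g0); rfl') | exact @Cfsg.Agent.WeylFast.acK | exact ()
private theorem _root_.Cfsg.Agent.KO32bcdca.e59 : (by first | exact @Cfsg.Agent.WeylFast.acK = @_root_.Cfsg.Agent.KO32bcdca.k59 | exact True : Prop) := by first | (delta _root_.Cfsg.Agent.KO32bcdca.k59; exact @Subtype.property _ (fun g => @Cfsg.Agent.WeylFast.acK = @g) _) | rfl | trivial
private noncomputable def _root_.Cfsg.Agent.KO32bcdca.k66 : (by first | exact type_of% @Cfsg.Agent.WeylFast.acQ | exact Unit : Sort _) := by first | (refine @Subtype.val _ (fun g => @Cfsg.Agent.WeylFast.acQ = @g) (@Subtype.mk _ _ (@(fun x0 x1 x2 x3 => @Cfsg.Agent.KO32bcdca.k39 _ _ @(fun x4 => @x4) @x3 @(fun x4 => @Cfsg.Agent.KO32bcdca.k59 _ (@Cfsg.Agent.KO32bcdca.k1.{0, 0} _ _ (@Fin.val _) @x2) (@Cfsg.Agent.KO32bcdca.k57 _ @x1 @x2) @x4 @(fun x5 => @x5)))) ?_); rewrite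 [← Cfsg.Agent.KO32bcdca.e57, ← Cfsg.Agent.KO32bcdca.e1.{0, 0}, ← Cfsg.Agent.KO32bcdca.e59, ← Cfsg.Agent.KO32bcdca.e39]; (try delta Cfsg.Agent.WeylFast.acQ Cfsg.Agent.WeylFast.fL); (try generalize @Cfsg.Agent.WeylFast.mpK = g0); (try generalize @Cfsg.Agent.WeylFast.acK = g1); (try generalize @Cfsg.Agent.WeylFast.rws = g2); rfl') | exact @Cfsg.Agent.WeylFast.acQ | exact ()
private theorem _root_.Cfsg.Agent.KO32bcdca.e66 : (by first | exact @Cfsg.Agent.WeylFast.acQ = @_root_.Cfsg.Agent.KO32bcdca.k66 | exact True : Prop) := by first | (delta _root_.Cfsg.Agent.KO32bcdca.k66; exact @Subtype.property _ (fun g => @Cfsg.Agent.WeylFast.acQ = @g) _) | rfl | trivial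

theorem mc_E8_5_4 : MCert Cfsg.Lie.chevE8 8 5 alE8 id
    [0, 3, 5, 7, 2, 4, 1, 6, 0, 3, 5, 7, 2, 4, 1, 6, 0, 3, 5, 7, 2, 4, 1, 6, 0, 3, 5, 7, 2, 4, 1, 6, 0, 3, 5, 7, 2,
    4, 1, 6, 0, 3, 5, 7, 2, 4, 1, 6, 0, 3, 5, 7, 2, 4, 1, 6, 0, 3, 5, 7, 2, 4, 1, 6, 0, 3, 5, 7, 2, 4, 1, 6, 0, 3,
    5, 7, 2, 4, 1, 6, 0, 3, 5, 7, 2, 4, 1, 6, 0, 3, 5, 7, 2, 4, 1, 6, 0, 3, 5, 7, 2, 4, 1, 6, 0, 3, 5, 7, 2, 4, 1,
    6, 0, 3, 5, 7, 2, 4, 1, 6]
    4 vLE8f cwE8f (5 ^ 1) [0, 0, 0, 0, 0, 0, 0, 1] [6, 7] bLE8f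
    [[-1, -2, -2, -1, 0, 2, 0, 0], [2, -1, -1, 0, -1, 1, 0, 0], [2, -1, -2, -1, -2, 0, 0, 0], [-1, 0, 1, 1, -2, -2,
    0, 0], [0, -1, -2, 2, 0, 1, 0, 0], [2, -1, 0, -2, -1, 2, 0, 0], [], []]
    []
    [[-1, 0, 0, 0, 0, 0, 0, 0], [0, -1, 0, 0, 0, 0, 0, 0], [0, 0, -1, 0, 0, 0, 0, 0], [0, 0, 0, -1, 0, 0, 0, 0],
    [0, 0, 0, 0, -1, 0, 0, 0], [0, 0, 0, 0, 0, -1, 0, 0], [0, 0, 0, 0, 0, 0, -1, 0], [0, 0, 0, 0, 0, 0, 0, -1]]
    cME8f rlE8 where
  la := rfl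
  tm := by rewrite [Cfsg.Agent.WeylFast.ac_eq]; (first | (refine of_decide_eq_true ?_; rewrite [Cfsg.Agent.KO32bcdca.e5, Cfsg.Agent.KO32bcdca.e14, Cfsg.Agent.KO32bcdca.e53.{0}, Cfsg.Agent.KO32bcdca.e16, Cfsg.Agent.KO32bcdca.e66, Cfsg.Agent.KO32bcdca.e34, Cfsg.Agent.KO32bcdca.e13.{0}]; decide +kernel) | decide +kernel)
  cm := cmE8f
  ra := by rewrite [Cfsg.Agent.WeylFast.dot_eq]; decide +kernel
  lv := by decide +kernel
  rv := by rewrite [Cfsg.Agent.WeylFast.dot_eq]; decide +kernel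
  nv := nvE8f
  sep := sepE8f
  one := oneE8f
  com := by rewrite [Cfsg.Agent.WeylFast.ac_eq]; decide +kernel
  fix := by decide +kernel
  cnt := cntE8f

/-- a word -/
def cwE8g : List (Fin 8) := [5, 6, 7, 2, 1, 3, 4, 5, 6, 0, 2, 3, 4, 5, 1, 3, 4, 2, 3, 0, 2, 1, 3, 4, 5, 6, 7, 4, 3, 2, 1, 3, 4, 5, 6, 2, 3,
    4, 5, 3, 4, 2, 3, 0, 2, 1, 3, 4]

/-- its matrix -/
def cME8g : List (List ℤ) := [[0, 1, 1, 1, 1, 0, 0, 0], [0, 1, 1, 2, 1, 1, 1, 1], [1, 1, 1, 2, 1, 1, 1, 0], [0, 0, 0, 0, 1, 1, 0, 0], [-2,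
    -3, -4, -6, -5, -4, -2, -1], [2, 2, 4, 5, 4, 3, 2, 1], [0, 0, -1, -1, -1, -1, -1, 0], [-1, -1, -1, -1, -1, -1,
    -1, -1]]

/-- fixed functionals -/
def bLE8g : List (List ℤ) := [[-2, 2, -1, 1, 1, 0, 2, 1]]

theorem cntE8g : ∀ cs ∈ enumAll 5 ([7] : List (Fin 8)).length, cntL 5 rlE8 (lcomb 8 cs bLE8g) 0 ≠
    cntL 5 rlE8 [0, 1, 0, 0, 1, -1, 0, -1] 0 ∨ cntL 5 rlE8 (lcomb 8 cs bLE8g) 1 ≠ cntL 5 rlE8 [0, 1, 0, 0, 1, -1, 0, -1] 1 := by rewrite [show cntL 5 = sAll 5 from cntL_s 5]; (refine of_decide_eq_true ?_; (try (rewrite [Cfsg.Agent.LsF.fceb575_11.2, Cfsg.Agent.LsF.fceb575_8.2, Cfsg.Agent.LsF.fceb575_10.2, Cfsg.Agent.LsF.fceb575_12.2, Cfsg.Agent.LsF.ineg_pat, Cfsg.Agent.LsF.instDecEq_eq, Cfsg.Agent.LsF.dOr_eq, Cfsg.Agent.LsF.dNot_eq, Cfsg.Agent.LsF.dBAll_eq, Cfsg.Agent.LsF.length_eq, Cfsg.Agent.LsF.decide_eq])); decide +kernel)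

theorem cmE8g : ∀ i : Fin 8, ac alE8 cwE8g (bas 8 i) = cME8g.getD i [] := by rewrite [Cfsg.Agent.WeylFast.ac_eq]; decide +kernel

theorem oneE8g : ∀ i : Fin 8, acn alE8 cwE8g (5) (bas 8 i) = bas 8 i := by rewrite [Cfsg.Agent.WeylFast.acn_eq]; decide +kernel

/-- functionals -/
def vLE8g : List (List ℤ) := [[-2, 1, 0, -2, 1, 0, 0, 0], [-2, -1, -2, 2, 0, 1, 0, 0], [0, 0, 1, 1, 0, 0, 1, 0], [0, 1, 2, 1, 0, 0, 0, 1]]

theorem nvE8g : ∀ x ∈ rlE8, ∃ v ∈ vLE8g, dot x v % 5 ≠ 0 := by rewrite [Cfsg.Agent.WeylFast.dot_eq]; (first | (refine of_decide_eq_true ?_; delta Cfsg.Agent.H778.Exc.rlE8; rewrite [Cfsg.Agent.KO32bcdca.e5, Cfsg.Agent.KO32bcdca.e24.{0}, Cfsg.Agent.KO32bcdca.e25.{0}, Cfsg.Agent.KO32bcdca.e36, Cfsg.Agent.KO32bcdca.e16, Cfsg.Agent.KO32bcdca.e49, Cfsg.Agent.KO32bcdca.e1.{0, 0}, Cfsg.Agent.KO32bcdca.e4]; decide +kernel) | decide +kernel)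

theorem sepE8g : ∀ i : Fin 8, ∀ x ∈ rlE8, (∀ v ∈ vLE8g, (dot x v - v.getD i 0) % 5 = 0) → ∀ y ∈ x, 0 ≤ y := by
  rewrite [Cfsg.Agent.WeylFast.dot_eq]; (first | (refine of_decide_eq_true ?_; delta Cfsg.Agent.H778.Exc.rlE8; rewrite [Cfsg.Agent.KO32bcdca.e5, Cfsg.Agent.KO32bcdca.e14, Cfsg.Agent.KO32bcdca.e24.{0}, Cfsg.Agent.KO32bcdca.e48, Cfsg.Agent.KO32bcdca.e16, Cfsg.Agent.KO32bcdca.e49, Cfsg.Agent.KO32bcdca.e13.{0}, Cfsg.Agent.KO32bcdca.e1.{0, 0}, Cfsg.Agent.KO32bcdca.e4]; decide +kernel) | decide +kernel)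

theorem mc_E8_5_2 : MCert Cfsg.Lie.chevE8 8 5 alE8 id
    [2, 3, 0, 2, 1, 3, 4, 5, 6, 7, 4, 3, 2, 1, 3, 4, 5, 6, 0, 2, 3, 4, 5, 1, 3, 4, 2, 3, 0, 2, 1, 3, 4, 5, 6, 7, 4,
    2, 3, 0, 2, 1, 3, 4, 5, 6, 2, 3, 4, 5, 3, 4, 2, 3, 0, 2, 1, 3, 4, 3]
    2 vLE8g cwE8g (5 ^ 1) [0, 1, 0, 0, 1, -1, 0, -1] [7] bLE8g
    [[-1, -1, 0, 2, 0, -2, 0, 0], [1, 1, 0, -1, -1, 1, 0, 0], [0, 1, -1, 1, -1, -1, 0, 0], [-2, -2, 0, -2, 0, 1, 0,
    0], [1, -1, 1, -1, 2, 2, 0, 0], [2, -1, -1, 0, -2, -1, 0, 0], [1, 1, 1, -1, 1, -2, 0, 0], []]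
    [[-2, 0, 0, 0, 0, 0, 0, 0], [-1, 0, 0, 0, 0, 0, 0, 0], [2, 0, 0, 0, 0, 0, 0, 0], [2, 0, 0, 0, 0, 0, 0, 0], [],
    [2, 0, 0, 0, 0, 0, 0, 0], [2, 0, 0, 0, 0, 0, 0, 0], []]
    [[0, 0, 0, 0, 1, 1, 0, 0], [1, 1, 2, 2, 2, 1, 1, 0], [1, 1, 2, 3, 2, 2, 2, 1], [0, 0, -1, -1, -1, -1, -1, 0],
    [-2, -3, -3, -5, -4, -3, -2, -1], [1, 3, 3, 5, 4, 3, 2, 1], [0, -1, -1, -1, -1, -1, -1, -1], [-1, -1, -2, -3,
    -2, -1, 0, 0]]
    cME8g rlE8 where
  la := rfl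
  tm := by rewrite [Cfsg.Agent.WeylFast.ac_eq]; decide +kernel
  cm := cmE8g
  ra := by rewrite [Cfsg.Agent.WeylFast.dot_eq]; decide +kernel
  lv := by decide +kernel
  rv := by rewrite [Cfsg.Agent.WeylFast.dot_eq]; decide +kernel
  nv := nvE8g
  sep := sepE8g
  one := oneE8g
  com := by rewrite [Cfsg.Agent.WeylFast.ac_eq]; decide +kernel
  fix := by (first | (refine of_decide_eq_true ?_; rewrite [Cfsg.Agent.KO32bcdca.e5, Cfsg.Agent.KO32bcdca.e14, Cfsg.Agent.KO32bcdca.e16, Cfsg.Agent.KO32bcdca.e13.{0}, Cfsg.Agent.KO32bcdca.e34, Cfsg.Agent.KO32bcdca.e62.{0}, Cfsg.Agent.KO32bcdca.e42.{0, 0, 0}, Cfsg.Agent.KO32bcdca.e65.{0, 0}]; decide +kernel) | decide +kernel)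
  cnt := cntE8g

theorem mc_E8_5_3 : MCert Cfsg.Lie.chevE8 8 5 alE8 id
    [6, 7, 4, 5, 6, 3, 4, 5, 1, 3, 4, 2, 3, 0, 2, 1, 3, 4, 5, 6, 7, 5, 6, 3, 4, 5, 1, 3, 4, 2, 3, 0, 2, 1, 3, 4, 5,
    6, 5, 1, 3, 4, 2, 3, 0, 2, 1, 3, 4, 5, 4, 3, 0, 2, 1, 3, 0, 2, 1, 0]
    3 vLE8g cwE8g (5 ^ 1) [0, 1, 0, 0, 1, -1, 0, -1] [7] bLE8g
    [[-1, -1, 0, 2, 0, -2, 0, 0], [1, 1, 0, -1, -1, 1, 0, 0], [0, 1, -1, 1, -1, -1, 0, 0], [-2, -2, 0, -2, 0, 1, 0,
    0], [1, -1, 1, -1, 2, 2, 0, 0], [2, -1, -1, 0, -2, -1, 0, 0], [1, 1, 1, -1, 1, -2, 0, 0], []]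
    [[2, 0, 0, 0, 0, 0, 0, 0], [1, 0, 0, 0, 0, 0, 0, 0], [-2, 0, 0, 0, 0, 0, 0, 0], [-2, 0, 0, 0, 0, 0, 0, 0], [],
    [-2, 0, 0, 0, 0, 0, 0, 0], [-2, 0, 0, 0, 0, 0, 0, 0], []]
    [[0, 0, 0, 0, -1, -1, 0, 0], [-1, -1, -2, -2, -2, -1, -1, 0], [-1, -1, -2, -3, -2, -2, -2, -1], [0, 0, 1, 1, 1,
    1, 1, 0], [2, 3, 3, 5, 4, 3, 2, 1], [-1, -3, -3, -5, -4, -3, -2, -1], [0, 1, 1, 1, 1, 1, 1, 1], [1, 1, 2, 3, 2,
    1, 0, 0]]
    cME8g rlE8 where
  la := rfl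
  tm := by rewrite [Cfsg.Agent.WeylFast.ac_eq]; decide +kernel
  cm := cmE8g
  ra := by rewrite [Cfsg.Agent.WeylFast.dot_eq]; decide +kernel
  lv := by decide +kernel
  rv := by rewrite [Cfsg.Agent.WeylFast.dot_eq]; decide +kernel
  nv := nvE8g
  sep := sepE8g
  one := oneE8g
  com := by rewrite [Cfsg.Agent.WeylFast.ac_eq]; decide +kernel
  fix := by (first | (refine of_decide_eq_true ?_; rewrite [Cfsg.Agent.KO32bcdca.e5, Cfsg.Agent.KO32bcdca.e14, Cfsg.Agent.KO32bcdca.e16, Cfsg.Agent.KO32bcdca.e13.{0}, Cfsg.Agent.KO32bcdca.e34, Cfsg.Agent.KO32bcdca.e62.{0}, Cfsg.Agent.KO32bcdca.e42.{0, 0, 0}, Cfsg.Agent.KO32bcdca.e65.{0, 0}]; decide +kernel) | decide +kernel)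
  cnt := cntE8g

end Cfsg.Agent.H778.Exc
end

-- part: H778/ExcFin
section
/-!
# Untwisted exceptional groups, `p = 3, 5` (helper778)

`MCert.false_untw` : the untwisted version of `MCert.not_pcent`.
-/

set_option autoImplicit false
set_option linter.unusedSectionVars false

namespace Cfsg.Agent.H778.Exc

open CoxeterSystem Cfsg Cfsg.Lie Cfsg.Lie.ChevalleyDatum
open Cfsg.Agent.ChevalleyStructure Cfsg.Agent.ChevalleyStructure.Elts Cfsg.Agent.ChevalleyStructure.CoxeterGeom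
  Cfsg.Agent.ChevalleyStructure.CoxeterGeomTypes Cfsg.Agent.ChevalleyStructure.NPerm
  Cfsg.Agent.ChevalleyStructure.RootVec
open Cfsg.Agent.Tits.Roots Cfsg.Agent.Tits.Core Cfsg.Agent.Nodes Cfsg.Agent.Nodes.Reps Cfsg.Agent.Nodes.BNOf
  Cfsg.Agent.Nodes.RGDChev Cfsg.Agent.Nodes.Bruhat
open Cfsg.Agent.KFacts.RgdField Cfsg.Agent.KFacts.RgdChevCoord Cfsg.Agent.BpExc.TorCent Cfsg.Agent.BpExc.TorChev
open Cfsg.Agent.GpExc.Field Cfsg.Agent.BpExc.Tow Cfsg.Agent.BpExc.TowChev Cfsg.Agent.BpExc.Fr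
  Cfsg.Agent.BpExc.LangFr Cfsg.Agent.LangThm Cfsg.Agent.BpExc Cfsg.Agent.H129.TorusChar Cfsg.Agent.H129.TorusMain
  Cfsg.Agent.H129.TorusUntw Cfsg.Agent.ChevStructure.FieldMap Cfsg.Agent.BpExc.EmbSplit
open Cfsg.Agent.H573 Cfsg.Agent.H130.WeylTab Cfsg.Agent.H130.WeylCk

universe u v

section Untw

variable {D : ChevalleyDatum} {l p : ℕ} {Al : List (List ℤ)} {w1 : List (Fin l)} {q : ℕ}
    {VL : List (List ℤ)} {w0 : List (Fin l)} {j : ℕ} {a : List ℤ} {fr : List (Fin l)} {BL C C' TM CM : List (List ℤ)}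
    {RL : List (List ℤ)}

/-- **Untwisted version.**  `hdF` : `p ∤ d`, or every element of `F` is a `d`-th power. -/
theorem MCert.false_untw (H : MCert D l p Al id w1 q VL w0 (p ^ j) a fr BL C C' TM CM RL)
    {M : CoxeterMatrix (Fin l)} (hp : IsType D l M) {W : Type*} [Group W] (cs : CoxeterSystem M W)
    (hA : MatList (cartanOf D l) Al) (hR : RootList D l RL) [Fact p.Prime] {F : Type u} [Field F] [Fintype F]
    (hpF : ¬ p ∣ Fintype.card F) (hq : ((Fintype.card F : ℕ) : ZMod p) = q) {d : ℕ} {B : Fin l → Fin l → ℤ}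
    (hB : InvC D l d B) (hd : d ≠ 0) (hdF : p.Coprime d ∨ ∀ a : F, ∃ b : F, b ^ d = a)
    (hc : PCent p ↥(D.group F)) : False := by
  obtain ⟨r, e, hr, hcF, hck, he, hqe, hk⟩ := exists_closure (F := F) rfl
  have hpr : p ≠ r := by
    rintro rfl
    exact hpF (by rw [hqe]; exact dvd_pow_self p he.ne')
  refine H.not_pcent hp cs hA hR (g := AddEquiv.refl _) (fun v hv => ⟨rfl, hv⟩) hk hpr he (by rw [← hqe]; exact hq)
    (isFrob_phi (D := D) (k := AlgebraicClosure F) (p := r) (e := e)) (fr_phi (p := r) (e := e) hp cs) hB hd hc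
    (e0 := emb hp.inList (algebraMap F (AlgebraicClosure F))) (emb_injective hp.inList _)
    (fun x => phi_emb hp _ hqe x) (fun y hy hyj => ?_)
  rcases hdF with h | h
  · obtain ⟨i, hi⟩ := hyj
    exact H130.TorEmb.mem_range_of_pow hp cs _ hqe hB hd (Nat.Coprime.pow_left i h) hy hi
  · exact fix_range hp cs _ hqe hB hd h hy

end Untw

/-- `3 ∤ |F|`: the residue of `|F|` -/
theorem mod_three {n : ℕ} (h : ¬ 3 ∣ n) : ((n : ℕ) : ZMod 3) = (1 : ℕ) ∨ ((n : ℕ) : ZMod 3) = (2 : ℕ) := by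
  rw [ZMod.natCast_eq_natCast_iff', ZMod.natCast_eq_natCast_iff']
  omega

theorem mod_five {n : ℕ} (h : ¬ 5 ∣ n) : ((n : ℕ) : ZMod 5) = (1 : ℕ) ∨ ((n : ℕ) : ZMod 5) = (2 : ℕ) ∨
    ((n : ℕ) : ZMod 5) = (3 : ℕ) ∨ ((n : ℕ) : ZMod 5) = (4 : ℕ) := by
  rw [ZMod.natCast_eq_natCast_iff', ZMod.natCast_eq_natCast_iff', ZMod.natCast_eq_natCast_iff',
    ZMod.natCast_eq_natCast_iff']
  omega

theorem gen_three' : ∀ c : ZMod 3, c ≠ 0 → ∃ n : Fin 2, c = 2 ^ (n : ℕ) := by decide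
theorem gen_three : ∀ c : ZMod 3, c ≠ 0 → ∃ n : ℕ, c = ((2 : ℕ) : ZMod 3) ^ n := fun c hc => by
  obtain ⟨n, h⟩ := gen_three' c hc
  exact ⟨n, h⟩

section Rows

variable {F : Type u} [Field F] [Fintype F]

/-- `F₄(q)`, `p = 3` -/
theorem not_F4_three [Fact (Nat.Prime 3)] (hpF : ¬ 3 ∣ Fintype.card F) (hc : PCent 3 ↥(chevF4.group F)) : False := by
  rcases mod_three hpF with h | h
  · exact mc_F4_1.false_untw type_F4 CoxeterMatrix.F₄.toCoxeterSystem lists_F4 rootList_F4 hpF h invC_F4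
      one_ne_zero (Or.inl (by norm_num)) hc
  · exact mc_F4_2.false_untw type_F4 CoxeterMatrix.F₄.toCoxeterSystem lists_F4 rootList_F4 hpF h invC_F4
      one_ne_zero (Or.inl (by norm_num)) hc

/-- `E₇(q)`, `p = 3` -/
theorem not_E7_three [Fact (Nat.Prime 3)] (hpF : ¬ 3 ∣ Fintype.card F) (hc : PCent 3 ↥(chevE7.group F)) : False := by
  rcases mod_three hpF with h | h
  · exact mc_E7_1.false_untw type_E7 CoxeterMatrix.E₇.toCoxeterSystem lists_E7 rootList_E7 hpF h invC_E7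
      two_ne_zero (Or.inl (by norm_num)) hc
  · exact mc_E7_2.false_untw type_E7 CoxeterMatrix.E₇.toCoxeterSystem lists_E7 rootList_E7 hpF h invC_E7
      two_ne_zero (Or.inl (by norm_num)) hc

/-- `E₈(q)`, `p = 3` -/
theorem not_E8_three [Fact (Nat.Prime 3)] (hpF : ¬ 3 ∣ Fintype.card F) (hc : PCent 3 ↥(chevE8.group F)) : False := by
  rcases mod_three hpF with h | h
  · exact mc_E8_1.false_untw type_E8 CoxeterMatrix.E₈.toCoxeterSystem lists_E8 rootList_E8 hpF h invC_E8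
      one_ne_zero (Or.inl (by norm_num)) hc
  · exact mc_E8_2.false_untw type_E8 CoxeterMatrix.E₈.toCoxeterSystem lists_E8 rootList_E8 hpF h invC_E8
      one_ne_zero (Or.inl (by norm_num)) hc

/-- `E₈(q)`, `p = 5` -/
theorem not_E8_five [Fact (Nat.Prime 5)] (hpF : ¬ 5 ∣ Fintype.card F) (hc : PCent 5 ↥(chevE8.group F)) : False := by
  rcases mod_five hpF with h | h | h | h
  · exact mc_E8_5_1.false_untw type_E8 CoxeterMatrix.E₈.toCoxeterSystem lists_E8 rootList_E8 hpF h invC_E8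
      one_ne_zero (Or.inl (by norm_num)) hc
  · exact mc_E8_5_2.false_untw type_E8 CoxeterMatrix.E₈.toCoxeterSystem lists_E8 rootList_E8 hpF h invC_E8
      one_ne_zero (Or.inl (by norm_num)) hc
  · exact mc_E8_5_3.false_untw type_E8 CoxeterMatrix.E₈.toCoxeterSystem lists_E8 rootList_E8 hpF h invC_E8
      one_ne_zero (Or.inl (by norm_num)) hc
  · exact mc_E8_5_4.false_untw type_E8 CoxeterMatrix.E₈.toCoxeterSystem lists_E8 rootList_E8 hpF h invC_E8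
      one_ne_zero (Or.inl (by norm_num)) hc

/-- `E₆(q)`, `p = 3`, `q ≡ 2 mod 3` -/
theorem not_E6_three_two [Fact (Nat.Prime 3)] (hpF : ¬ 3 ∣ Fintype.card F)
    (h : ((Fintype.card F : ℕ) : ZMod 3) = (2 : ℕ)) (hc : PCent 3 ↥(chevE6.group F)) : False := by
  refine mc_E6_2.false_untw type_E6 CoxeterMatrix.E₆.toCoxeterSystem lists_E6 rootList_E6 hpF h invC_E6
    three_ne_zero (Or.inr fun a => ?_) hc
  have h1 : (Nat.card Fˣ).Coprime 3 := by
    rw [Nat.coprime_comm, Nat.Prime.coprime_iff_not_dvd Nat.prime_three, Nat.card_units, Nat.card_eq_fintype_card]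
    rw [ZMod.natCast_eq_natCast_iff'] at h
    omega
  by_cases ha : a = 0
  · exact ⟨0, by rw [ha, zero_pow three_ne_zero]⟩
  · obtain ⟨b, hb⟩ := (powCoprime h1).surjective (Units.mk0 a ha)
    refine ⟨b, ?_⟩
    have h2 := congrArg (fun x : Fˣ => (x : F)) hb
    simpa using h2

/-- `G₂(q)`, `p = 3` -/
theorem comm_G2_three [Fact (Nat.Prime 3)] (hpF : ¬ 3 ∣ Fintype.card F)
    (hc : PCent 3 ↥(chevG2.group F)) (Q : Sylow 3 ↥(chevG2.group F)) : IsMulCommutative Q :=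
  cert_G2_3.comm type_G2 lists_G2 rootList_G2 gen_three CoxeterMatrix.G₂.toCoxeterSystem
    (by rw [card_G2]; norm_num) (by rw [card_G2]; norm_num) invC_G2 one_ne_zero (by norm_num) hpF hc Q

end Rows

end Cfsg.Agent.H778.Exc
end

-- part: H778/ExcFinB
section
/-!
# Split torus elements, `q ≡ 1 mod p` (helper778)

`VR` : the functionals realised in the finite group; `MCert.false_core` : contradiction from a certificate with the
trivial twist; `not_E6_three_one` : `E₆(q)`, `q ≡ 1 mod 3`; `not_twE6_three_one` : `²E₆(q)`, `q ≡ 1 mod 3`.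
-/

set_option autoImplicit false
set_option linter.unusedSectionVars false

namespace Cfsg.Agent.H778.Exc

open CoxeterSystem Cfsg Cfsg.Lie Cfsg.Lie.ChevalleyDatum
open Cfsg.Agent.ChevalleyStructure Cfsg.Agent.ChevalleyStructure.Elts Cfsg.Agent.ChevalleyStructure.CoxeterGeom
  Cfsg.Agent.ChevalleyStructure.CoxeterGeomTypes Cfsg.Agent.ChevalleyStructure.NPerm
  Cfsg.Agent.ChevalleyStructure.RootVec
open Cfsg.Agent.Tits.Roots Cfsg.Agent.Tits.Core Cfsg.Agent.Nodes Cfsg.Agent.Nodes.Reps Cfsg.Agent.Nodes.BNOf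
  Cfsg.Agent.Nodes.RGDChev Cfsg.Agent.Nodes.Bruhat
open Cfsg.Agent.KFacts.RgdField Cfsg.Agent.KFacts.RgdChevCoord Cfsg.Agent.BpExc.TorCent Cfsg.Agent.BpExc.TorChev
open Cfsg.Agent.GpExc.Field Cfsg.Agent.BpExc.Tow Cfsg.Agent.BpExc.TowChev Cfsg.Agent.BpExc.Fr
  Cfsg.Agent.BpExc.LangFr Cfsg.Agent.LangThm Cfsg.Agent.BpExc Cfsg.Agent.H129.TorusChar Cfsg.Agent.H129.TorusMain
  Cfsg.Agent.H129.TorusUntw Cfsg.Agent.ChevStructure.FieldMap Cfsg.Agent.BpExc.EmbSplit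
open Cfsg.Agent.H573 Cfsg.Agent.H130.WeylTab Cfsg.Agent.H130.WeylCk

universe u v

theorem zz_intCast {k : Type u} [Field k] {p : ℕ} [Fact p.Prime] {ζ : k} (hζ : orderOf ζ = p) (n : ℤ) :
    zz ζ ((n : ℤ) : ZMod p) = ζ ^ n := by
  unfold zz
  rw [← zpow_natCast, zpow_eq_iff hζ, Int.cast_natCast, ZMod.natCast_zmod_val]

section VR

variable {D : ChevalleyDatum} {l : ℕ} {M : CoxeterMatrix (Fin l)} (hp : IsType D l M) {k : Type u} [Field k] {p : ℕ}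
  {G0 : Type*} [Group G0]

/-- the functionals realised in `G0` -/
def VR (ζ : k) (ψ : G0 →* ↥(D.group k)) : Set (Fin l → ZMod p) :=
  {b | ∃ s : G0, ψ s ∈ TT D k ∧ ∀ x, cX hp (ψ s) x = zz ζ (ev b x)}

variable {hp} {ζ : k} {ψ : G0 →* ↥(D.group k)}

theorem VR.add [Fact p.Prime] (hζ : orderOf ζ = p) {b c : Fin l → ZMod p} (hb : b ∈ VR hp ζ ψ) (hc : c ∈ VR hp ζ ψ) :
    b + c ∈ VR hp ζ ψ := by
  obtain ⟨s, h1, h2⟩ := hb
  obtain ⟨t, h3, h4⟩ := hc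
  refine ⟨s * t, by rw [map_mul]; exact mul_mem h1 h3, fun x => ?_⟩
  rw [map_mul, cX_mul hp h1 h3, h2, h4, ← zz_add hζ]
  congr 1
  unfold ev
  rw [← Finset.sum_add_distrib]
  exact Finset.sum_congr rfl fun i _ => by rw [Pi.add_apply, mul_add]

theorem VR.nsmul [Fact p.Prime] (hζ : orderOf ζ = p) {b : Fin l → ZMod p} (hb : b ∈ VR hp ζ ψ) (n : ℕ) :
    n • b ∈ VR hp ζ ψ := by
  induction n with
  | zero =>
    rw [zero_smul]
    refine ⟨1, by rw [map_one]; exact one_mem _, fun x => ?_⟩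
    rw [map_one, cX_one]
    have : ev (0 : Fin l → ZMod p) x = 0 := by
      unfold ev
      exact Finset.sum_eq_zero fun i _ => by rw [Pi.zero_apply, mul_zero]
    rw [this, zz_zero]
  | succ n ih => rw [succ_nsmul]; exact VR.add hζ ih hb

theorem VR.of_zpow [Fact p.Prime] (hζ : orderOf ζ = p) {s : G0} (hs : ψ s ∈ TT D k) {n : Fin l → ℤ}
    (h : ∀ i, cX hp (ψ s) (sr i) = ζ ^ n i) {v : List ℤ} (hv : ∀ i : Fin l, n i = v.getD i 0) :
    RCert.fa l p v ∈ VR hp ζ ψ := by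
  refine ⟨s, hs, (isMC_cX hp hs).ext (isMC_zz hζ _) fun i => ?_⟩
  rw [h i, ev_sr, hv i]
  exact (zz_intCast hζ _).symm

/-- the characters of the coroot elements -/
theorem cX_hc (j : Fin l) {a : k} (ha : a ≠ 0) (i : Fin l) : cX hp (hc hp j a) (sr i) = a ^ cartanOf D l j i := by
  rw [cX_sr, ← vec_simple hp i, ch_hc hp j ha (simple_lt hp.inList (lt_rank hp i)), ← cartanOf_def D l j i]

end VR

section Core

variable {D : ChevalleyDatum} {l p : ℕ} {Al : List (List ℤ)} {gl : List ℤ → List ℤ} {w1 : List (Fin l)} {q : ℕ}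
    {VL : List (List ℤ)} {w0 : List (Fin l)} {n : ℕ} {a : List ℤ} {fr : List (Fin l)} {BL C C' TM CM : List (List ℤ)}
    {RL : List (List ℤ)}
    {M : CoxeterMatrix (Fin l)} (hp : IsType D l M) {W : Type*} [Group W] (cs : CoxeterSystem M W)

theorem MCert.sep_of (H : MCert D l p Al gl w1 q VL w0 n a fr BL C C' TM CM RL) (hR : RootList D l RL)
    {VS : Set (Fin l → ZMod p)} (hVS : ∀ v ∈ VL, RCert.fa l p v ∈ VS) : Sep cs hp.isCartan VS := by
  have key : ∀ r, r < D.nroots → vec D l r = toFn l (RL.getD r []) := by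
    intro r hr
    funext i
    exact (hR.2 r hr).2 i
  have hmem : ∀ r, r < D.nroots → RL.getD r [] ∈ RL := by
    intro r hr
    rw [List.getD_eq_getElem _ _ (by rw [hR.1]; exact hr)]
    exact List.getElem_mem _
  refine Sep.mk' (fun x hx => ?_) (fun i x hx hb => ?_)
  · obtain ⟨r, hr, rfl⟩ := (isRoot_iff hp cs x).1 hx
    obtain ⟨v, hv, h1⟩ := H.nv _ (hmem r hr)
    refine ⟨_, hVS v hv, ?_⟩
    rw [key r hr, ev_toFn (b := RCert.fa l p v) (H.lv v hv) (fun _ => rfl) (hR.2 r hr).1, Ne,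
      ZMod.intCast_zmod_eq_zero_iff_dvd, Int.dvd_iff_emod_eq_zero]
    exact h1
  · obtain ⟨r, hr, rfl⟩ := (isRoot_iff hp cs x).1 hx
    have h1 := H.sep i _ (hmem r hr) fun v hv => by
      have h2 := hb _ (hVS v hv)
      rw [key r hr, ev_toFn (b := RCert.fa l p v) (H.lv v hv) (fun _ => rfl) (hR.2 r hr).1, ev_sr] at h2
      rw [← Int.dvd_iff_emod_eq_zero, ← ZMod.intCast_zmod_eq_zero_iff_dvd, Int.cast_sub, sub_eq_zero]
      exact h2
    intro m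
    rw [key r hr]
    show (0 : ℤ) ≤ (RL.getD r []).getD m 0
    rw [List.getD_eq_getElem _ _ (by rw [(hR.2 r hr).1]; exact m.2)]
    exact h1 _ (List.getElem_mem _)

/-- **The core, with a certificate.** -/
theorem MCert.false_core {j : ℕ} (H : MCert D l p Al id [] 1 VL w0 (p ^ j) a fr BL C C' TM CM RL)
    (hA : MatList (cartanOf D l) Al) (hR : RootList D l RL) [Fact p.Prime] {k : Type u} [Field k] (hk : LocFin k)
    (r : ℕ) [Fact r.Prime] [CharP k r] {ζ : k} (hζ : orderOf ζ = p) {G0 : Type*} [Group G0] [Finite G0]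
    (hc : PCent p G0) {ψ : G0 →* ↥(D.group k)} (hψ : Function.Injective ψ)
    (hVL : ∀ v ∈ VL, RCert.fa l p v ∈ VR hp ζ ψ) (ha : RCert.fa l p a ∈ VR hp ζ ψ) {x0 : G0}
    (hact : AAct hp cs (cs.wordProd w0) (ψ x0)) : False := by
  obtain ⟨i, m, hi, him⟩ := exists_exponent (p := p) (orderOf_pos x0) j
  have h1 : AAct hp cs (cs.wordProd w0) (ψ (x0 ^ i)) := by
    have h1 := hact.pow i
    have h2 : cs.wordProd w0 ^ i = cs.wordProd w0 := by
      have h3 : i ≡ 1 [MOD orderOf (cs.wordProd w0)] := hi.of_dvd (orderOf_dvd_of_pow_eq_one (H.w0_pow hp cs hA))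
      have h4 := pow_eq_pow_iff_modEq.2 h3
      rwa [pow_one] at h4
    rw [map_pow]
    rwa [h2] at h1
  obtain ⟨b, h2, ⟨w', h3⟩, -⟩ := core hp cs hζ hk r hc hψ (VS := VR hp ζ ψ) (fun b hb => hb)
    (H.sep_of hp cs hR hVL) (c := cs.wordProd w0) (x0 := x0 ^ i) ⟨m, by
      rw [← pow_mul]
      obtain ⟨b, hb⟩ := him
      rw [hb, pow_mul, pow_orderOf_eq_one, one_pow]⟩ h1 ha
  obtain ⟨c, hc⟩ := H.inv hp cs hA hR (g := AddEquiv.refl _) (fun v hv => ⟨rfl, hv⟩) b h2 (fun x => by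
    rw [theta_apply, CoxeterSystem.wordProd_nil, map_one, Nat.cast_one, one_mul]
    rfl)
  apply hc
  rw [← h3]
  exact (ncard_pull cs hp.isCartan b w' c).symm

include hp in
theorem wordProd_eq (hA : MatList (cartanOf D l) Al) {w w' : List (Fin l)}
    (h : ∀ i : Fin l, ac Al w (bas l i) = ac Al w' (bas l i)) : cs.wordProd w = cs.wordProd w' := by
  rw [← inv_mul_eq_one]
  refine eq_one_of_fix cs hp.isCartan _ fun i => ?_
  have h1 := toFn_ac cs hp.isCartan hA w (bas l i) (length_bas i)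
  have h2 := toFn_ac cs hp.isCartan hA w' (bas l i) (length_bas i)
  rw [toFn_bas] at h1 h2
  rw [rep_mul_apply, ← h2, ← h i, h1, ← rep_mul_apply, inv_mul_cancel, map_one]
  rfl

theorem aact_nc {k : Type u} [Field k] (hk : LocFin k) (r : ℕ) [Fact r.Prime] [CharP k r] (w : List (Fin l)) :
    AAct hp cs (cs.wordProd w) ((w.map (nc hp k)).prod) := by
  let hN : NSys M (TT D k) (nc hp k) := nsys_of_locFin hp cs hk r
  induction w with
  | nil => rw [CoxeterSystem.wordProd_nil]; exact AAct.one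
  | cons i w ih =>
    rw [CoxeterSystem.wordProd_cons, List.map_cons, List.prod_cons]
    exact (aact_rp hk r (rp_simple cs hN i)).mul ih

theorem aact_words {k : Type u} [Field k] (hk : LocFin k) (r : ℕ) [Fact r.Prime] [CharP k r] {G0 : Type*} [Group G0]
    (ψ : G0 →* ↥(D.group k)) (L : List (List (Fin l))) (hL : ∀ w ∈ L, ∃ s : G0, ψ s = (w.map (nc hp k)).prod) :
    ∃ x0 : G0, AAct hp cs (cs.wordProd L.flatten) (ψ x0) := by
  induction L with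
  | nil => exact ⟨1, by rw [List.flatten_nil, CoxeterSystem.wordProd_nil, map_one]; exact AAct.one⟩
  | cons w L ih =>
    obtain ⟨x, hx⟩ := ih fun w hw => hL w (List.mem_cons_of_mem _ hw)
    obtain ⟨s, hs⟩ := hL w List.mem_cons_self
    refine ⟨s * x, ?_⟩
    rw [List.flatten_cons, CoxeterSystem.wordProd_append, map_mul, hs]
    exact (aact_nc hp cs hk r w).mul hx

end Core

section SixOne

/-- the coefficients of the highest root of `E₆` -/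
theorem hr_E6 : ∀ i : Fin 6, (1 * (alE6.getD 0 []).getD i 0 + 2 * (alE6.getD 1 []).getD i 0 +
    2 * (alE6.getD 2 []).getD i 0 + 3 * (alE6.getD 3 []).getD i 0 + 2 * (alE6.getD 4 []).getD i 0 +
    1 * (alE6.getD 5 []).getD i 0) = ([0, 1, 0, 0, 0, 0] : List ℤ).getD i 0 := by decide +kernel

theorem exists_root {F : Type u} [Field F] [Fintype F] (h : ((Fintype.card F : ℕ) : ZMod 3) = (1 : ℕ)) :
    ∃ a : F, orderOf a = 3 := by
  have h1 : 3 ∣ Nat.card Fˣ := by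
    rw [Nat.card_units, Nat.card_eq_fintype_card]
    rw [ZMod.natCast_eq_natCast_iff'] at h
    have : 0 < Fintype.card F := Fintype.card_pos
    omega
  have : Fact (Nat.Prime 3) := ⟨Nat.prime_three⟩
  obtain ⟨x, hx⟩ := exists_prime_orderOf_dvd_card' 3 h1
  exact ⟨x, by rw [orderOf_units, hx]⟩

/-- `E₆(q)`, `p = 3`, `q ≡ 1 mod 3` -/
theorem not_E6_three_one [Fact (Nat.Prime 3)] {F : Type u} [Field F] [Fintype F]
    (h : ((Fintype.card F : ℕ) : ZMod 3) = (1 : ℕ)) (hpc : PCent 3 ↥(chevE6.group F)) : False := by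
  obtain ⟨r, e, hr, hcF, hck, he, hqe, hk⟩ := exists_closure (F := F) rfl
  obtain ⟨ζ0, hζ0⟩ := exists_root h
  have hζ : orderOf (algebraMap F (AlgebraicClosure F) ζ0) = 3 := by
    rw [← hζ0]
    exact orderOf_injective (algebraMap F (AlgebraicClosure F)).toMonoidHom
      (algebraMap F (AlgebraicClosure F)).injective ζ0
  have hne : algebraMap F (AlgebraicClosure F) ζ0 ≠ 0 := by
    intro h0
    rw [h0, orderOf_zero] at hζ
    omega
  have hrow : ∀ j : Fin 6, RCert.fa 6 3 (alE6.getD j []) ∈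
      VR type_E6 (algebraMap F (AlgebraicClosure F) ζ0) (emb type_E6.inList (algebraMap F (AlgebraicClosure F))) := by
    intro j
    have h1 : emb type_E6.inList (algebraMap F (AlgebraicClosure F)) (hc type_E6 j ζ0) =
      hc type_E6 j (algebraMap F (AlgebraicClosure F) ζ0) := emb_hc type_E6 _ j ζ0
    refine VR.of_zpow hζ (s := hc type_E6 j ζ0) (by rw [h1]; exact hc_mem type_E6 j hne)
      (fun i => by rw [h1]; exact cX_hc j hne i) (fun i => (lists_E6 j).2 i)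
  obtain ⟨x0, hx0⟩ := aact_words type_E6 CoxeterMatrix.E₆.toCoxeterSystem hk r
    (emb type_E6.inList (algebraMap F (AlgebraicClosure F))) [cwE6b] (fun w _ =>
      ⟨(w.map (nc type_E6 F)).prod, by
        rw [map_list_prod, List.map_map]
        congr 1
        exact List.map_congr_left fun i _ => emb_nc type_E6 _ i⟩)
  rw [List.flatten_cons, List.flatten_nil, List.append_nil] at hx0
  refine mc_E6_1.false_core type_E6 CoxeterMatrix.E₆.toCoxeterSystem lists_E6 rootList_E6 hk r hζ hpc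
    (emb_injective type_E6.inList _) (fun v hv => ?_) ?_ hx0
  · have h1 : ∀ v ∈ vLE6s, ∃ j : Fin 6, v = alE6.getD j [] := by decide +kernel
    obtain ⟨j, rfl⟩ := h1 v hv
    exact hrow j
  · have h1 := VR.add hζ (VR.add hζ (VR.add hζ (VR.add hζ (VR.add hζ (VR.nsmul hζ (hrow 0) 1)
      (VR.nsmul hζ (hrow 1) 2)) (VR.nsmul hζ (hrow 2) 2)) (VR.nsmul hζ (hrow 3) 3)) (VR.nsmul hζ (hrow 4) 2))
      (VR.nsmul hζ (hrow 5) 1)
    have h2 : RCert.fa 6 3 [0, 1, 0, 0, 0, 0] = 1 • RCert.fa 6 3 (alE6.getD (0 : Fin 6) []) +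
        2 • RCert.fa 6 3 (alE6.getD (1 : Fin 6) []) + 2 • RCert.fa 6 3 (alE6.getD (2 : Fin 6) []) +
        3 • RCert.fa 6 3 (alE6.getD (3 : Fin 6) []) + 2 • RCert.fa 6 3 (alE6.getD (4 : Fin 6) []) +
        1 • RCert.fa 6 3 (alE6.getD (5 : Fin 6) []) := by
      funext i
      have h3 := congrArg (Int.cast : ℤ → ZMod 3) (hr_E6 i)
      show (((([0, 1, 0, 0, 0, 0] : List ℤ).getD i 0 : ℤ)) : ZMod 3) = _
      rw [← h3]
      simp only [Pi.add_apply, nsmul_eq_mul]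
      push_cast
      rfl
    rw [h2]
    exact h1

end SixOne

end Cfsg.Agent.H778.Exc
end

-- part: H778/ExcSig
section
/-!
# Field and graph automorphisms of `D.group k` as frame automorphisms (copy of a section of `PreUniq.FinalInputs` by helper60, by helper778)

* `isFrob_fld`, `fr_fld` : the field automorphism `fld D Φ`, `Φ a = a ^ p ^ e`;
* `isFrob_symm`, `fr_symm` : conjugation by the signed permutation matrix `S.P k` of a symmetry `S` of the tables;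
* `fr_E6`, `fr_D4` : the instances `symmE6`, `symmD4a`; `isFrob_symm_fld` : their products with `fld D Φ`.
-/

set_option autoImplicit false
set_option linter.dupNamespace false
set_option linter.unusedSectionVars false

namespace Cfsg.Agent.H778.SigFr

open CoxeterSystem Cfsg Cfsg.Lie Cfsg.Agent.ChevalleyStructure Cfsg.Agent.ChevalleyStructure.Elts
  Cfsg.Agent.ChevalleyStructure.CoxeterGeom Cfsg.Agent.ChevalleyStructure.CoxeterGeomTypes
  Cfsg.Agent.ChevalleyStructure.NPerm Cfsg.Agent.Tits.Roots Cfsg.Agent.Tits.Core Cfsg.Agent.Nodes.Reps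
  Cfsg.Agent.Nodes.BNOf Cfsg.Agent.Nodes.RGDChev Cfsg.Agent.KFacts.RgdChevCoord Cfsg.Agent.LangThm
  Cfsg.Agent.BpExc.Fr Cfsg.Agent.BpExc.LangFr Cfsg.Agent.CpAut.RgdUntw
  Cfsg.Agent.ChevalleyStructure.SignedSymm Cfsg.Agent.ChevalleyStructure.GraphSymm

universe u

variable {D : ChevalleyDatum} {k : Type u} [Field k]

/-! ### automorphisms permuting the root elements -/

section Act

variable (hD : InList D)

/-- the root elements of `D.group k` -/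
def xs (r : ℕ) (t : k) : ↥(D.group k) := ⟨xG hD r t, xG_mem_group hD r t⟩

theorem coe_xs (r : ℕ) (t : k) : ((xs hD r t : ↥(D.group k)) : GL D.Idx k) = xG hD r t := rfl

/-- `σ` maps the root elements of `± r` to those of `± s`. -/
def Act (σ : MulAut ↥(D.group k)) (r s : ℕ) : Prop :=
  r < D.nroots ∧ s < D.nroots ∧ ∃ (c : k) (φ : k ≃+* k), c ≠ 0 ∧ (∀ t, σ (xs hD r t) = xs hD s (c * φ t)) ∧
    ∀ t, σ (xs hD (D.neg r) t) = xs hD (D.neg s) (c⁻¹ * φ t)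

variable {hD} {σ : MulAut ↥(D.group k)} {r s : ℕ}

theorem Act.inv (h : Act hD σ r s) : Act hD σ⁻¹ s r := by
  obtain ⟨hr, hs, c, φ, hc, h1, h2⟩ := h
  have key : ∀ (a b : ℕ) (d : k), d ≠ 0 → (∀ t, σ (xs hD a t) = xs hD b (d * φ t)) →
      ∀ t, σ⁻¹ (xs hD b t) = xs hD a (φ.symm d⁻¹ * φ.symm t) := by
    intro a b d hd h t
    apply σ.injective
    rw [MulAut.apply_inv_self, h, map_mul, RingEquiv.apply_symm_apply, RingEquiv.apply_symm_apply,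
      mul_inv_cancel_left₀ hd]
  refine ⟨hs, hr, φ.symm c⁻¹, φ.symm, ?_, key r s c hc h1, ?_⟩
  · rw [Ne, map_eq_zero_iff φ.symm φ.symm.injective]
    exact inv_ne_zero hc
  · have h3 := key _ _ c⁻¹ (inv_ne_zero hc) h2
    intro t
    rw [h3 t]
    congr 2
    rw [inv_inv, map_inv₀, inv_inv]

theorem nG_neg (r : ℕ) (t : k) : nG hD r (-t) = (nG hD r t)⁻¹ := by
  rw [nG_def, nG_def, mul_inv_rev, mul_inv_rev, xG_inv, xG_inv, neg_neg, ← mul_assoc]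
  congr 2
  rw [inv_neg, neg_neg]

/-- the image of `h_r(t)` -/
theorem Act.hG (h : Act hD σ r s) {t : k} (ht : t ≠ 0) (g : ↥(D.group k)) (hg : (g : GL D.Idx k) = hG hD r t) :
    (σ g : GL D.Idx k) ∈ D.diagonalSubgroup k := by
  obtain ⟨hr, hs, c, φ, hc, h1, h2⟩ := h
  have hn : ∀ (u : k) (g : ↥(D.group k)), (g : GL D.Idx k) = nG hD r u →
      (σ g : GL D.Idx k) = nG hD s (c * φ u) := by
    intro u g hg
    have h3 : g = xs hD r u * (xs hD (D.neg r) (-u⁻¹) * xs hD r u) := by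
      apply Subtype.ext
      rw [hg, nG_def]
      rfl
    rw [h3, map_mul, map_mul, h1, h2, nG_def, map_neg, map_inv₀]
    show xG hD s (c * φ u) * (xG hD (D.neg s) (c⁻¹ * -(φ u)⁻¹) * xG hD s (c * φ u)) = _
    rw [mul_inv, mul_neg]
  have hn1 : nG hD r t ∈ D.group k := nG_mem_group hD r t
  have hn2 : nG hD r (-1 : k) ∈ D.group k := nG_mem_group hD r _
  have h4 : g = ⟨nG hD r t, hn1⟩ * ⟨nG hD r (-1 : k), hn2⟩ := by
    apply Subtype.ext
    rw [hg, hG_def]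
    rfl
  rw [h4, map_mul, Subgroup.coe_mul, hn t _ rfl, hn (-1) _ rfl, map_neg, map_one, mul_neg, mul_one]
  have h5 : ∀ u : k, nG hD s u = Elts.hG hD s u * nG hD s 1 := by
    intro u
    rw [hG_def, nG_neg]
    group
  rw [nG_neg, h5 (c * φ t), h5 c, mul_inv_rev]
  have h6 : Elts.hG hD s (c * φ t) * nG hD s 1 * ((nG hD s 1)⁻¹ * (Elts.hG hD s c)⁻¹) =
      Elts.hG hD s (c * φ t) * (Elts.hG hD s c)⁻¹ := by group
  rw [h6]
  exact mul_mem (hG_mem_diagonal hD hs (mul_ne_zero hc ((map_ne_zero φ).2 ht)))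
    (inv_mem (hG_mem_diagonal hD hs hc))

theorem mem_TT_of_act (h : ∀ r < D.nroots, ∃ s, Act hD σ r s) {t : ↥(D.group k)} (ht : t ∈ TT D k) :
    σ t ∈ TT D k := by
  have h1 : D.diagonalSubgroup k ≤ (((D.diagonalSubgroup k).subgroupOf (D.group k)).comap σ.toMonoidHom).map
      (D.group k).subtype := by
    rw [diagonal_le_iff hD]
    intro r hr u hu
    obtain ⟨s, hs⟩ := h r hr
    have hm : Elts.hG hD r u ∈ D.group k := hG_mem_group hD r u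
    exact ⟨⟨Elts.hG hD r u, hm⟩, hs.hG hu _ rfl, rfl⟩
  obtain ⟨t', ht', e⟩ := h1 ht
  have h2 : t' = t := Subtype.ext e
  rw [← h2]
  exact ht'

variable {l : ℕ} {M : CoxeterMatrix (Fin l)} (hp : IsType D l M) {W : Type*} [Group W] (cs : CoxeterSystem M W)

include hp cs in
/-- **Frame automorphisms from the action on the root elements.** -/
theorem fr_of_act {g : (Fin l → ℤ) ≃+ (Fin l → ℤ)}
    (h : ∀ r < D.nroots, ∃ s, vec D l s = g (vec D l r) ∧ Act hp.inList σ r s)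
    (h' : ∀ s < D.nroots, ∃ r, vec D l s = g (vec D l r) ∧ Act hp.inList σ r s) :
    Fr cs hp.isCartan (TT D k) (XX D l k) σ g := by
  refine ⟨fun t => ⟨fun ht => ?_, fun ht => ?_⟩, fun a => ⟨fun ha => ?_, fun ha => ?_⟩, fun a ha y => ?_⟩
  · have h1 : σ⁻¹ (σ t) ∈ TT D k := by
      refine mem_TT_of_act (hD := hp.inList) (fun s hs => ?_) ht
      obtain ⟨r, -, hr⟩ := h' s hs
      exact ⟨r, hr.inv⟩
    rwa [MulAut.inv_apply_self] at h1
  · refine mem_TT_of_act (hD := hp.inList) (fun r hr => ?_) ht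
    obtain ⟨s, -, hs⟩ := h r hr
    exact ⟨s, hs⟩
  · obtain ⟨s, hs, hsa⟩ := (isRoot_iff hp cs _).1 ha
    obtain ⟨r, hr1, hr2⟩ := h' s hs
    rw [hsa] at hr1
    rw [g.injective hr1]
    exact (isRoot_iff hp cs _).2 ⟨r, hr2.1, rfl⟩
  · obtain ⟨r, hr, rfl⟩ := (isRoot_iff hp cs _).1 ha
    obtain ⟨s, hs1, hs2⟩ := h r hr
    exact (isRoot_iff hp cs _).2 ⟨s, hs2.2.1, hs1⟩
  · obtain ⟨r, hr, rfl⟩ := (isRoot_iff hp cs _).1 ha
    obtain ⟨s, hs1, -, hs, c, φ, hc, h1, -⟩ := h r hr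
    rw [← hs1, mem_XX_vec hp hs, mem_XX_vec hp hr]
    constructor
    · rintro ⟨u, hu⟩
      refine ⟨φ.symm (c⁻¹ * u), ?_⟩
      have h2 : σ y = σ (xs hp.inList r (φ.symm (c⁻¹ * u))) := by
        rw [h1, RingEquiv.apply_symm_apply, mul_inv_cancel_left₀ hc]
        exact Subtype.ext hu
      rw [σ.injective h2]
      rfl
    · rintro ⟨u, hu⟩
      refine ⟨c * φ u, ?_⟩
      have h2 : y = xs hp.inList r u := Subtype.ext hu
      rw [h2, h1]
      rfl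

end Act

/-! ### field automorphisms -/

section Fld

variable {p e : ℕ} [Fact p.Prime] [CharP k p]

theorem coe_fld_frob {Φ : k ≃+* k} (hΦ : ∀ a, Φ a = a ^ p ^ e) (g : ↥(D.group k)) :
    ((fld D Φ g : ↥(D.group k)) : GL D.Idx k) = frob p e (g : GL D.Idx k) := by
  apply co_injective
  funext ij
  rw [co_frob]
  exact hΦ _

theorem isFrob_fld {Φ : k ≃+* k} (hΦ : ∀ a, Φ a = a ^ p ^ e) : IsFrob p e (fld D Φ) :=
  ⟨1, fun g => by rw [coe_fld_frob hΦ, one_mul, inv_one, mul_one]⟩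

theorem fld_xs (hD : InList D) (Φ : k ≃+* k) (r : ℕ) (t : k) : fld D Φ (xs hD r t) = xs hD r (Φ t) := by
  apply Subtype.ext
  apply Units.ext
  rw [fld_coe, coe_xs, coe_xs, coe_xG, coe_xG]
  exact Cfsg.Agent.ChevStructure.FieldMap.x_map D (Φ : k →+* k) r t

theorem act_fld (hD : InList D) (Φ : k ≃+* k) {r : ℕ} (hr : r < D.nroots) : Act hD (fld D Φ) r r :=
  ⟨hr, hr, 1, Φ, one_ne_zero, fun t => by rw [fld_xs, one_mul], fun t => by rw [fld_xs, inv_one, one_mul]⟩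

variable {l : ℕ} {M : CoxeterMatrix (Fin l)} (hp : IsType D l M) {W : Type*} [Group W] (cs : CoxeterSystem M W)

/-- **Field automorphisms are frame automorphisms.** -/
theorem fr_fld (Φ : k ≃+* k) :
    Fr cs hp.isCartan (TT D k) (XX D l k) (fld D Φ) (AddEquiv.refl (Fin l → ℤ)) :=
  fr_of_act hp cs (fun r hr => ⟨r, rfl, act_fld hp.inList Φ hr⟩) (fun s hs => ⟨s, rfl, act_fld hp.inList Φ hs⟩)

end Fld

/-! ### graph automorphisms -/

section Graph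

variable (S : Symm D) {γ : MulAut ↥(D.group k)}

theorem isFrob_symm {p : ℕ} [Fact p.Prime] [CharP k p]
    (hγ : ∀ g, ((γ g : ↥(D.group k)) : GL D.Idx k) = S.P k * g * (S.P k)⁻¹) : IsFrob p 0 γ :=
  ⟨S.P k, fun g => by rw [hγ, frob_zero]⟩

theorem isFrob_symm_fld {p e : ℕ} [Fact p.Prime] [CharP k p]
    (hγ : ∀ g, ((γ g : ↥(D.group k)) : GL D.Idx k) = S.P k * g * (S.P k)⁻¹) {Φ : k ≃+* k}
    (hΦ : ∀ a, Φ a = a ^ p ^ e) : IsFrob p e (γ * fld D Φ) := by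
  have h1 := (isFrob_symm S (p := p) hγ).mul (isFrob_fld (D := D) hΦ)
  rwa [zero_add] at h1

theorem act_symm (hD : InList D) (hγ : ∀ g, ((γ g : ↥(D.group k)) : GL D.Idx k) = S.P k * g * (S.P k)⁻¹)
    (hneg : ∀ r < D.nroots, D.neg r < D.nroots) (r : Fin D.nroots) : Act hD γ r (S.σ r) := by
  have key : ∀ (r : Fin D.nroots) (t : k), γ (xs hD r t) = xs hD (S.σ r).val (((S.ε r : ℤ) : k) * t) := by
    intro r t
    apply Subtype.ext
    rw [hγ]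
    apply Units.ext
    rw [Units.val_mul, Units.val_mul, S.coe_P_inv, S.coe_P, coe_xs, coe_xs, coe_xG, coe_xG, S.mat_conj_x]
  have hε : ((S.ε r : ℤ) : k) * ((S.ε r : ℤ) : k) = 1 := by rw [← Int.cast_mul, S.ε_sq, Int.cast_one]
  have hε0 : ((S.ε r : ℤ) : k) ≠ 0 := fun h0 => by
    rw [h0, mul_zero] at hε
    exact zero_ne_one hε
  refine ⟨r.2, (S.σ r).2, ((S.ε r : ℤ) : k), RingEquiv.refl k, hε0, fun t => ?_, fun t => ?_⟩
  · rw [key]
    rfl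
  · have hn := hneg r r.2
    have h1 := key ⟨D.neg r, hn⟩ t
    have h2 : (S.σ ⟨D.neg r, hn⟩).val = D.neg (S.σ r) := (S.neg_iff r ⟨D.neg r, hn⟩).2 rfl
    have h3 : S.ε ⟨D.neg r, hn⟩ = S.ε r := S.ε_neg r ⟨D.neg r, hn⟩ rfl
    rw [h2, h3] at h1
    refine h1.trans ?_
    rw [inv_eq_of_mul_eq_one_right hε]
    rfl

variable {l : ℕ} {M : CoxeterMatrix (Fin l)} (hp : IsType D l M) {W : Type*} [Group W] (cs : CoxeterSystem M W)

/-- the automorphism of the root lattice given by a permutation of the fundamental roots -/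
def latt {l : ℕ} (π : Equiv.Perm (Fin l)) : (Fin l → ℤ) ≃+ (Fin l → ℤ) where
  toFun v i := v (π i)
  invFun v i := v (π.symm i)
  left_inv v := by funext i; simp
  right_inv v := by funext i; simp
  map_add' v w := rfl

@[simp] theorem latt_apply {l : ℕ} (π : Equiv.Perm (Fin l)) (v : Fin l → ℤ) (i : Fin l) : latt π v i = v (π i) := rfl

include hp in
/-- **Graph automorphisms are frame automorphisms.** -/
theorem fr_symm (hγ : ∀ g, ((γ g : ↥(D.group k)) : GL D.Idx k) = S.P k * g * (S.P k)⁻¹)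
    (π : Equiv.Perm (Fin l)) (hπ : ∀ (r : Fin D.nroots) (i : Fin l), vec D l (S.σ r) i = vec D l r (π i)) :
    Fr cs hp.isCartan (TT D k) (XX D l k) γ (latt π) := by
  have hneg : ∀ r < D.nroots, D.neg r < D.nroots := fun r hr => neg_lt hp.inList hr
  refine fr_of_act hp cs (fun r hr => ⟨S.σ ⟨r, hr⟩, ?_, act_symm S hp.inList hγ hneg ⟨r, hr⟩⟩) (fun s hs => ?_)
  · funext i
    exact hπ ⟨r, hr⟩ i
  · have h1 := act_symm S hp.inList hγ hneg (S.σ.symm ⟨s, hs⟩)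
    rw [Equiv.apply_symm_apply] at h1
    refine ⟨_, ?_, h1⟩
    funext i
    have h2 := hπ (S.σ.symm ⟨s, hs⟩) i
    rw [Equiv.apply_symm_apply] at h2
    exact h2

end Graph

/-! ### the instances -/

/-- the graph automorphism of `E₆` -/
theorem piE6 : ∀ (r : Fin chevE6.nroots) (i : Fin 6),
    vec chevE6 6 (symmE6.σ r) i = vec chevE6 6 r (symmE6.σ₀.symm i) := by decide +kernel

/-- the graph automorphism of order three of `D₄` -/
theorem piD4 : ∀ (r : Fin chevD4.nroots) (i : Fin 4),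
    vec chevD4 4 (symmD4a.σ r) i = vec chevD4 4 r (symmD4a.σ₀.symm i) := by decide +kernel

theorem fr_E6 {γ : MulAut ↥(chevE6.group k)}
    (hγ : ∀ g, ((γ g : ↥(chevE6.group k)) : GL chevE6.Idx k) = symmE6.P k * g * (symmE6.P k)⁻¹)
    {W : Type*} [Group W] (cs : CoxeterSystem CoxeterMatrix.E₆ W) :
    Fr cs Nodes.RGDTwE6.hp.isCartan (TT chevE6 k) (XX chevE6 6 k) γ (latt symmE6.σ₀.symm) :=
  fr_symm symmE6 Nodes.RGDTwE6.hp cs hγ symmE6.σ₀.symm piE6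

theorem fr_D4 {γ : MulAut ↥(chevD4.group k)}
    (hγ : ∀ g, ((γ g : ↥(chevD4.group k)) : GL chevD4.Idx k) = symmD4a.P k * g * (symmD4a.P k)⁻¹)
    {W : Type*} [Group W] (cs : CoxeterSystem coxeterD4 W) :
    Fr cs Nodes.RGDTwD4.hp.isCartan (TT chevD4 k) (XX chevD4 4 k) γ (latt symmD4a.σ₀.symm) :=
  fr_symm symmD4a Nodes.RGDTwD4.hp cs hγ symmD4a.σ₀.symm piD4

end Cfsg.Agent.H778.SigFr
end

-- part: H778/ExcTwSix
section
/-!
# `²E₆(q)`, `q ≡ 1 mod 3`, `p = 3` (helper778)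
-/

set_option autoImplicit false
set_option linter.unusedSectionVars false

namespace Cfsg.Agent.H778.Exc

open CoxeterSystem Cfsg Cfsg.Lie Cfsg.Lie.ChevalleyDatum
open Cfsg.Agent.ChevalleyStructure Cfsg.Agent.ChevalleyStructure.Elts Cfsg.Agent.ChevalleyStructure.CoxeterGeom
  Cfsg.Agent.ChevalleyStructure.CoxeterGeomTypes Cfsg.Agent.ChevalleyStructure.NPerm
  Cfsg.Agent.ChevalleyStructure.RootVec
open Cfsg.Agent.Tits.Roots Cfsg.Agent.Tits.Core Cfsg.Agent.Nodes Cfsg.Agent.Nodes.Reps Cfsg.Agent.Nodes.BNOf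
  Cfsg.Agent.Nodes.RGDChev Cfsg.Agent.Nodes.Bruhat
open Cfsg.Agent.KFacts.RgdField Cfsg.Agent.KFacts.RgdChevCoord Cfsg.Agent.BpExc.TorCent Cfsg.Agent.BpExc.TorChev
open Cfsg.Agent.GpExc.Field Cfsg.Agent.BpExc.Tow Cfsg.Agent.BpExc.TowChev Cfsg.Agent.BpExc.Fr
  Cfsg.Agent.BpExc.LangFr Cfsg.Agent.LangThm Cfsg.Agent.BpExc Cfsg.Agent.H129.TorusChar Cfsg.Agent.H129.TorusMain
  Cfsg.Agent.H129.TorusUntw Cfsg.Agent.ChevStructure.FieldMap Cfsg.Agent.BpExc.EmbSplit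
open Cfsg.Agent.H573 Cfsg.Agent.H130.WeylTab Cfsg.Agent.H130.WeylCk
open Cfsg.Agent.ChevalleyStructure.TwE6Basic (hE6 sg exists_frob)
open Cfsg.Agent.ChevalleyStructure.TwE6BN (PairOK SingleOK single0 single1 pair2 pair3)

universe u v

section Tor

variable {K : Type u} [Field K] {q : ℕ} (φ : K →+* K) (hφ : ∀ t, φ t = t ^ q)

include hφ in
theorem hG_single {i : Fin 4} {j : ℕ} (C : SingleOK.{u} i j) {c : K} (hc : c ^ q = c) :
    hG hE6 j c ∈ twistedE6 K q := by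
  have key : ∀ c : K, c ^ q = c → nG hE6 j c ∈ twistedE6 K q := by
    intro c hc
    rw [nG_def]
    have h1 := C.pos_mem_G (q := q) hc
    have h2 := C.neg_mem_G (q := q) (t := -c⁻¹) (by rw [← hφ, map_neg, map_inv₀, hφ, hc])
    exact mul_mem h1 (mul_mem h2 h1)
  rw [hG_def]
  exact mul_mem (key c hc) (key (-1) (by rw [← hφ, map_neg, map_one]))

theorem nG_pair {i : Fin 4} {j j' : ℕ} (C : PairOK.{u} i j j') (a b : K) :
    nG hE6 j a * nG hE6 j' b = (xG hE6 j a * xG hE6 j' b) *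
      (xG hE6 (chevE6.neg j) (-a⁻¹) * xG hE6 (chevE6.neg j') (-b⁻¹)) * (xG hE6 j a * xG hE6 j' b) := by
  rw [nG_def, nG_def]
  have h1 : xG hE6 j a * xG hE6 j' b = xG hE6 j' b * xG hE6 j a := (C.comm1 a b).symm
  have h2 : xG hE6 j a * xG hE6 (chevE6.neg j') (-b⁻¹) = xG hE6 (chevE6.neg j') (-b⁻¹) * xG hE6 j a :=
    (C.comm2 a (-b⁻¹)).symm
  have h3 : xG hE6 (chevE6.neg j) (-a⁻¹) * xG hE6 j' b = xG hE6 j' b * xG hE6 (chevE6.neg j) (-a⁻¹) :=
    (C.comm3 (-a⁻¹) b).symm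
  calc xG hE6 j a * (xG hE6 (chevE6.neg j) (-a⁻¹) * xG hE6 j a) *
        (xG hE6 j' b * (xG hE6 (chevE6.neg j') (-b⁻¹) * xG hE6 j' b))
      = xG hE6 j a * xG hE6 (chevE6.neg j) (-a⁻¹) * (xG hE6 j a * xG hE6 j' b) *
          xG hE6 (chevE6.neg j') (-b⁻¹) * xG hE6 j' b := by group
    _ = xG hE6 j a * xG hE6 (chevE6.neg j) (-a⁻¹) * (xG hE6 j' b * xG hE6 j a) *
          xG hE6 (chevE6.neg j') (-b⁻¹) * xG hE6 j' b := by rw [h1]
    _ = xG hE6 j a * (xG hE6 (chevE6.neg j) (-a⁻¹) * xG hE6 j' b) *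
          (xG hE6 j a * xG hE6 (chevE6.neg j') (-b⁻¹)) * xG hE6 j' b := by group
    _ = xG hE6 j a * (xG hE6 j' b * xG hE6 (chevE6.neg j) (-a⁻¹)) *
          (xG hE6 (chevE6.neg j') (-b⁻¹) * xG hE6 j a) * xG hE6 j' b := by rw [h2, h3]
    _ = _ := by group

include hφ in
theorem hG_pair {i : Fin 4} {j j' : ℕ} (C : PairOK.{u} i j j') (c : K) :
    hG hE6 j c * hG hE6 j' (c ^ q) ∈ twistedE6 K q := by
  have key : ∀ c : K, nG hE6 j c * nG hE6 j' (c ^ q) ∈ twistedE6 K q := by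
    intro c
    rw [nG_pair C]
    have h1 := C.pos_mem_G (q := q) c
    have h2 := C.neg_mem_G (q := q) (-c⁻¹)
    have h3 : (-c⁻¹) ^ q = -(c ^ q)⁻¹ := by rw [← hφ, map_neg, map_inv₀, hφ]
    rw [h3] at h2
    exact mul_mem (mul_mem h1 h2) h1
  have h1 : hG hE6 j c * hG hE6 j' (c ^ q) = (nG hE6 j c * nG hE6 j' (c ^ q)) *
      (nG hE6 j (-1) * nG hE6 j' ((-1) ^ q)) := by
    rw [hG_def, hG_def]
    have h2 : nG hE6 j' (c ^ q) * nG hE6 j (-1) = nG hE6 j (-1) * nG hE6 j' (c ^ q) := (C.commN (-1) (c ^ q)).eq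
    have h3 : (-1 : K) ^ q = -1 := by rw [← hφ, map_neg, map_one]
    rw [h3]
    calc nG hE6 j c * nG hE6 j (-1) * (nG hE6 j' (c ^ q) * nG hE6 j' (-1))
        = nG hE6 j c * (nG hE6 j (-1) * nG hE6 j' (c ^ q)) * nG hE6 j' (-1) := by group
      _ = nG hE6 j c * (nG hE6 j' (c ^ q) * nG hE6 j (-1)) * nG hE6 j' (-1) := by rw [h2]
      _ = _ := by group
  rw [h1]
  exact mul_mem (key c) (key (-1))

end Tor

section One

variable {K : Type u} [Field K] {q : ℕ}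

/-- the inclusion of `²E₆(q)` in `E₆(k)` -/
noncomputable def inc6 {k : Type u} [Field k] (f : K →+* k) : ↥(twistedE6 K q) →* ↥(chevE6.group k) :=
  (emb type_E6.inList f).comp (Subgroup.inclusion (genSubgroup_le_group type_E6.inList (e6Words K q)))

theorem inc6_injective {k : Type u} [Field k] (f : K →+* k) : Function.Injective (inc6 (q := q) f) :=
  (emb_injective type_E6.inList f).comp
    (Subgroup.inclusion_injective (genSubgroup_le_group type_E6.inList (e6Words K q)))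

theorem inc6_of {k : Type u} [Field k] (f : K →+* k) {x : ↥(chevE6.group K)} (hx : (x : GL chevE6.Idx K) ∈ twistedE6 K q) :
    ∃ s : ↥(twistedE6 K q), inc6 f s = emb type_E6.inList f x :=
  ⟨⟨x, hx⟩, rfl⟩

theorem simple_E6 : chevE6.simple 0 = 56 ∧ chevE6.simple 1 = 46 ∧ chevE6.simple 2 = 42 ∧ chevE6.simple 3 = 39 ∧
    chevE6.simple 4 = 37 ∧ chevE6.simple 5 = 36 := by decide +kernel

/-- the representatives in `²E₆(q)` -/
theorem nn_mem {φ : K →+* K} (hφ : ∀ t, φ t = t ^ q) (i : Fin 4) {w : List (Fin 6)}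
    (hw : w.map (fun j : Fin 6 => (j : ℕ)) = TwE6Basic.J i) :
    (((w.map (nc type_E6 K)).prod : ↥(chevE6.group K)) : GL chevE6.Idx K) ∈ twistedE6 K q := by
  have h1 : (((w.map (nc type_E6 K)).prod : ↥(chevE6.group K)) : GL chevE6.Idx K) = TwE6Basic.n (K := K) i := by
    rw [TwE6Basic.n_def, ← hw, List.map_map]
    show (chevE6.group K).subtype _ = _
    rw [map_list_prod, List.map_map]
    rfl
  rw [h1]
  exact TwE6BN.n_mem_G φ hφ i

theorem emb_nc_prod {k : Type u} [Field k] (f : K →+* k) (w : List (Fin 6)) :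
    emb type_E6.inList f ((w.map (nc type_E6 K)).prod) = (w.map (nc type_E6 k)).prod := by
  rw [map_list_prod, List.map_map]
  congr 1
  exact List.map_congr_left fun i _ => emb_nc type_E6 f i

theorem tw_comb : RCert.fa 6 3 [0, 1, 0, 0, 0, 0] = 2 • RCert.fa 6 3 [0, 2, 0, -1, 0, 0] +
    3 • RCert.fa 6 3 [0, -1, -1, 2, -1, 0] + 1 • RCert.fa 6 3 [2, 0, -1, 0, -1, 2] +
    2 • RCert.fa 6 3 [-1, 0, 2, -2, 2, -1] := by
  decide +kernel

/-- `²E₆(q)`, `p = 3`, `q ≡ 1 mod 3` -/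
theorem not_twE6_three_one [Fact (Nat.Prime 3)] [Fintype K] (hq : IsPrimePow q) (hK : Fintype.card K = q ^ 2)
    (h : ((q : ℕ) : ZMod 3) = (1 : ℕ)) (hpc : PCent 3 ↥(twistedE6 K q)) : False := by
  obtain ⟨r, e, hr, hcF, hck, he, hqe, hk⟩ := exists_closure (F := K) rfl
  obtain ⟨φ, hφ, -⟩ := exists_frob hq hK
  obtain ⟨ζ0, hζ0⟩ := exists_root (F := K) (by rw [hK, Nat.cast_pow, h]; norm_num)
  have hζq : ζ0 ^ q = ζ0 := by
    rw [ZMod.natCast_eq_natCast_iff'] at h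
    have h1 : q % 3 = 1 := by omega
    conv_lhs => rw [← Nat.div_add_mod q 3, h1]
    rw [pow_add, pow_mul, ← hζ0, pow_orderOf_eq_one, one_pow, one_mul, pow_one]
  obtain ⟨f, hf⟩ : ∃ f : K →+* AlgebraicClosure K, f = algebraMap K (AlgebraicClosure K) := ⟨_, rfl⟩
  have hζ : orderOf (f ζ0) = 3 := by
    rw [← hζ0]
    exact orderOf_injective f.toMonoidHom f.injective ζ0
  have hne0 : ζ0 ≠ 0 := by
    intro h0
    rw [h0, orderOf_zero] at hζ0
    omega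
  have hne : f ζ0 ≠ 0 := (map_ne_zero f).2 hne0
  obtain ⟨s0, s1, s2, s3, s4, s5⟩ := simple_E6
  have hA := lists_E6
  -- the rows
  have hsingle : ∀ j : Fin 6, (hc type_E6 j ζ0 : GL chevE6.Idx K) ∈ twistedE6 K q →
      ∀ v : List ℤ, (∀ i : Fin 6, cartanOf chevE6 6 j i = v.getD i 0) →
      RCert.fa 6 3 v ∈ VR type_E6 (f ζ0) (inc6 (q := q) f) := by
    intro j hj v hv
    obtain ⟨s, hs⟩ := inc6_of (q := q) f (x := hc type_E6 j ζ0) hj
    rw [emb_hc type_E6 f j ζ0] at hs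
    exact VR.of_zpow hζ (s := s) (by rw [hs]; exact hc_mem type_E6 j hne)
      (fun i => by rw [hs]; exact cX_hc j hne i) hv
  have hpair : ∀ j j' : Fin 6, ((hc type_E6 j ζ0 * hc type_E6 j' ζ0 : ↥(chevE6.group K)) : GL chevE6.Idx K) ∈
      twistedE6 K q → ∀ v : List ℤ, (∀ i : Fin 6, cartanOf chevE6 6 j i + cartanOf chevE6 6 j' i = v.getD i 0) →
      RCert.fa 6 3 v ∈ VR type_E6 (f ζ0) (inc6 (q := q) f) := by
    intro j j' hj v hv
    obtain ⟨s, hs⟩ := inc6_of (q := q) f (x := hc type_E6 j ζ0 * hc type_E6 j' ζ0) hj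
    rw [map_mul, emb_hc type_E6 f j ζ0, emb_hc type_E6 f j' ζ0] at hs
    refine VR.of_zpow hζ (s := s) (by rw [hs]; exact mul_mem (hc_mem type_E6 j hne) (hc_mem type_E6 j' hne))
      (n := fun i => cartanOf chevE6 6 j i + cartanOf chevE6 6 j' i) (fun i => ?_) hv
    rw [hs, cX_mul type_E6 (hc_mem type_E6 j hne) (hc_mem type_E6 j' hne), cX_hc j hne i, cX_hc j' hne i,
      zpow_add₀ hne]
  have r1 : RCert.fa 6 3 [0, 2, 0, -1, 0, 0] ∈ VR type_E6 (f ζ0) (inc6 (q := q) f) := by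
    refine hsingle 1 ?_ _ (by decide +kernel)
    have h1 := hG_single φ hφ single0 hζq
    rw [← s1] at h1
    exact h1
  have r3 : RCert.fa 6 3 [0, -1, -1, 2, -1, 0] ∈ VR type_E6 (f ζ0) (inc6 (q := q) f) := by
    refine hsingle 3 ?_ _ (by decide +kernel)
    have h1 := hG_single φ hφ single1 hζq
    rw [← s3] at h1
    exact h1
  have r05 : RCert.fa 6 3 [2, 0, -1, 0, -1, 2] ∈ VR type_E6 (f ζ0) (inc6 (q := q) f) := by
    refine hpair 0 5 ?_ _ (by decide +kernel)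
    have h1 := hG_pair φ hφ pair3 ζ0
    rw [← s0, ← s5, hζq] at h1
    exact h1
  have r24 : RCert.fa 6 3 [-1, 0, 2, -2, 2, -1] ∈ VR type_E6 (f ζ0) (inc6 (q := q) f) := by
    refine hpair 2 4 ?_ _ (by decide +kernel)
    have h1 := hG_pair φ hφ pair2 ζ0
    rw [← s2, ← s4, hζq] at h1
    exact h1
  obtain ⟨x0, hx0⟩ := aact_words type_E6 CoxeterMatrix.E₆.toCoxeterSystem hk r (inc6 (q := q) f)
    [[0, 5], [3], [2, 4], [1], [0, 5], [3], [2, 4], [1], [0, 5], [3], [2, 4], [1], [0, 5], [3], [2, 4], [1]]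
    (fun w hw => by
      have h1 : ∀ w ∈ ([[0, 5], [3], [2, 4], [1], [0, 5], [3], [2, 4], [1], [0, 5], [3], [2, 4], [1], [0, 5], [3],
          [2, 4], [1]] : List (List (Fin 6))), ∃ i : Fin 4, w.map (fun j : Fin 6 => (j : ℕ)) = TwE6Basic.J i := by
        decide +kernel
      obtain ⟨i, hi⟩ := h1 w hw
      obtain ⟨s, hs⟩ := inc6_of (q := q) f (nn_mem hφ i hi)
      exact ⟨s, by rw [hs, emb_nc_prod]⟩)
  have hw : CoxeterMatrix.E₆.toCoxeterSystem.wordProd ([[0, 5], [3], [2, 4], [1], [0, 5], [3], [2, 4], [1], [0, 5],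
      [3], [2, 4], [1], [0, 5], [3], [2, 4], [1]] : List (List (Fin 6))).flatten =
      CoxeterMatrix.E₆.toCoxeterSystem.wordProd cwE6b :=
    wordProd_eq type_E6 CoxeterMatrix.E₆.toCoxeterSystem lists_E6 (by (first | (refine of_decide_eq_true ?_; rewrite [Cfsg.Agent.KO32bcdca.e5, Cfsg.Agent.KO32bcdca.e14, Cfsg.Agent.KO32bcdca.e53.{0}, Cfsg.Agent.KO32bcdca.e16, Cfsg.Agent.KO32bcdca.e32, Cfsg.Agent.KO32bcdca.e46.{0}, Cfsg.Agent.KO32bcdca.e34]; decide +kernel) | decide +kernel))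
  rw [hw] at hx0
  refine mc_E6tw_1.false_core type_E6 CoxeterMatrix.E₆.toCoxeterSystem lists_E6 rootList_E6 hk r hζ hpc
    (inc6_injective f) (fun v hv => ?_) ?_ hx0
  · have h1 : v = [0, 2, 0, -1, 0, 0] ∨ v = [0, -1, -1, 2, -1, 0] ∨ v = [2, 0, -1, 0, -1, 2] ∨
        v = [-1, 0, 2, -2, 2, -1] := by
      simpa [vLE6tw] using hv
    rcases h1 with rfl | rfl | rfl | rfl
    · exact r1
    · exact r3
    · exact r05
    · exact r24
  · have h1 := VR.add hζ (VR.add hζ (VR.add hζ (VR.nsmul hζ r1 2) (VR.nsmul hζ r3 3)) (VR.nsmul hζ r05 1))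
      (VR.nsmul hζ r24 2)
    rw [tw_comb]
    exact h1

end One

end Cfsg.Agent.H778.Exc
end

private theorem dce_f5ff8074d005 : _root_.True := by
  try have : _root_.True := by simp only [_root_.Cfsg.Agent.H778.Exc.vLE6tw.eq_1]
  try have : _root_.True := by simp only [_root_.powCoprime.congr_simp]
  try have : _root_.True := by simp only [_root_.Cfsg.Agent.H778.Exc.enumAll.eq_1]
  try have : _root_.True := by simp only [_root_.Cfsg.Agent.H778.Exc.lcomb.eq_1]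
  try have : _root_.True := by simp only [_root_.Cfsg.Agent.H778.Exc.enumAll.eq_2]
  try have : _root_.True := by simp only [_root_.Cfsg.Agent.H778.Exc.enumAll.eq_def]
  exact _root_.True.intro
end

-- part: H778/ExcIdx
section
set_option linter.all false
open scoped Cfsg.Agent.FastGrp

/-!
# `²E₆(q)` and `E₆(q²)` (helper778)

`pcent_of_index` : `p`-central elements and subgroups of index prime to `p`.
`not_twE6_three_two`, `comm_twE6_five_four` : `²E₆(q)`, `q ≡ -1 mod p`, `p = 3, 5`.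
-/

set_option autoImplicit false
set_option linter.unusedSectionVars false

namespace Cfsg.Agent.H778.Exc

open Cfsg Cfsg.Lie Cfsg.Lie.ChevalleyDatum Cfsg.Agent.H573

universe u

section Idx

variable {G H : Type*} [Group G] [Group H] [Finite G] [Finite H] {p : ℕ} [Fact p.Prime]

/-- `PCent` for a larger group with the same `p`-part -/
theorem pcent_of_index (e : H →* G) (he : Function.Injective e) (hi : ¬ p ∣ e.range.index) (h : PCent p H) :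
    PCent p G := by
  have hpp : p.Prime := Fact.out
  refine PCent.of_sylow fun x hx => ?_
  obtain ⟨P, hP⟩ := exists_sylow_le_of_index e.range hi
  have hxp : IsPGroup p (Subgroup.zpowers x) := by
    obtain ⟨k, hk⟩ := hx
    exact IsPGroup.of_card (n := k) (by rw [Nat.card_zpowers, hk])
  obtain ⟨Q, hQ⟩ := hxp.exists_le_sylow
  obtain ⟨g, hg⟩ := MulAction.exists_smul_eq G P Q
  have h1 : x ∈ g • P := by rw [hg]; exact hQ (Subgroup.mem_zpowers x)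
  rw [Sylow.smul_def] at h1
  obtain ⟨y, hy, hyx⟩ := h1
  have hyx' : g * y * g⁻¹ = x := hyx
  obtain ⟨z, hz⟩ := hP hy
  have hzo : ∃ k : ℕ, orderOf z = p ^ k := by
    obtain ⟨k, hk⟩ := hx
    refine ⟨k, ?_⟩
    rw [← hk, ← orderOf_injective e he z, hz, ← hyx']
    exact (orderOf_injective (MulAut.conj g).toMonoidHom (MulAut.conj g).injective y).symm
  have h2 : ¬ p ∣ (Subgroup.centralizer ({y} : Set G)).index := by
    have h3 : (Subgroup.centralizer ({z} : Set H)).map e ≤ Subgroup.centralizer ({y} : Set G) := by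
      rintro _ ⟨c, hc, rfl⟩
      rw [SetLike.mem_coe, Subgroup.mem_centralizer_singleton_iff] at hc
      rw [Subgroup.mem_centralizer_singleton_iff, ← hz, ← map_mul, ← map_mul, hc]
    intro h4
    have h5 := h4.trans (Subgroup.index_dvd_of_le h3)
    rw [Subgroup.index_map_of_injective _ he] at h5
    rcases (hpp.dvd_mul).1 h5 with h6 | h6
    · exact h z hzo h6
    · exact hi h6
  obtain ⟨R, hR⟩ := exists_sylow_le_of_index _ h2
  refine ⟨g • R, fun w hw => ?_⟩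
  rw [Sylow.smul_def] at hw
  obtain ⟨v, hv, hvw⟩ := hw
  have hvw' : g * v * g⁻¹ = w := hvw
  have h3 := hR hv
  rw [Subgroup.mem_centralizer_singleton_iff] at h3
  rw [← hvw', ← hyx']
  calc g * v * g⁻¹ * (g * y * g⁻¹) = g * (v * y) * g⁻¹ := by group
    _ = g * (y * v) * g⁻¹ := by rw [h3]
    _ = _ := by group

end Idx

section Arith

theorem sq_pow_sub_one (q n : ℕ) : (q ^ 2) ^ n - 1 = (q ^ n - 1) * (q ^ n + 1) := by
  rw [← pow_mul, mul_comm 2 n, pow_mul]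
  have := Nat.sq_sub_sq (q ^ n) 1
  rw [one_pow] at this
  rw [this, mul_comm]

theorem cast_pow_of {p q : ℕ} (h : ((q : ℕ) : ZMod p) = -1) (n : ℕ) : ((q ^ n : ℕ) : ZMod p) = (-1) ^ n := by
  rw [Nat.cast_pow, h]

end Arith

section Six

variable {K : Type u} [Field K] [Fintype K] {q : ℕ}

/-- the inclusion -/
noncomputable abbrev incK (K : Type u) [Field K] (q : ℕ) : ↥(twistedE6 K q) →* ↥(chevE6.group K) :=
  Subgroup.inclusion (genSubgroup_le_group type_E6.inList (e6Words K q))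

theorem incK_injective : Function.Injective (incK K q) :=
  Subgroup.inclusion_injective (genSubgroup_le_group type_E6.inList (e6Words K q))

theorem index_tw (hq : IsPrimePow q) (hK : Fintype.card K = q ^ 2) :
    (incK K q).range.index * Nat.gcd 3 (q ^ 2 - 1) = Nat.gcd 3 (q + 1) *
      (q ^ 36 * (q ^ 2 + 1) * (q ^ 5 - 1) * (q ^ 6 + 1) * (q ^ 8 + 1) * (q ^ 9 - 1) * (q ^ 12 + 1)) := by
  have h1 := S1063.result (F := K) hK
  have h2 := S1066.result hq hK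
  have h3 : Nat.card ↥(chevE6.group K) = Nat.card ↥(twistedE6 K q) * (incK K q).range.index := by
    rw [← Subgroup.card_mul_index (incK K q).range]
    congr 1
    exact (Nat.card_congr (MonoidHom.ofInjective incK_injective).toEquiv).symm
  have h4 : 0 < Nat.card ↥(twistedE6 K q) := Nat.card_pos
  rw [sq_pow_sub_one, sq_pow_sub_one, sq_pow_sub_one, sq_pow_sub_one, sq_pow_sub_one, sq_pow_sub_one, h3] at h1
  apply Nat.eq_of_mul_eq_mul_left h4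
  have h5 : (q ^ 2) ^ 36 = q ^ 36 * q ^ 36 := by rw [← pow_mul, ← pow_add]
  rw [h5] at h1
  calc Nat.card ↥(twistedE6 K q) * ((incK K q).range.index * Nat.gcd 3 (q ^ 2 - 1))
      = Nat.gcd 3 (q ^ 2 - 1) * (Nat.card ↥(twistedE6 K q) * (incK K q).range.index) := by ring
    _ = (q ^ 36 * (q ^ 2 - 1) * (q ^ 5 + 1) * (q ^ 6 - 1) * (q ^ 8 - 1) * (q ^ 9 + 1) * (q ^ 12 - 1)) *
        (q ^ 36 * (q ^ 2 + 1) * (q ^ 5 - 1) * (q ^ 6 + 1) * (q ^ 8 + 1) * (q ^ 9 - 1) * (q ^ 12 + 1)) := by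
        rw [h1]; ring
    _ = _ := by rw [← h2]; ring

theorem nd_rest {p : ℕ} [Fact p.Prime] (hp2 : p ≠ 2) (hq0 : 0 < q) (h : ((q : ℕ) : ZMod p) = -1) :
    ¬ p ∣ q ^ 36 * (q ^ 2 + 1) * (q ^ 5 - 1) * (q ^ 6 + 1) * (q ^ 8 + 1) * (q ^ 9 - 1) * (q ^ 12 + 1) := by
  have hpp : p.Prime := Fact.out
  have h2 : (2 : ZMod p) ≠ 0 := by
    have h3 : ((2 : ℕ) : ZMod p) ≠ 0 := by
      rw [Ne, ZMod.natCast_eq_zero_iff]
      intro h4
      exact hp2 ((Nat.prime_dvd_prime_iff_eq hpp Nat.prime_two).1 h4)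
    exact_mod_cast h3
  have hs : ∀ n : ℕ, ((q ^ n - 1 : ℕ) : ZMod p) = (-1) ^ n - 1 := fun n => by
    rw [Nat.cast_sub (Nat.one_le_pow _ _ hq0), cast_pow_of h, Nat.cast_one]
  have ha : ∀ n : ℕ, ((q ^ n + 1 : ℕ) : ZMod p) = (-1) ^ n + 1 := fun n => by
    rw [Nat.cast_add, cast_pow_of h, Nat.cast_one]
  rw [← ZMod.natCast_eq_zero_iff, Nat.cast_mul, Nat.cast_mul, Nat.cast_mul, Nat.cast_mul, Nat.cast_mul, Nat.cast_mul,
    ha, hs, ha, ha, hs, ha, cast_pow_of h]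
  have e : ((-1) ^ 36 * ((-1) ^ 2 + 1) * ((-1) ^ 5 - 1) * ((-1) ^ 6 + 1) * ((-1) ^ 8 + 1) * ((-1) ^ 9 - 1) *
    ((-1) ^ 12 + 1) : ZMod p) = 2 ^ 6 := by ring
  rw [e]
  exact pow_ne_zero 6 h2

theorem pos_of_card (hK : Fintype.card K = q ^ 2) : 0 < q := by
  rcases Nat.eq_zero_or_pos q with rfl | h
  · have : 0 < Fintype.card K := Fintype.card_pos
    rw [hK] at this
    simp at this
  · exact h

theorem e1_three : ((2 : ℕ) : ZMod 3) = -1 := by decide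
theorem e2_three : (-1 : ZMod 3) ^ 2 = ((1 : ℕ) : ZMod 3) := by decide
/-- `²E₆(q)`, `p = 3`, `q ≡ 2 mod 3` -/
theorem not_twE6_three_two [Fact (Nat.Prime 3)] (hq : IsPrimePow q) (hK : Fintype.card K = q ^ 2)
    (h : ((q : ℕ) : ZMod 3) = (2 : ℕ)) (hpc : PCent 3 ↥(twistedE6 K q)) : False := by
  have hq0 := pos_of_card hK
  have h' : ((q : ℕ) : ZMod 3) = -1 := by rw [h]; exact e1_three
  have hmod : q % 3 = 2 := by
    rw [ZMod.natCast_eq_natCast_iff'] at h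
    omega
  have h1 := index_tw hq hK
  have h2 : Nat.gcd 3 (q + 1) = 3 := Nat.gcd_eq_left (by omega)
  have h3 : Nat.gcd 3 (q ^ 2 - 1) = 3 := by
    apply Nat.gcd_eq_left
    have h4 : q ^ 2 - 1 = (q - 1) * (q + 1) := by
      have := sq_pow_sub_one q 1
      rwa [pow_one, pow_one] at this
    rw [h4]
    exact Dvd.dvd.mul_left (by omega) _
  rw [h2, h3, mul_comm] at h1
  have h4 := Nat.eq_of_mul_eq_mul_left (by norm_num) h1
  refine not_E6_three_one (F := K) (by rw [hK, Nat.cast_pow, h']; exact e2_three)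
    (pcent_of_index (incK K q) incK_injective ?_ hpc)
  rw [h4]
  exact nd_rest (by norm_num) hq0 h'

end Six

end Cfsg.Agent.H778.Exc
end

-- part: H778/ExcTwTor
section
set_option linter.all false
open scoped Cfsg.Agent.FastGrp

/-!
# Fixed torus elements of twisted groups; `²E₆(q)`, `p = 5`; `³D₄(q)`, `p = 3` (helper778)

`torus_pow` : `t ^ d` is a product of coroot elements of rational arguments.
-/

set_option autoImplicit false
set_option linter.unusedSectionVars false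

namespace Cfsg.Agent.H778.Exc

open CoxeterSystem Cfsg Cfsg.Lie Cfsg.Lie.ChevalleyDatum
open Cfsg.Agent.ChevalleyStructure Cfsg.Agent.ChevalleyStructure.Elts Cfsg.Agent.ChevalleyStructure.CoxeterGeom
  Cfsg.Agent.ChevalleyStructure.CoxeterGeomTypes Cfsg.Agent.ChevalleyStructure.NPerm
  Cfsg.Agent.ChevalleyStructure.RootVec
open Cfsg.Agent.Tits.Roots Cfsg.Agent.Tits.Core Cfsg.Agent.Nodes Cfsg.Agent.Nodes.Reps Cfsg.Agent.Nodes.BNOf
  Cfsg.Agent.Nodes.RGDChev Cfsg.Agent.Nodes.Bruhat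
open Cfsg.Agent.KFacts.RgdField Cfsg.Agent.KFacts.RgdChevCoord Cfsg.Agent.BpExc.TorCent Cfsg.Agent.BpExc.TorChev
open Cfsg.Agent.GpExc.Field Cfsg.Agent.BpExc.Tow Cfsg.Agent.BpExc.TowChev Cfsg.Agent.BpExc.Fr
  Cfsg.Agent.BpExc.LangFr Cfsg.Agent.LangThm Cfsg.Agent.BpExc Cfsg.Agent.H129.TorusChar Cfsg.Agent.H129.TorusMain
  Cfsg.Agent.H129.TorusUntw Cfsg.Agent.ChevStructure.FieldMap Cfsg.Agent.BpExc.EmbSplit
open Cfsg.Agent.H573 Cfsg.Agent.H130.WeylTab Cfsg.Agent.H130.WeylCk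

universe u v

section Gen

variable {D : ChevalleyDatum} {l : ℕ} {M : CoxeterMatrix (Fin l)} (hp : IsType D l M)

section

variable {k : Type u} [Field k]

theorem prod_hc_mem (L : List (Fin l)) {c : Fin l → k} (hc0 : ∀ j, c j ≠ 0) :
    (L.map (fun j => hc hp j (c j))).prod ∈ TT D k := by
  apply Subgroup.list_prod_mem
  intro x hx
  obtain ⟨j, -, rfl⟩ := List.mem_map.1 hx
  exact hc_mem hp j (hc0 j)

theorem cX_prod_hc (L : List (Fin l)) {c : Fin l → k} (hc0 : ∀ j, c j ≠ 0) (i : Fin l) :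
    cX hp (L.map (fun j => hc hp j (c j))).prod (sr i) = (L.map (fun j => c j ^ cartanOf D l j i)).prod := by
  induction L with
  | nil => rw [List.map_nil, List.prod_nil, List.map_nil, List.prod_nil, cX_one]
  | cons j L ih =>
    rw [List.map_cons, List.prod_cons, List.map_cons, List.prod_cons, cX_mul hp (hc_mem hp j (hc0 j))
      (prod_hc_mem hp L hc0), ih, cX_hc j (hc0 j) i]

end

variable {K k : Type u} [Field K] [Field k]

/-- **Powers of torus elements with rational characters.** -/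
theorem torus_pow (f : K →+* k) {d : ℕ} {B : Fin l → Fin l → ℤ} (hB : InvC D l d B) (L : List (Fin l))
    (hL : ∀ g : Fin l → k, (L.map g).prod = ∏ j, g j) {t : ↥(D.group k)} (ht : t ∈ TT D k) {b : Fin l → K}
    (hb : ∀ i, f (b i) = cX hp t (sr i)) :
    emb hp.inList f ((L.map (fun j => hc hp j (∏ m, b m ^ B m j))).prod) = t ^ d := by
  have hb0 : ∀ i, f (b i) ≠ 0 := fun i => by rw [hb]; exact (isMC_cX hp ht).ne_zero _
  have hφ := IsMC.of_prod (fun i => f (b i)) hb0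
  have hc0 : ∀ j, (∏ m, f (b m) ^ B m j) ≠ 0 := fun j =>
    Finset.prod_ne_zero_iff.2 fun m _ => zpow_ne_zero _ (hb0 m)
  have e1 : emb hp.inList f ((L.map (fun j => hc hp j (∏ m, b m ^ B m j))).prod) =
      (L.map (fun j => hc hp j (∏ m, f (b m) ^ B m j))).prod := by
    rw [map_list_prod, List.map_map]
    congr 1
    refine List.map_congr_left fun j _ => ?_
    rw [Function.comp_apply, emb_hc hp f, map_prod]
    congr 1
    exact Finset.prod_congr rfl fun m _ => map_zpow₀ f _ _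
  rw [e1]
  refine cX_inj hp (prod_hc_mem hp L hc0) (pow_mem ht d) fun i => ?_
  rw [cX_prod_hc hp L hc0, hL, cX_pow hp ht, ← hb i]
  have h2 := hφ.sum_smul Finset.univ (fun j => cartanOf D l j i) (fun j m => B m j)
  have h3 : (∑ j, cartanOf D l j i • fun m => B m j) = (d : ℤ) • (sr i : Fin l → ℤ) := by
    funext m
    rw [Finset.sum_apply]
    have h4 := hB m i
    have h5 : ∑ j, (cartanOf D l j i • fun m => B m j) m = ∑ j, B m j * cartanOf D l j i :=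
      Finset.sum_congr rfl fun j _ => by rw [Pi.smul_apply, smul_eq_mul, mul_comm]
    rw [h5, h4, Pi.smul_apply, smul_eq_mul]
    by_cases hmi : m = i
    · subst hmi
      rw [if_pos rfl, sr_self, mul_one]
    · rw [if_neg hmi, sr_ne hmi, mul_zero]
  rw [h3, hφ.zsmul, zpow_natCast] at h2
  rw [← h2]
  congr 1
  rw [Finset.prod_eq_single i]
  · rw [sr_self, zpow_one]
  · intro j _ hj
    rw [sr_ne hj, zpow_zero]
  · intro hi
    exact absurd (Finset.mem_univ i) hi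

theorem coroot_frob {B : Fin l → Fin l → ℤ} (τ : Equiv.Perm (Fin l)) (hBτ : ∀ m j, B (τ m) (τ j) = B m j) {q : ℕ}
    {b : Fin l → K} (hb : ∀ i, b (τ i) = b i ^ q) (j : Fin l) :
    (∏ m, b m ^ B m (τ j)) = (∏ m, b m ^ B m j) ^ q := by
  rw [← Equiv.prod_comp τ (fun m => b m ^ B m (τ j)), ← Finset.prod_pow]
  refine Finset.prod_congr rfl fun m _ => ?_
  rw [hBτ, hb, ← zpow_natCast, ← zpow_natCast, ← zpow_mul, ← zpow_mul, mul_comm]

end Gen

theorem mem_of_pow {Y : Type*} [Group Y] {N : Subgroup Y} {y a t : Y} (ha : a ∈ N) (hy : y = a * t)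
    (hn : ∀ b ∈ N, y * b * y⁻¹ ∈ N) {d m : ℕ} (ht : t ^ d ∈ N) (hm : m.Coprime d) (hym : y ^ m = 1) : y ∈ N := by
  have hnt : ∀ n : ℕ, ∀ b ∈ N, t ^ n * b * (t ^ n)⁻¹ ∈ N := by
    intro n
    induction n with
    | zero => intro b hb; rw [pow_zero, one_mul, inv_one, mul_one]; exact hb
    | succ n ih =>
      intro b hb
      have h1 : t ^ (n + 1) * b * (t ^ (n + 1))⁻¹ = t ^ n * (t * b * t⁻¹) * (t ^ n)⁻¹ := by
        rw [pow_succ]; group
      rw [h1]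
      apply ih
      have h2 : t * b * t⁻¹ = a⁻¹ * (y * b * y⁻¹) * a := by rw [hy]; group
      rw [h2]
      exact mul_mem (mul_mem (inv_mem ha) (hn b hb)) ha
  have hpow : ∀ n : ℕ, ∃ a' ∈ N, y ^ n = a' * t ^ n := by
    intro n
    induction n with
    | zero => exact ⟨1, one_mem N, by rw [pow_zero, pow_zero, mul_one]⟩
    | succ n ih =>
      obtain ⟨a', ha', e⟩ := ih
      refine ⟨a' * (t ^ n * a * (t ^ n)⁻¹), mul_mem ha' (hnt n a ha), ?_⟩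
      rw [pow_succ, e]
      conv_lhs => rw [hy]
      rw [pow_succ]
      group
  have hyd : y ^ d ∈ N := by
    obtain ⟨a', ha', e⟩ := hpow d
    rw [e]
    exact mul_mem ha' ht
  have hbez := Nat.gcd_eq_gcd_ab m d
  rw [hm.gcd_eq_one] at hbez
  have h1 : y = (y ^ m) ^ (m.gcdA d) * (y ^ d) ^ (m.gcdB d) := by
    rw [← zpow_natCast, ← zpow_natCast, ← zpow_mul, ← zpow_mul, ← zpow_add, ← hbez]
    simp
  rw [h1, hym, one_zpow, one_mul]
  exact zpow_mem hyd _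

section Six

open Cfsg.Agent.ChevalleyStructure.TwE6Basic (hE6 sg exists_frob)
open Cfsg.Agent.ChevalleyStructure.TwE6BN (PairOK SingleOK single0 single1 pair2 pair3)
open Cfsg.Agent.ChevalleyStructure.GraphSymm (symmE6 symmD4a)
open Cfsg.Agent.CpAut.RgdUntw (fld)
open Cfsg.Agent.BpExc.FamTw.Gr

/-- the inverse of the Cartan matrix of `E₆` -/
abbrev B6 : Fin 6 → Fin 6 → ℤ := ![![4, 3, 5, 6, 4, 2], ![3, 6, 6, 9, 6, 3], ![5, 6, 10, 12, 8, 4],
    ![6, 9, 12, 18, 12, 6], ![4, 6, 8, 12, 10, 5], ![2, 3, 4, 6, 5, 4]]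

/-- the symmetry of the diagram of `E₆` -/
abbrev t6 : Equiv.Perm (Fin 6) := symmE6.σ₀

theorem B6_symm : ∀ m j : Fin 6, B6 (t6 m) (t6 j) = B6 m j := by decide +kernel

theorem sig6 : t6 0 = 5 ∧ t6 1 = 1 ∧ t6 2 = 4 ∧ t6 3 = 3 ∧ t6 4 = 2 ∧ t6 5 = 0 := by decide +kernel

theorem latt_sr {l : ℕ} (π : Equiv.Perm (Fin l)) (i : Fin l) :
    SigFr.latt π.symm (sr i) = (sr (π i) : Fin l → ℤ) := by
  funext j
  rw [SigFr.latt_apply]
  by_cases h : π.symm j = i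
  · have h2 : j = π i := by rw [← h, Equiv.apply_symm_apply]
    rw [h2, Equiv.symm_apply_apply, sr_self, sr_self]
  · rw [sr_ne h, sr_ne]
    intro h2
    apply h
    rw [h2, Equiv.symm_apply_apply]

variable {K k : Type u} [Field K] [Field k] {q : ℕ}

/-- the product of coroot elements is in `²E₆(q)` -/
theorem prod_mem_twE6 {φ : K →+* K} (hφ : ∀ t, φ t = t ^ q) {c : Fin 6 → K} (hcc : ∀ j, c (t6 j) = c j ^ q) :
    (((([1, 3, 2, 4, 0, 5] : List (Fin 6)).map (fun j => hc type_E6 j (c j))).prod : ↥(chevE6.group K)) :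
      GL chevE6.Idx K) ∈ twistedE6 K q := by
  obtain ⟨s0, s1, s2, s3, s4, s5⟩ := simple_E6
  obtain ⟨a0, a1, a2, a3, -, -⟩ := sig6
  have h1 : hG hE6 (chevE6.simple 1) (c 1) ∈ twistedE6 K q := by
    rw [s1]
    exact hG_single φ hφ single0 (by rw [← hcc, a1])
  have h3 : hG hE6 (chevE6.simple 3) (c 3) ∈ twistedE6 K q := by
    rw [s3]
    exact hG_single φ hφ single1 (by rw [← hcc, a3])
  have h24 : hG hE6 (chevE6.simple 2) (c 2) * hG hE6 (chevE6.simple 4) (c 4) ∈ twistedE6 K q := by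
    rw [s2, s4, ← a2, hcc]
    exact hG_pair φ hφ pair2 (c 2)
  have h05 : hG hE6 (chevE6.simple 0) (c 0) * hG hE6 (chevE6.simple 5) (c 5) ∈ twistedE6 K q := by
    rw [s0, s5, ← a0, hcc]
    exact hG_pair φ hφ pair3 (c 0)
  have e : (((([1, 3, 2, 4, 0, 5] : List (Fin 6)).map (fun j => hc type_E6 j (c j))).prod :
      ↥(chevE6.group K)) : GL chevE6.Idx K) =
      hG hE6 (chevE6.simple 1) (c 1) * (hG hE6 (chevE6.simple 3) (c 3) *
        ((hG hE6 (chevE6.simple 2) (c 2) * hG hE6 (chevE6.simple 4) (c 4)) *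
          (hG hE6 (chevE6.simple 0) (c 0) * hG hE6 (chevE6.simple 5) (c 5)))) := by
    have e1 : (((([1, 3, 2, 4, 0, 5] : List (Fin 6)).map (fun j => hc type_E6 j (c j))).prod :
      ↥(chevE6.group K)) : GL chevE6.Idx K) =
        hG hE6 (chevE6.simple 1) (c 1) * (hG hE6 (chevE6.simple 3) (c 3) *
        (hG hE6 (chevE6.simple 2) (c 2) * (hG hE6 (chevE6.simple 4) (c 4) *
          (hG hE6 (chevE6.simple 0) (c 0) * (hG hE6 (chevE6.simple 5) (c 5) * 1))))) := rfl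
    rw [e1]
    group
  rw [e]
  exact mul_mem h1 (mul_mem h3 (mul_mem h24 h05))

/-- `q` is a power of the characteristic -/
theorem exists_eq_pow {r e q n : ℕ} (hr : r.Prime) (hq : IsPrimePow q) (he : e ≠ 0)
    (h : q ^ n = r ^ e) : ∃ m : ℕ, 0 < m ∧ q = r ^ m := by
  obtain ⟨s, m, hs, hm, rfl⟩ := (isPrimePow_nat_iff q).1 hq
  have h0 : r ∣ (s ^ m) ^ n := by rw [h]; exact dvd_pow_self r he
  have h1 : r = s := (Nat.prime_dvd_prime_iff_eq hr hs).1 (hr.dvd_of_dvd_pow (hr.dvd_of_dvd_pow h0))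
  exact ⟨m, hm, by rw [h1]⟩

theorem fa_t6 : ∀ i : Fin 6, RCert.fa 6 5 [1, 1, 0, 0, 0, 1] (t6 i) = RCert.fa 6 5 [1, 1, 0, 0, 0, 1] i := by
  decide +kernel

theorem t6_sq : ∀ i : Fin 6, t6 (t6 i) = i := by decide +kernel

/-- `²E₆(q)`, `p = 5` -/
theorem comm_twE6_five [Fact (Nat.Prime 5)] [Fintype K] (hq : IsPrimePow q) (hK : Fintype.card K = q ^ 2)
    (hpF : ¬ 5 ∣ Fintype.card K) (hpc : PCent 5 ↥(twistedE6 K q)) (P : Sylow 5 ↥(twistedE6 K q)) :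
    IsMulCommutative P := by
  obtain ⟨r, e, hr, hcF, hck, he, hqe, hk⟩ := exists_closure (F := K) rfl
  obtain ⟨φ, hφ, -⟩ := exists_frob hq hK
  obtain ⟨m, hm0, hm⟩ := exists_eq_pow hr.out hq he.ne' (hK.symm.trans hqe)
  have hpr : 5 ≠ r := by
    rintro rfl
    exact hpF (by rw [hqe]; exact dvd_pow_self 5 he.ne')
  obtain ⟨f, hf⟩ : ∃ f : K →+* AlgebraicClosure K, f = algebraMap K (AlgebraicClosure K) := ⟨_, rfl⟩
  obtain ⟨Φ, hΦe⟩ : ∃ Φ : AlgebraicClosure K ≃+* AlgebraicClosure K,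
    Φ = iterateFrobeniusEquiv (AlgebraicClosure K) r m := ⟨_, rfl⟩
  have hΦ : ∀ a, Φ a = a ^ r ^ m := by
    intro a
    rw [hΦe]
    exact iterateFrobeniusEquiv_def _ r m a
  have hΦq : ∀ a, (Φ : AlgebraicClosure K →+* AlgebraicClosure K) a = a ^ q := by
    intro a
    rw [hm]
    exact hΦ a
  let cs := CoxeterMatrix.E₆.toCoxeterSystem
  have hγ := coe_gr (L := AlgebraicClosure K) hE6 symmE6
  have hσ := SigFr.isFrob_symm_fld (p := r) symmE6 hγ hΦ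
  have Fσ := (SigFr.fr_E6 hγ cs).mul (SigFr.fr_fld Nodes.RGDTwE6.hp cs Φ)
  have hsg : ∀ y : ↥(chevE6.group (AlgebraicClosure K)),
      (((gr hE6 symmE6 * fld chevE6 Φ : MulAut ↥(chevE6.group (AlgebraicClosure K))) y :
        ↥(chevE6.group (AlgebraicClosure K))) : GL chevE6.Idx (AlgebraicClosure K)) =
      sg (Φ : AlgebraicClosure K →+* AlgebraicClosure K) (y : GL chevE6.Idx (AlgebraicClosure K)) := by
    intro y
    rfl
  have hfix : ∀ a : ↥(twistedE6 K q), (gr hE6 symmE6 * fld chevE6 Φ :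
      MulAut ↥(chevE6.group (AlgebraicClosure K))) (inc6 f a) = inc6 f a := fun a => by
    apply Subtype.ext
    rw [hsg]
    exact (EmbInst.twE6_fix (f := f) hq hK hΦq a.2).2
  have hWf : Finite CoxeterMatrix.E₆.Group := finite_W type_E6 cs
  have R := cert_E6_5.toRat type_E6 cs lists_E6 rootList_E6 (by rw [card_E6]; norm_num) (by rw [card_E6]; norm_num)
  refine R.comm_tw gen_five hk hpr hm0 hσ Fσ invC_E6 three_ne_zero (fun i => ?_) hpc (inc6_injective f)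
    (fun y hy hyj => ?_) P
  · have h1 : ∀ i : Fin 6, RCert.fa 6 5 [1, 1, 0, 0, 0, 1] (t6 i) = RCert.fa 6 5 [1, 1, 0, 0, 0, 1] i := by
      exact fa_t6
    have h2 : ((AddEquiv.refl (Fin 6 → ℤ)).trans (SigFr.latt t6.symm)) (sr i) = (sr (t6 i) : Fin 6 → ℤ) :=
      latt_sr t6 i
    rw [← h1 i, ← ev_sr (RCert.fa 6 5 [1, 1, 0, 0, 0, 1]) (t6 i), ← h2]
    rfl
  · have h1 : sg (Φ : AlgebraicClosure K →+* AlgebraicClosure K) (y : GL chevE6.Idx (AlgebraicClosure K)) = y := by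
      rw [← hsg, hy]
    obtain ⟨g, hg, t, ht, e1⟩ := EmbInst.twE6_split (f := f) hq hK hΦq y.2 h1
    have ht' : t ∈ chevE6.group (AlgebraicClosure K) := diagonal_le_group hE6 _ ht
    have hn := EmbInst.twE6_normalizer (f := f) hq hK hΦq y.2 h1
    have e2 : y = inc6 f ⟨g, hg⟩ * ⟨t, ht'⟩ := Subtype.ext e1
    obtain ⟨j, hj⟩ := hyj
    refine mem_of_pow (N := (inc6 (q := q) f).range) (a := inc6 f ⟨g, hg⟩) (t := ⟨t, ht'⟩) ⟨_, rfl⟩ e2 (fun b hb => ?_)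
      (d := 3) ?_ (m := 5 ^ j) (Nat.Coprime.pow_left j (by norm_num)) hj
    · obtain ⟨b', rfl⟩ := hb
      have h2 := (Subgroup.mem_normalizer_iff.1 hn (glMap chevE6 f b')).1 ⟨b', b'.2, rfl⟩
      obtain ⟨c, hc, hc'⟩ := h2
      exact ⟨⟨c, hc⟩, Subtype.ext hc'⟩
    · have hTT : (⟨t, ht'⟩ : ↥(chevE6.group (AlgebraicClosure K))) ∈ TT chevE6 (AlgebraicClosure K) := ht
      have hft : (gr hE6 symmE6 * fld chevE6 Φ : MulAut ↥(chevE6.group (AlgebraicClosure K))) ⟨t, ht'⟩ = ⟨t, ht'⟩ := by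
        have h3 := hy
        rw [e2, map_mul, hfix] at h3
        exact mul_left_cancel h3
      have hv : ∀ i : Fin 6, cX type_E6 (⟨t, ht'⟩ : ↥(chevE6.group (AlgebraicClosure K))) (sr (t6 i)) =
          cX type_E6 ⟨t, ht'⟩ (sr i) ^ q := by
        intro i
        have h3 := cX_sigma type_E6 cs hσ Fσ hTT (sr i)
        rw [hft, ← hm] at h3
        rw [← h3, ← latt_sr t6 i]
        rfl
      have hvr : ∀ i : Fin 6, ∃ b : K, f b = cX type_E6 ⟨t, ht'⟩ (sr i) := by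
        intro i
        refine Emb.mem_range_of_pow f ?_
        have h3 := hv (t6 i)
        have h4 : t6 (t6 i) = i := t6_sq i
        rw [h4, hv i, ← pow_mul, ← sq, ← hK] at h3
        exact h3.symm
      choose b hb using hvr
      have hbq : ∀ i, b (t6 i) = b i ^ q := fun i => f.injective (by rw [map_pow, hb, hb, hv])
      have h3 := torus_pow type_E6 f invC_E6 [1, 3, 2, 4, 0, 5] (fun g => by
        simp [Fin.prod_univ_succ]
        ring) hTT hb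
      obtain ⟨s, hs⟩ := inc6_of (q := q) f (prod_mem_twE6 hφ (c := fun j => ∏ m, b m ^ B6 m j)
        (coroot_frob t6 B6_symm hbq))
      exact ⟨s, hs.trans h3⟩

end Six

end Cfsg.Agent.H778.Exc
end
end
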