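import Cfsg.Agent.H130.WeylCk
import Cfsg.Agent.Nodes.RGDChev
import Cfsg.Agent.PRankPar.Inst
import Cfsg.Agent.H130.TorEmb
import Cfsg.Agent.H573.PCent
import Cfsg.Agent.FastGrp
import Cfsg.Agent.Prune
set_option linter.all false

section
prune_inst 0x7f00000000000000000000000000000000000000000000000000000000000000000000000000000000000000000000000000000000000000000000000000000000000000000000000000000000000000003fffffffffffffffffffffffffffbeffbdffffffff

-- part: H778/ExcComb_mg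
section
set_option linter.all false
open scoped Cfsg.Agent.FastGrp

-- part: H778/ExcComb
section
/-!
# Functionals on the root lattice modulo `p` (helper778)

`ev b x = ∑ x_i b_i` in `ZMod p`.  `Nc b c` : the number of roots with value `c`; it is invariant under the Weyl group.
`no_fix` : if `p` divides `|W|` exactly once, `w0` has order `p`, and no functional fixed by `w0` has the same numbers
`Nc` as `a`, then no element of order `p` fixes `a`.
-/

set_option autoImplicit false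
set_option linter.unusedSectionVars false

namespace Cfsg.Agent.H778.Exc

open CoxeterSystem Cfsg Cfsg.Lie Cfsg.Lie.ChevalleyDatum
open Cfsg.Agent.ChevalleyStructure Cfsg.Agent.ChevalleyStructure.CoxeterGeom
  Cfsg.Agent.ChevalleyStructure.CoxeterGeomTypes Cfsg.Agent.ChevalleyStructure.NPerm
open Cfsg.Agent.Tits.Roots Cfsg.Agent.Tits.Core Cfsg.Agent.Nodes Cfsg.Agent.Nodes.RGDChev Cfsg.Agent.H130.WeylCk

/-- the functional with coordinates `b` -/
def ev {l p : ℕ} (b : Fin l → ZMod p) (x : Fin l → ℤ) : ZMod p := ∑ i, ((x i : ℤ) : ZMod p) * b i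

section Ev

variable {l p : ℕ} (b : Fin l → ZMod p)

theorem ev_add (x y : Fin l → ℤ) : ev b (x + y) = ev b x + ev b y := by
  unfold ev
  rw [← Finset.sum_add_distrib]
  exact Finset.sum_congr rfl fun i _ => by rw [Pi.add_apply, Int.cast_add, add_mul]

theorem ev_zero : ev b (0 : Fin l → ℤ) = 0 :=
  Finset.sum_eq_zero fun i _ => by rw [Pi.zero_apply, Int.cast_zero, zero_mul]

/-- as a homomorphism -/
def evH : (Fin l → ℤ) →+ ZMod p where
  toFun := ev b
  map_zero' := ev_zero b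
  map_add' := ev_add b

theorem evH_apply (x : Fin l → ℤ) : evH b x = ev b x := rfl

theorem ev_sr (i : Fin l) : ev b (sr i) = b i := by
  unfold ev
  rw [Finset.sum_eq_single i]
  · rw [sr_self, Int.cast_one, one_mul]
  · intro j _ hj
    rw [sr_ne hj, Int.cast_zero, zero_mul]
  · intro hi
    exact absurd (Finset.mem_univ i) hi

theorem hom_ext {A : Type*} [AddCommGroup A] {f g : (Fin l → ℤ) →+ A} (h : ∀ i, f (sr i) = g (sr i)) : f = g := by
  refine AddMonoidHom.ext fun x => ?_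
  have h1 : x = ∑ i, x i • (sr i : Fin l → ℤ) := by
    funext j
    rw [Finset.sum_apply, Finset.sum_eq_single j]
    · rw [Pi.smul_apply, sr_self, smul_eq_mul, mul_one]
    · intro i _ hi
      rw [Pi.smul_apply, sr_ne (Ne.symm hi), smul_zero]
    · intro h; exact absurd (Finset.mem_univ j) h
  rw [h1, map_sum, map_sum]
  exact Finset.sum_congr rfl fun i _ => by rw [map_zsmul, map_zsmul, h i]

end Ev

section Weyl

variable {l : ℕ} {M : CoxeterMatrix (Fin l)} {W : Type*} [Group W] (cs : CoxeterSystem M W)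
  {A : Fin l → Fin l → ℤ} (h : IsCartan M A) {p : ℕ}

/-- the functional `b ∘ w` -/
def pull (b : Fin l → ZMod p) (w : W) : Fin l → ZMod p := fun i => ev b (rep cs h w (sr i))

theorem ev_pull (b : Fin l → ZMod p) (w : W) (x : Fin l → ℤ) : ev (pull cs h b w) x = ev b (rep cs h w x) := by
  have h1 : evH (pull cs h b w) = (evH b).comp (rep cs h w).toAddMonoidHom := by
    refine hom_ext fun i => ?_
    rw [evH_apply, ev_sr]
    rfl
  exact DFunLike.congr_fun h1 x

theorem pull_one (b : Fin l → ZMod p) : pull cs h b 1 = b := by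
  funext i
  unfold pull
  rw [map_one, Module.End.one_apply, ev_sr]

theorem pull_mul (b : Fin l → ZMod p) (v w : W) : pull cs h b (v * w) = pull cs h (pull cs h b v) w := by
  funext i
  show ev b (rep cs h (v * w) (sr i)) = ev (pull cs h b v) (rep cs h w (sr i))
  rw [ev_pull, map_mul]
  rfl

/-- the roots with value `c` -/
def Rc (b : Fin l → ZMod p) (c : ZMod p) : Set (Fin l → ℤ) := {x | IsRoot cs h x ∧ ev b x = c}

theorem Rc_pull (b : Fin l → ZMod p) (w : W) (c : ZMod p) :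
    Rc cs h b c = (fun x => rep cs h w x) '' Rc cs h (pull cs h b w) c := by
  ext x
  constructor
  · rintro ⟨hx, hc⟩
    refine ⟨rep cs h w⁻¹ x, ⟨hx.act _, ?_⟩, ?_⟩
    · rw [ev_pull, ← rep_mul_apply, mul_inv_cancel, map_one]
      exact hc
    · show rep cs h w (rep cs h w⁻¹ x) = x
      rw [← rep_mul_apply, mul_inv_cancel, map_one]
      rfl
  · rintro ⟨y, ⟨hy, hc⟩, rfl⟩
    exact ⟨hy.act _, by rw [ev_pull] at hc; exact hc⟩

theorem ncard_pull (b : Fin l → ZMod p) (w : W) (c : ZMod p) :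
    (Rc cs h (pull cs h b w) c).ncard = (Rc cs h b c).ncard := by
  rw [Rc_pull cs h b w c, Set.ncard_image_of_injective]
  intro x y hxy
  have h1 := congrArg (rep cs h w⁻¹) hxy
  simp only [← rep_mul_apply, inv_mul_cancel, map_one] at h1
  exact h1

/-- **No element of order `p` fixes `a`.** -/
theorem no_fix [Finite W] [Fact p.Prime] (h1 : p ∣ Nat.card W) (h2 : ¬ p ^ 2 ∣ Nat.card W) {w0 : W}
    (hw0 : w0 ^ p = 1) (hw1 : w0 ≠ 1) (a : Fin l → ZMod p)
    (hinv : ∀ b : Fin l → ZMod p, pull cs h b w0 = b → ∃ c, (Rc cs h b c).ncard ≠ (Rc cs h a c).ncard)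
    {w : W} (hw : w ^ p = 1) (hwa : pull cs h a w = a) : w = 1 := by
  by_contra hne
  have hp : p.Prime := Fact.out
  have hf : (Nat.card W).factorization p = 1 := by
    have h3 := (hp.dvd_iff_one_le_factorization Nat.card_pos.ne').1 h1
    by_contra h4
    exact h2 ((hp.pow_dvd_iff_le_factorization Nat.card_pos.ne').2 (by omega))
  have ho : ∀ v : W, v ^ p = 1 → v ≠ 1 → Nat.card ↥(Subgroup.zpowers v) = p ^ (Nat.card W).factorization p := by
    intro v hv hv1
    rw [Nat.card_zpowers, hf, pow_one]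
    exact orderOf_eq_prime hv hv1
  let P : Sylow p W := Sylow.ofCard (Subgroup.zpowers w) (ho w hw hne)
  let Q : Sylow p W := Sylow.ofCard (Subgroup.zpowers w0) (ho w0 hw0 hw1)
  obtain ⟨u, hu⟩ := MulAction.exists_smul_eq W P Q
  have h3 : w0 ∈ u • P := by rw [hu]; exact Subgroup.mem_zpowers w0
  rw [Sylow.smul_def] at h3
  obtain ⟨y, ⟨j, hj⟩, hy⟩ := h3
  have hy' : w0 = u * y * u⁻¹ := hy.symm
  -- `y` fixes `a`
  have hfix : ∀ m : ℤ, pull cs h a (w ^ m) = a := by
    let S : Subgroup W :=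
      { carrier := {v | pull cs h a v = a}
        one_mem' := pull_one cs h a
        mul_mem' := by
          intro v v' hv hv'
          show pull cs h a (v * v') = a
          rw [pull_mul, show pull cs h a v = a from hv, show pull cs h a v' = a from hv']
        inv_mem' := by
          intro v hv
          show pull cs h a v⁻¹ = a
          have h4 : pull cs h (pull cs h a v) v⁻¹ = a := by rw [← pull_mul, mul_inv_cancel, pull_one]
          rwa [show pull cs h a v = a from hv] at h4 }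
    intro m
    have h5 : w ∈ S := hwa
    exact S.zpow_mem h5 m
  obtain ⟨c, hc⟩ := hinv (pull cs h a u⁻¹) (by
    rw [← pull_mul, hy', show u⁻¹ * (u * y * u⁻¹) = y * u⁻¹ by group, pull_mul]
    have : pull cs h a y = a := by
      have h6 : w ^ j = y := hj
      rw [← h6]
      exact hfix j
    rw [this])
  exact hc (ncard_pull cs h a u⁻¹ c)

end Weyl

end Cfsg.Agent.H778.Exc
end

-- part: H778/ExcTor
section
/-!
# `p`-subgroups of Chevalley groups in cross characteristic centralising a torus element (helper778)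

`comm_fin` : `K` finite, `|K| ≡ 1 mod p`, `t ∈ TT D K` not fixed by an element of order `p` of the Weyl group: the
`p`-subgroups of `C(t)` are abelian.  `comm_alg` : the same over a locally finite field.
`comm_of_embed` : a finite group embedded in `D.group k`, with a Sylow `p`-subgroup centralising a conjugate of `t`.
`exists_elt` : rational conjugates of torus elements in `D.group F` (Lang).
-/

set_option autoImplicit false
set_option linter.unusedSectionVars false

namespace Cfsg.Agent.H778.Exc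

open CoxeterSystem Cfsg Cfsg.Lie Cfsg.Lie.ChevalleyDatum
open Cfsg.Agent.ChevalleyStructure Cfsg.Agent.ChevalleyStructure.Elts Cfsg.Agent.ChevalleyStructure.CoxeterGeom
  Cfsg.Agent.ChevalleyStructure.CoxeterGeomTypes Cfsg.Agent.ChevalleyStructure.NPerm
open Cfsg.Agent.Tits.Roots Cfsg.Agent.Tits.Core Cfsg.Agent.Nodes Cfsg.Agent.Nodes.Reps Cfsg.Agent.Nodes.BNOf
  Cfsg.Agent.Nodes.RGDChev Cfsg.Agent.Nodes.Bruhat Cfsg.Agent.Nodes.LeviDec Cfsg.Agent.Nodes.StabComb
open Cfsg.Agent.KFacts.RgdField Cfsg.Agent.KFacts.RgdChevCoord Cfsg.Agent.BpExc.TorCent Cfsg.Agent.BpExc.TorChev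
open Cfsg.Agent.GpExc.Field Cfsg.Agent.BpExc.Tow Cfsg.Agent.BpExc.TowChev Cfsg.Agent.BpExc.Fr
  Cfsg.Agent.BpExc.LangFr Cfsg.Agent.LangThm Cfsg.Agent.BpExc Cfsg.Agent.H129.TorusChar Cfsg.Agent.H129.TorusMain
  Cfsg.Agent.H129.TorusUntw Cfsg.Agent.ChevStructure.FieldMap Cfsg.Agent.BpExc.EmbSplit
open Cfsg.Agent.PRankPar Cfsg.Agent.H573

universe u v

variable {D : ChevalleyDatum} {l : ℕ} {M : CoxeterMatrix (Fin l)} (hp : IsType D l M)
  {W : Type*} [Group W] (cs : CoxeterSystem M W)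

section Fin

variable {K : Type u} [Field K] [Finite K]

include cs in
theorem mem_PJ_univ (y : ↥(D.group K)) : y ∈ PJ cs hp.isCartan (TT D K) (XX D l K) (Set.univ : Set (Fin l)) := by
  have h1 : GG cs hp.isCartan (TT D K) (XX D l K) = ⊤ := by
    rw [eq_top_iff, ← G1_eq_top hp cs]
    exact le_sup_right
  apply LJ_le_PJ
  rw [LJ_univ, h1]
  trivial

/-- **`p`-subgroups of the centralizer of a torus element over a finite field.** -/
theorem comm_fin (r : ℕ) [Fact r.Prime] [CharP K r] {p : ℕ} [Fact p.Prime] (hpr : p ≠ r)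
    (hK : Nat.card K ≡ 1 [MOD p]) {t : ↥(D.group K)} (ht : t ∈ TT D K)
    (hW : ∀ w : W, w ^ p = 1 → (∀ i, ch hp (rep cs hp.isCartan w (sr i)) t = ch hp (sr i) t) → w = 1)
    {E : Subgroup ↥(D.group K)} (hE : IsPGroup p ↥E) (hEt : E ≤ Subgroup.centralizer {t}) :
    ∀ a ∈ E, ∀ b ∈ E, a * b = b * a := by
  have hWf := finite_W hp cs
  have hS : ({t} : Set ↥(D.group K)) ⊆ TT D K := Set.singleton_subset_iff.2 ht
  have hT : TT D K ≤ Subgroup.centralizer {t} := by
    intro s hs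
    rw [Subgroup.mem_centralizer_singleton_iff]
    exact (Chev.T_comm hp cs r s hs t ht)
  obtain ⟨g, -, hg⟩ := Orbit.exists_toral (rgd (K := K) hp cs r) (p := p) (k := 0) hpr
    (fun S hS x hx => Frob.card_inf (coords hp cs r) (by rwa [zero_add, pow_one]) S hS x hx) (J := Set.univ) hS hT
    (by
      rw [zero_add, pow_one]
      intro hd
      obtain ⟨v, -, hv1, hvp, hv⟩ := Frob.exists_fix (rgd (K := K) hp cs r) (coords hp cs r) hS hd
      exact hv1 (hW v hvp fun i => hv t rfl i)) hE (le_inf (fun y _ => mem_PJ_univ hp cs y) hEt)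
  rw [pow_zero] at hg
  have h1 : (cj g (TT D K)).relIndex E = 1 := by
    have h2 : (cj g (TT D K)).relIndex E ≠ 0 := Subgroup.index_ne_zero_of_finite
    exact le_antisymm hg (Nat.one_le_iff_ne_zero.2 h2)
  rw [Subgroup.relIndex_eq_one] at h1
  intro a ha b hb
  have h2 := h1 ha
  have h3 := h1 hb
  rw [mem_cj] at h2 h3
  have h4 := Chev.T_comm hp cs r _ h2 _ h3
  have h5 := congrArg (fun x => g * x * g⁻¹) h4
  simpa only [mul_assoc, _root_.mul_inv_cancel_left, _root_.mul_inv_cancel, _root_.mul_one] using h5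

end Fin

section Alg

variable {k : Type u} [Field k]

theorem card_lev {p : ℕ} {ζ : k} (hζ : orderOf ζ = p) (E : Subfield k) [Finite ↥E] (h : ζ ∈ E) (hp0 : p ≠ 0) :
    Nat.card ↥E ≡ 1 [MOD p] := by
  have h0 : ζ ≠ 0 := by
    rintro rfl
    rw [orderOf_zero] at hζ
    exact hp0 hζ.symm
  have hz : (⟨ζ, h⟩ : ↥E) ≠ 0 := fun h1 => h0 (congrArg Subtype.val h1)
  have h1 : orderOf (Units.mk0 (⟨ζ, h⟩ : ↥E) hz) = p := by
    rw [← orderOf_units, Units.val_mk0, ← hζ]
    exact (orderOf_injective (E.subtype : ↥E →* k) E.subtype.injective ⟨ζ, h⟩).symm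
  have h2 : p ∣ Nat.card (↥E)ˣ := by
    rw [← h1]
    exact orderOf_dvd_natCard _
  have h3 : Nat.card (↥E)ˣ = Nat.card ↥E - 1 := by
    rw [Nat.card_units]
  rw [h3] at h2
  have h4 : 1 ≤ Nat.card ↥E := Nat.card_pos
  exact ((Nat.modEq_iff_dvd' h4).2 h2).symm

/-- **`p`-subgroups of the centralizer of a torus element over a locally finite field.** -/
theorem comm_alg (hk : LocFin k) (r : ℕ) [Fact r.Prime] [CharP k r] {p : ℕ} [Fact p.Prime] (hpr : p ≠ r)
    {ζ : k} (hζ : orderOf ζ = p) {t : ↥(D.group k)} (ht : t ∈ TT D k)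
    (hW : ∀ w : W, w ^ p = 1 → (∀ i, cX hp t (rep cs hp.isCartan w (sr i)) = cX hp t (sr i)) → w = 1)
    {E : Subgroup ↥(D.group k)} [Finite ↥E] (hE : IsPGroup p ↥E) (hEt : E ≤ Subgroup.centralizer {t}) :
    ∀ a ∈ E, ∀ b ∈ E, a * b = b * a := by
  obtain ⟨E1, h1⟩ := exists_TT hp hk ht
  obtain ⟨E2, h2⟩ := exists_level_finite hp hk (S := (E : Set ↥(D.group k))) (Set.toFinite _)
  obtain ⟨E3, h3⟩ := exists_mem_lev hk ζ
  obtain ⟨E4, h14, h24⟩ := dir_lev hk E1 E2
  obtain ⟨L, h4, h3'⟩ := dir_lev hk E4 E3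
  obtain ⟨t', ht', rfl⟩ := h1 L (h14.trans h4)
  have hEr := h2 L (h24.trans h4)
  have := charP_lev r L.1
  set f := emb hp.inList L.1.subtype with hf
  have hinj : Function.Injective f := emb_injective hp.inList _
  have hmap : (E.comap f).map f = E := by
    rw [Subgroup.map_comap_eq, inf_eq_right]
    exact hEr
  have h5 : E.comap f ≤ Subgroup.centralizer {t'} := by
    intro y hy
    have h6 := hEt (Subgroup.mem_comap.1 hy)
    rw [Subgroup.mem_centralizer_singleton_iff] at h6 ⊢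
    apply hinj
    rw [map_mul, map_mul]
    exact h6
  have h6 : IsPGroup p ↥(E.comap f) := hE.comap_of_injective f hinj
  have hch : ∀ w : W, ∀ i, ch hp (rep cs hp.isCartan w (sr i)) (f t') =
      L.1.subtype (ch hp (rep cs hp.isCartan w (sr i)) t') := by
    intro w i
    obtain ⟨s, hs, e⟩ := (isRoot_iff hp cs _).1 ((isRoot_sr cs hp.isCartan i).act w)
    rw [← e, hf, emb_ch hp _ hs ht']
  have h7 := comm_fin hp cs r hpr (card_lev hζ L.1 (h3' h3) (Fact.out : p.Prime).ne_zero) ht' (fun w hw hw' => by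
    refine hW w hw fun i => ?_
    rw [cX_root hp cs ht ((isRoot_sr cs hp.isCartan i).act w), cX_root hp cs ht (isRoot_sr cs hp.isCartan i), hch,
      hw' i]
    have := hch 1 i
    rw [map_one, Module.End.one_apply] at this
    rw [this]) h6 h5
  intro a ha b hb
  rw [← hmap] at ha hb
  obtain ⟨a', ha', rfl⟩ := ha
  obtain ⟨b', hb', rfl⟩ := hb
  rw [← map_mul, ← map_mul, h7 a' ha' b' hb']

/-- **A finite group embedded in `D.group k`.** -/
theorem comm_of_embed (hk : LocFin k) (r : ℕ) [Fact r.Prime] [CharP k r] {p : ℕ} [Fact p.Prime] (hpr : p ≠ r)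
    {ζ : k} (hζ : orderOf ζ = p) {t : ↥(D.group k)} (ht : t ∈ TT D k)
    (hW : ∀ w : W, w ^ p = 1 → (∀ i, cX hp t (rep cs hp.isCartan w (sr i)) = cX hp t (sr i)) → w = 1)
    {G0 : Type*} [Group G0] [Finite G0] {e0 : G0 →* ↥(D.group k)} (he0 : Function.Injective e0) {s : G0}
    {z : ↥(D.group k)} (hs : e0 s = z * t * z⁻¹) (P : Sylow p G0) (hP : ∀ y ∈ P, y * s = s * y) :
    ∀ Q : Sylow p G0, IsMulCommutative Q := by
  let g : G0 →* ↥(D.group k) := (MulAut.conj z⁻¹).toMonoidHom.comp e0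
  have hg : Function.Injective g := (MulAut.conj z⁻¹).injective.comp he0
  have hgs : g s = t := by
    show z⁻¹ * e0 s * z⁻¹⁻¹ = t
    rw [hs]; group
  have h1 : IsPGroup p ↥((P : Subgroup G0).map g) := P.isPGroup'.map g
  have hfin : Finite ↥((P : Subgroup G0).map g) :=
    Set.Finite.to_subtype (s := (((P : Subgroup G0).map g : Subgroup ↥(D.group k)) : Set ↥(D.group k))) (by
      rw [Subgroup.coe_map]; exact Set.toFinite _)
  have h2 := comm_alg hp cs hk r hpr hζ ht hW (E := (P : Subgroup G0).map g) h1 (by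
    rintro _ ⟨y, hy, rfl⟩
    rw [Subgroup.mem_centralizer_singleton_iff, ← hgs, ← map_mul, ← map_mul, hP y hy])
  have h3 : ∀ a ∈ P, ∀ b ∈ P, a * b = b * a := by
    intro a ha b hb
    apply hg
    rw [map_mul, map_mul]
    exact h2 _ ⟨a, ha, rfl⟩ _ ⟨b, hb, rfl⟩
  intro Q
  obtain ⟨x, rfl⟩ := MulAction.exists_smul_eq G0 P Q
  refine ⟨⟨fun a b => Subtype.ext ?_⟩⟩
  obtain ⟨a, ha⟩ := a
  obtain ⟨b, hb⟩ := b
  have ha' : a ∈ x • P := ha
  have hb' : b ∈ x • P := hb
  rw [Sylow.smul_def] at ha' hb'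
  obtain ⟨a', ha', rfl⟩ := ha'
  obtain ⟨b', hb', rfl⟩ := hb'
  show x * a' * x⁻¹ * (x * b' * x⁻¹) = x * b' * x⁻¹ * (x * a' * x⁻¹)
  have h4 := h3 a' ha' b' hb'
  calc x * a' * x⁻¹ * (x * b' * x⁻¹) = x * (a' * b') * x⁻¹ := by group
    _ = x * (b' * a') * x⁻¹ := by rw [h4]
    _ = _ := by group

theorem comm_of_pcent (hk : LocFin k) (r : ℕ) [Fact r.Prime] [CharP k r] {p : ℕ} [Fact p.Prime] (hpr : p ≠ r)
    {ζ : k} (hζ : orderOf ζ = p) {t : ↥(D.group k)} (ht : t ∈ TT D k) (htp : ∃ j, orderOf t = p ^ j)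
    (hW : ∀ w : W, w ^ p = 1 → (∀ i, cX hp t (rep cs hp.isCartan w (sr i)) = cX hp t (sr i)) → w = 1)
    {G0 : Type*} [Group G0] [Finite G0] (hc : PCent p G0) {e0 : G0 →* ↥(D.group k)} (he0 : Function.Injective e0)
    {s : G0} {z : ↥(D.group k)} (hs : e0 s = z * t * z⁻¹) (Q : Sylow p G0) : IsMulCommutative Q := by
  have hos : ∃ j, orderOf s = p ^ j := by
    obtain ⟨j, hj⟩ := htp
    refine ⟨j, ?_⟩
    rw [← hj, ← orderOf_injective e0 he0 s, hs]
    exact orderOf_injective (MulAut.conj z).toMonoidHom (MulAut.conj z).injective t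
  obtain ⟨P, hP⟩ := hc.exists_sylow hos
  exact comm_of_embed hp cs hk r hpr hζ ht hW he0 hs P hP Q

/-- rational conjugates of torus elements -/
theorem exists_elt [IsAlgClosed k] (hk : LocFin k) {r e : ℕ} [Fact r.Prime] [CharP k r] (he : 0 < e) {F : Type u}
    [Field F] [Fintype F] (f : F →+* k) (hq : Fintype.card F = r ^ e) {d : ℕ} {B : Fin l → Fin l → ℤ}
    (hB : InvC D l d B) (hd : d ≠ 0) {m : ℕ} (hm : m.Coprime d) {t : ↥(D.group k)} (ht : t ∈ TT D k)
    (htm : t ^ m = 1) (w : W) (hw : ∀ x, cX hp t (rep cs hp.isCartan w x) = cX hp t x ^ r ^ e) :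
    ∃ (s : ↥(D.group F)) (z : ↥(D.group k)), emb hp.inList f s = z * t * z⁻¹ := by
  let hN : NSys M (TT D k) (nc hp k) := nsys_of_locFin hp cs hk r
  have hFr := fr_phi (k := k) (p := r) (e := e) hp cs
  obtain ⟨n, hn⟩ := exists_rp cs hN w
  obtain ⟨z, hz⟩ := lang_all hp cs he (isFrob_phi (D := D) (k := k) (p := r) (e := e)) hFr 1 n
  rw [map_one, one_mul] at hz
  have hτ : n * phi D k r e t * n⁻¹ = t := by
    rw [tau_iff hp cs hk isFrob_phi hFr hn ht]
    intro x
    rw [theta_apply]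
    exact hw x
  have h1 := H130.TorEmb.mem_range_of_pow hp cs f hq hB hd hm (conj_fixed hz hτ (Subgroup.mem_zpowers t)) (by
    rw [conj_pow, htm, mul_one, mul_inv_cancel])
  obtain ⟨s, hs⟩ := h1
  exact ⟨s, z, hs⟩

end Alg

end Cfsg.Agent.H778.Exc
end
end

-- part: H778/ExcRat
section
set_option linter.all false
open scoped Cfsg.Agent.FastGrp

/-!
# Rational elements of order `p` (helper778)

Certificates (lists of integers, checked by the kernel) for a functional `a` modulo `p` on the root lattice which is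
conjugate under the Weyl group to all its nonzero multiples and is not fixed by an element of order `p`.
`comm_of_cert` : then a finite Chevalley group (any field of characteristic `≠ p`) all of whose `p`-elements are
`p`-central has abelian Sylow `p`-subgroups.
-/

set_option autoImplicit false
set_option linter.unusedSectionVars false

namespace Cfsg.Agent.H778.Exc

open CoxeterSystem Cfsg Cfsg.Lie Cfsg.Lie.ChevalleyDatum
open Cfsg.Agent.ChevalleyStructure Cfsg.Agent.ChevalleyStructure.Elts Cfsg.Agent.ChevalleyStructure.CoxeterGeom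
  Cfsg.Agent.ChevalleyStructure.CoxeterGeomTypes Cfsg.Agent.ChevalleyStructure.NPerm
  Cfsg.Agent.ChevalleyStructure.RootVec
open Cfsg.Agent.Tits.Roots Cfsg.Agent.Tits.Core Cfsg.Agent.Nodes Cfsg.Agent.Nodes.Reps Cfsg.Agent.Nodes.BNOf
  Cfsg.Agent.Nodes.RGDChev Cfsg.Agent.Nodes.Bruhat
open Cfsg.Agent.KFacts.RgdField Cfsg.Agent.KFacts.RgdChevCoord Cfsg.Agent.BpExc.TorCent Cfsg.Agent.BpExc.TorChev
open Cfsg.Agent.GpExc.Field Cfsg.Agent.BpExc.Tow Cfsg.Agent.BpExc.TowChev Cfsg.Agent.BpExc.Fr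
  Cfsg.Agent.BpExc.LangFr Cfsg.Agent.LangThm Cfsg.Agent.BpExc Cfsg.Agent.H129.TorusChar Cfsg.Agent.H129.TorusMain
  Cfsg.Agent.H129.TorusUntw
open Cfsg.Agent.H573 Cfsg.Agent.H130.WeylCk

universe u v

/-! ### lists -/

/-- the number of `v` in the list with `⟨v, b⟩ ≡ c` modulo `p` -/
def cntL (p : ℤ) (RL : List (List ℤ)) (b : List ℤ) (c : ℤ) : ℕ :=
  (RL.filter (fun v => decide ((dot v b - c) % p = 0))).length

/-- all vectors with entries in `0, …, p - 1` which vanish at the places marked `false` -/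
def enumB (p : ℕ) : List Bool → List (List ℤ)
  | [] => [[]]
  | true :: fs => (List.range p).flatMap (fun (c : ℕ) => (enumB p fs).map (fun t => (c : ℤ) :: t))
  | false :: fs => (enumB p fs).map (fun t => 0 :: t)

/-- `RL` lists the roots of `D` -/
def RootList (D : ChevalleyDatum) (l : ℕ) (RL : List (List ℤ)) : Prop :=
  RL.length = D.nroots ∧ ∀ r < D.nroots, (RL.getD r []).length = l ∧ ∀ i : Fin l, rt D r i = (RL.getD r []).getD i 0

theorem mem_enumB {p : ℕ} [NeZero p] : ∀ (l : ℕ) (fs : List Bool), fs.length = l → ∀ b : Fin l → ZMod p,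
    (∀ i : Fin l, fs.getD i true = false → b i = 0) → List.ofFn (fun i => ((b i).val : ℤ)) ∈ enumB p fs := by
  intro l
  induction l with
  | zero =>
    intro fs hfs b _
    rw [List.length_eq_zero_iff] at hfs
    subst hfs
    simp [enumB]
  | succ l ih =>
    intro fs hfs b hb
    cases fs with
    | nil => simp at hfs
    | cons f fs =>
      have h1 := ih fs (by simpa using hfs) (fun i => b i.succ) (fun i hi => hb i.succ (by simpa using hi))
      rw [List.ofFn_succ]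
      cases f with
      | true =>
        simp only [enumB, List.mem_flatMap, List.mem_map, List.mem_range]
        exact ⟨(b 0).val, ZMod.val_lt _, _, h1, rfl⟩
      | false =>
        simp only [enumB, List.mem_map]
        have h2 : b 0 = 0 := hb 0 rfl
        refine ⟨_, h1, ?_⟩
        rw [h2, ZMod.val_zero]
        rfl

section Count

variable {D : ChevalleyDatum} {l : ℕ} {M : CoxeterMatrix (Fin l)} (hp : IsType D l M)
  {W : Type*} [Group W] (cs : CoxeterSystem M W) {p : ℕ}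

theorem ev_toFn {b : Fin l → ZMod p} {bl v : List ℤ} (hb : bl.length = l) (hbl : ∀ i : Fin l, b i = ((bl.getD i 0 : ℤ) : ZMod p))
    (hv : v.length = l) : ev b (toFn l v) = ((dot v bl : ℤ) : ZMod p) := by
  rw [dot_eq v bl hv hb, Int.cast_sum]
  unfold ev
  refine Finset.sum_congr rfl fun i _ => ?_
  rw [Int.cast_mul, hbl i]
  rfl

include hp in
theorem ncard_eq {RL : List (List ℤ)} (hR : RootList D l RL) {b : Fin l → ZMod p} {bl : List ℤ} (hb : bl.length = l)
    (hbl : ∀ i : Fin l, b i = ((bl.getD i 0 : ℤ) : ZMod p)) (c : ℤ) :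
    (Rc cs hp.isCartan b (c : ZMod p)).ncard = cntL p RL bl c := by
  have h1 : Rc cs hp.isCartan b (c : ZMod p) =
      (fun r => vec D l r) '' (((Finset.range D.nroots).filter (fun r => (dot (RL.getD r []) bl - c) % p = 0) : Finset ℕ) : Set ℕ) := by
    have key : ∀ r < D.nroots, (ev b (vec D l r) = (c : ZMod p) ↔ (dot (RL.getD r []) bl - c) % p = 0) := by
      intro r hr
      have h2 : vec D l r = toFn l (RL.getD r []) := by
        funext i
        exact (hR.2 r hr).2 i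
      rw [h2, ev_toFn hb hbl (hR.2 r hr).1, ← Int.dvd_iff_emod_eq_zero, ← ZMod.intCast_zmod_eq_zero_iff_dvd,
        Int.cast_sub, sub_eq_zero]
    ext x
    simp only [Set.mem_image, Finset.mem_coe, Finset.mem_filter, Finset.mem_range]
    constructor
    · rintro ⟨hx, hc⟩
      obtain ⟨r, hr, rfl⟩ := (isRoot_iff hp cs x).1 hx
      exact ⟨r, ⟨hr, (key r hr).1 hc⟩, rfl⟩
    · rintro ⟨r, ⟨hr, hc⟩, rfl⟩
      exact ⟨isRoot_vec hp cs hr, (key r hr).2 hc⟩
  rw [h1, Set.InjOn.ncard_image, Set.ncard_coe_finset]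
  · have h3 : RL = (List.range D.nroots).map (fun r => RL.getD r []) := by
      apply List.ext_getElem
      · rw [List.length_map, List.length_range, hR.1]
      · intro n h4 h5
        rw [List.getElem_map, List.getElem_range, List.getD_eq_getElem _ _ h4]
    unfold cntL
    conv_rhs => rw [h3]
    rw [List.filter_map, List.length_map]
    rfl
  · intro r hr s hs e
    exact vec_inj hp (Finset.mem_range.1 (Finset.mem_filter.1 hr).1) (Finset.mem_range.1 (Finset.mem_filter.1 hs).1) e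

end Count

/-- **the certificate** -/
structure RCert (D : ChevalleyDatum) (l p : ℕ) (Al : List (List ℤ)) (g : ℕ) (a : List ℤ) (w1 w0 : List (Fin l))
    (fs : List Bool) (C : List (List ℤ)) (RL : List (List ℤ)) : Prop where
  la : a.length = l
  rat : ∀ i : Fin l, (dot (ac Al w1 (bas l i)) a - g * a.getD i 0) % p = 0
  one : ∀ i : Fin l, acn Al w0 p (bas l i) = bas l i
  ne : ∃ i : Fin l, ac Al w0 (bas l i) ≠ bas l i
  lf : fs.length = l
  fix : ∀ j : Fin l, fs.getD j true = false → ∀ k : Fin l,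
    (∑ i : Fin l, (C.getD j []).getD i 0 * ((ac Al w0 (bas l i)).getD k 0 - (bas l i).getD k 0) - (bas l j).getD k 0) % p = 0
  cnt : ∀ b ∈ enumB p fs, cntL p RL b 0 ≠ cntL p RL a 0 ∨ cntL p RL b 1 ≠ cntL p RL a 1

namespace RCert

variable {D : ChevalleyDatum} {l p : ℕ} {Al : List (List ℤ)} {g : ℕ} {a : List ℤ} {w1 w0 : List (Fin l)}
    {fs : List Bool} {C : List (List ℤ)} {RL : List (List ℤ)} (H : RCert D l p Al g a w1 w0 fs C RL)
    {M : CoxeterMatrix (Fin l)} (hp : IsType D l M) {W : Type*} [Group W] (cs : CoxeterSystem M W)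
    (hA : MatList (cartanOf D l) Al) (hR : RootList D l RL)

/-- the functional modulo `p` -/
def fa (l p : ℕ) (a : List ℤ) : Fin l → ZMod p := fun i => ((a.getD i 0 : ℤ) : ZMod p)

include hA in
theorem rep_bas (w : List (Fin l)) (i : Fin l) : rep cs hp.isCartan (cs.wordProd w) (sr i) = toFn l (ac Al w (bas l i)) := by
  rw [toFn_ac cs hp.isCartan hA w _ (length_bas i), toFn_bas]
  rfl

theorem length_ac_bas (w : List (Fin l)) (i : Fin l) : (ac Al w (bas l i)).length = l := by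
  rw [length_ac, length_bas]

include H hA in
theorem pull_w1 (i : Fin l) : pull cs hp.isCartan (fa l p a) (cs.wordProd w1) i = (g : ZMod p) * fa l p a i := by
  show ev (fa l p a) (rep cs hp.isCartan (cs.wordProd w1) (sr i)) = _
  rw [rep_bas hp cs hA, ev_toFn (b := fa l p a) H.la (fun _ => rfl) (length_ac_bas w1 i)]
  have h1 := H.rat i
  rw [← Int.dvd_iff_emod_eq_zero, ← ZMod.intCast_zmod_eq_zero_iff_dvd, Int.cast_sub, sub_eq_zero] at h1
  rw [h1]
  push_cast
  rfl

include H hA in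
theorem pull_w1_pow (n : ℕ) (i : Fin l) :
    pull cs hp.isCartan (fa l p a) (cs.wordProd w1 ^ n) i = (g : ZMod p) ^ n * fa l p a i := by
  induction n generalizing i with
  | zero => rw [pow_zero, pull_one, pow_zero, one_mul]
  | succ n ih =>
    rw [pow_succ', pull_mul]
    have h1 : pull cs hp.isCartan (fa l p a) (cs.wordProd w1) = fun i => (g : ZMod p) * fa l p a i :=
      funext fun i => H.pull_w1 hp cs hA i
    rw [h1]
    have h2 : ∀ x, ev (fun i => (g : ZMod p) * fa l p a i) x = (g : ZMod p) * ev (fa l p a) x := by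
      intro x
      unfold ev
      rw [Finset.mul_sum]
      exact Finset.sum_congr rfl fun i _ => by ring
    show ev _ (rep cs hp.isCartan _ (sr i)) = _
    rw [h2]
    have h3 := ih i
    rw [show pull cs hp.isCartan (fa l p a) (cs.wordProd w1 ^ n) i =
      ev (fa l p a) (rep cs hp.isCartan (cs.wordProd w1 ^ n) (sr i)) from rfl] at h3
    rw [h3, pow_succ']
    ring

include H hp hA in
theorem w0_pow : cs.wordProd w0 ^ p = 1 := by
  refine eq_one_of_fix cs hp.isCartan _ fun i => ?_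
  have h1 := toFn_acn cs hp.isCartan hA w0 p (bas l i) (length_bas i)
  rw [H.one i, toFn_bas] at h1
  rw [map_pow]
  exact h1.symm

include H hp hA in
theorem w0_ne : cs.wordProd w0 ≠ 1 := by
  intro h
  obtain ⟨i, hi⟩ := H.ne
  apply hi
  have h1 := rep_bas hp cs hA w0 i
  rw [h, map_one, Module.End.one_apply] at h1
  have h2 : toFn l (bas l i) = toFn l (ac Al w0 (bas l i)) := by rw [← h1, toFn_bas]; rfl
  apply List.ext_getElem
  · rw [length_ac]
  · intro n h3 h4
    have h5 : n < l := by rw [length_ac_bas] at h3; exact h3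
    have h6 := congrFun h2 ⟨n, h5⟩
    unfold toFn at h6
    rw [List.getD_eq_getElem _ _ h4, List.getD_eq_getElem _ _ h3] at h6
    exact h6.symm

include H hA hR in
theorem inv [Fact p.Prime] (b : Fin l → ZMod p) (hb : pull cs hp.isCartan b (cs.wordProd w0) = b) :
    ∃ c, (Rc cs hp.isCartan b c).ncard ≠ (Rc cs hp.isCartan (fa l p a) c).ncard := by
  have hz : ∀ j : Fin l, fs.getD j true = false → b j = 0 := by
    intro j hj
    have h1 := H.fix j hj
    have h2 : ∀ i : Fin l, ev b (toFn l (ac Al w0 (bas l i))) - b i = 0 := by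
      intro i
      have h3 := congrFun hb i
      unfold pull at h3
      rw [rep_bas hp cs hA] at h3
      rw [h3, sub_self]
    have h3 : ∑ k : Fin l, ((∑ i : Fin l, (C.getD j []).getD i 0 *
        ((ac Al w0 (bas l i)).getD k 0 - (bas l i).getD k 0) - (bas l j).getD k 0 : ℤ) : ZMod p) * b k = 0 := by
      refine Finset.sum_eq_zero fun k _ => ?_
      have h4 := h1 k
      rw [← Int.dvd_iff_emod_eq_zero, ← ZMod.intCast_zmod_eq_zero_iff_dvd] at h4
      rw [h4, zero_mul]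
    have h4 : ∑ k : Fin l, ((∑ i : Fin l, (C.getD j []).getD i 0 *
        ((ac Al w0 (bas l i)).getD k 0 - (bas l i).getD k 0) - (bas l j).getD k 0 : ℤ) : ZMod p) * b k =
        ∑ i : Fin l, (((C.getD j []).getD i 0 : ℤ) : ZMod p) * (ev b (toFn l (ac Al w0 (bas l i))) - b i) - b j := by
      have h5 : ∀ i : Fin l, b i = ∑ k : Fin l, (((bas l i).getD k 0 : ℤ) : ZMod p) * b k := by
        intro i
        have h6 : ev b (toFn l (bas l i)) = b i := by
          rw [toFn_bas]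
          exact ev_sr b i
        rw [← h6]
        conv_lhs => unfold ev
        rfl
      have h7 : ∀ i : Fin l, ev b (toFn l (ac Al w0 (bas l i))) =
          ∑ k : Fin l, (((ac Al w0 (bas l i)).getD k 0 : ℤ) : ZMod p) * b k := fun i => rfl
      calc _ = ∑ k : Fin l, (∑ i : Fin l, (((C.getD j []).getD i 0 : ℤ) : ZMod p) *
            ((((ac Al w0 (bas l i)).getD k 0 : ℤ) : ZMod p) * b k - (((bas l i).getD k 0 : ℤ) : ZMod p) * b k) -
              (((bas l j).getD k 0 : ℤ) : ZMod p) * b k) := by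
            refine Finset.sum_congr rfl fun k _ => ?_
            rw [Int.cast_sub, Int.cast_sum, sub_mul, Finset.sum_mul]
            congr 1
            refine Finset.sum_congr rfl fun i _ => ?_
            rw [Int.cast_mul, Int.cast_sub]
            ring
        _ = _ := by
            rw [Finset.sum_sub_distrib, ← h5 j, Finset.sum_comm]
            congr 1
            refine Finset.sum_congr rfl fun i _ => ?_
            rw [← Finset.mul_sum, Finset.sum_sub_distrib, ← h7, ← h5 i]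
    rw [h4, Finset.sum_eq_zero (fun i _ => by rw [h2 i, mul_zero]), zero_sub, neg_eq_zero] at h3
    exact h3
  have h1 := mem_enumB l fs H.lf b hz
  set bl : List ℤ := List.ofFn (fun i => ((b i).val : ℤ)) with hbl
  have h2 : bl.length = l := by rw [hbl, List.length_ofFn]
  have h3 : ∀ i : Fin l, b i = ((bl.getD i 0 : ℤ) : ZMod p) := by
    intro i
    rw [List.getD_eq_getElem _ _ (by rw [h2]; exact i.2)]
    simp only [hbl, List.getElem_ofFn, Fin.eta]
    rw [Int.cast_natCast, ZMod.natCast_zmod_val]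
  have h4 : ∀ c : ℤ, (Rc cs hp.isCartan b (c : ZMod p)).ncard = cntL p RL bl c := ncard_eq hp cs hR h2 h3
  have h5 : ∀ c : ℤ, (Rc cs hp.isCartan (fa l p a) (c : ZMod p)).ncard = cntL p RL a c :=
    ncard_eq hp cs hR H.la (fun _ => rfl)
  rcases H.cnt bl h1 with h6 | h6
  · exact ⟨((0 : ℤ) : ZMod p), by rw [h4, h5]; exact h6⟩
  · exact ⟨((1 : ℤ) : ZMod p), by rw [h4, h5]; exact h6⟩

include H hA hR in
/-- no element of order `p` fixes the functional -/
theorem no_fix [Finite W] [Fact p.Prime] (h1 : p ∣ Nat.card W) (h2 : ¬ p ^ 2 ∣ Nat.card W) {w : W} (hw : w ^ p = 1)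
    (hwa : pull cs hp.isCartan (fa l p a) w = fa l p a) : w = 1 :=
  Exc.no_fix cs hp.isCartan h1 h2 (H.w0_pow hp cs hA) (H.w0_ne hp cs hA) _ (H.inv hp cs hA hR) hw hwa

end RCert

/-! ### torus elements -/

section Tor

variable {D : ChevalleyDatum} {l : ℕ} {M : CoxeterMatrix (Fin l)} (hp : IsType D l M) {k : Type u} [Field k]

theorem zpow_eq_iff {p : ℕ} [Fact p.Prime] {ζ : k} (hζ : orderOf ζ = p) (m n : ℤ) :
    ζ ^ m = ζ ^ n ↔ ((m : ℤ) : ZMod p) = ((n : ℤ) : ZMod p) := by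
  have h0 : ζ ≠ 0 := by
    rintro rfl
    rw [orderOf_zero] at hζ
    exact (Fact.out : p.Prime).ne_zero hζ.symm
  have hu : orderOf (Units.mk0 ζ h0) = p := by rw [← orderOf_units, Units.val_mk0, hζ]
  have h1 : ζ ^ m = ζ ^ n ↔ (Units.mk0 ζ h0) ^ m = (Units.mk0 ζ h0) ^ n := by
    rw [← Units.val_inj, Units.val_zpow_eq_zpow_val, Units.val_zpow_eq_zpow_val, Units.val_mk0]
  rw [h1, zpow_eq_zpow_iff_modEq, hu]
  exact (ZMod.intCast_eq_intCast_iff m n p).symm

/-- the torus element with characters `ζ ^ ⟨a, x⟩` -/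
theorem exists_tor [IsAlgClosed k] {d : ℕ} {B : Fin l → Fin l → ℤ} (hB : InvC D l d B) (hd : d ≠ 0) {p : ℕ}
    [Fact p.Prime] {ζ : k} (hζ : orderOf ζ = p) (a : List ℤ) :
    ∃ t ∈ TT D k, (∀ x, cX hp t x = ζ ^ (fn l a x)) ∧ t ^ p = 1 := by
  have h0 : ζ ≠ 0 := by
    rintro rfl
    rw [orderOf_zero] at hζ
    exact (Fact.out : p.Prime).ne_zero hζ.symm
  have hφ : IsMC (fun x : Fin l → ℤ => ζ ^ (fn l a x)) := by
    refine ⟨?_, fun x y => ?_⟩
    · show ζ ^ (fn l a 0) = 1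
      rw [map_zero, zpow_zero]
    · show ζ ^ (fn l a (x + y)) = _
      rw [map_add, zpow_add₀ h0]
  obtain ⟨t, ht, h1⟩ := exists_cX hp hB hd hφ (fun _ => IsAlgClosed.exists_pow_nat_eq _ (Nat.pos_of_ne_zero hd))
  refine ⟨t, ht, h1, ?_⟩
  refine cX_inj hp (pow_mem ht p) (one_mem _) fun i => ?_
  rw [cX_pow hp ht, cX_one, h1, ← zpow_natCast, ← zpow_mul, mul_comm, zpow_mul, zpow_natCast, ← hζ, pow_orderOf_eq_one,
    one_zpow]

theorem fn_eq_ev {p : ℕ} (a : List ℤ) (x : Fin l → ℤ) : ((fn l a x : ℤ) : ZMod p) = ev (RCert.fa l p a) x := by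
  show ((∑ j : Fin l, toFn l a j * x j : ℤ) : ZMod p) = _
  rw [Int.cast_sum]
  unfold ev
  refine Finset.sum_congr rfl fun i _ => ?_
  rw [Int.cast_mul, mul_comm]
  rfl

variable {W : Type*} [Group W] (cs : CoxeterSystem M W)

/-- an element of the Weyl group fixes `t` iff it fixes the functional -/
theorem pull_eq_of_cX {p : ℕ} [Fact p.Prime] {ζ : k} (hζ : orderOf ζ = p) {a : List ℤ} {t : ↥(D.group k)}
    (h : ∀ x, cX hp t x = ζ ^ (fn l a x)) {w : W}
    (hw : ∀ i, cX hp t (rep cs hp.isCartan w (sr i)) = cX hp t (sr i)) :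
    pull cs hp.isCartan (RCert.fa l p a) w = RCert.fa l p a := by
  funext i
  show ev _ (rep cs hp.isCartan w (sr i)) = _
  have h1 := hw i
  rw [h, h, zpow_eq_iff hζ, fn_eq_ev, fn_eq_ev, ev_sr] at h1
  exact h1

end Tor

namespace RCert

variable {D : ChevalleyDatum} {l p : ℕ} {Al : List (List ℤ)} {g : ℕ} {a : List ℤ} {w1 w0 : List (Fin l)}
    {fs : List Bool} {C : List (List ℤ)} {RL : List (List ℤ)} (H : RCert D l p Al g a w1 w0 fs C RL)
    {M : CoxeterMatrix (Fin l)} (hp : IsType D l M)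
    (hA : MatList (cartanOf D l) Al) (hR : RootList D l RL)

include H hp hA hR in
/-- **A Chevalley group in characteristic `≠ p` all of whose `p`-elements are `p`-central.** -/
theorem comm [Fact p.Prime] (hg : ∀ c : ZMod p, c ≠ 0 → ∃ n : ℕ, c = (g : ZMod p) ^ n) {W : Type*} [Group W]
    (cs : CoxeterSystem M W) (h1 : p ∣ Nat.card W) (h2 : ¬ p ^ 2 ∣ Nat.card W)
    {d : ℕ} {B : Fin l → Fin l → ℤ} (hB : InvC D l d B) (hd : d ≠ 0) (hpd : p.Coprime d)
    {F : Type u} [Field F] [Fintype F] (hpF : ¬ p ∣ Fintype.card F) (hc : PCent p ↥(D.group F))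
    (Q : Sylow p ↥(D.group F)) : IsMulCommutative Q := by
  obtain ⟨r, e, hr, hcF, hck, he, hq, hk⟩ := exists_closure (F := F) rfl
  have hWf := finite_W hp cs
  have hpr : p ≠ r := by
    rintro rfl
    exact hpF (by rw [hq]; exact dvd_pow_self p he.ne')
  have hpp : p.Prime := Fact.out
  have hpk : ((p : ℕ) : AlgebraicClosure F) ≠ 0 := by
    rw [Ne, CharP.cast_eq_zero_iff (AlgebraicClosure F) r]
    exact fun h => hpr ((Nat.prime_dvd_prime_iff_eq hr.out hpp).1 h).symm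
  have : NeZero ((p : ℕ) : AlgebraicClosure F) := ⟨hpk⟩
  obtain ⟨ζ, hζ'⟩ := HasEnoughRootsOfUnity.exists_primitiveRoot (AlgebraicClosure F) p
  have hζ : orderOf ζ = p := hζ'.eq_orderOf.symm
  obtain ⟨t, ht, htx, htp⟩ := exists_tor (k := AlgebraicClosure F) hp hB hd hζ a
  obtain ⟨n, hn⟩ := hg ((r ^ e : ℕ) : ZMod p) (by
    rw [Ne, ZMod.natCast_eq_zero_iff, ← hq]
    exact hpF)
  have hw : ∀ x, cX hp t (rep cs hp.isCartan (cs.wordProd w1 ^ n) x) = cX hp t x ^ r ^ e := by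
    intro x
    rw [htx, htx, ← zpow_natCast (ζ ^ (fn l a) x) (r ^ e), ← zpow_mul, zpow_eq_iff hζ, Int.cast_mul, fn_eq_ev, fn_eq_ev, ← ev_pull,
      Int.cast_natCast, hn]
    have h3 : pull cs hp.isCartan (fa l p a) (cs.wordProd w1 ^ n) = fun i => (g : ZMod p) ^ n * fa l p a i :=
      funext fun i => H.pull_w1_pow hp cs hA n i
    rw [h3]
    unfold ev
    rw [Finset.sum_mul]
    exact Finset.sum_congr rfl fun i _ => by ring
  obtain ⟨s, z, hs⟩ := exists_elt hp cs hk he (algebraMap F (AlgebraicClosure F)) hq hB hd hpd ht htp _ hw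
  refine comm_of_pcent hp cs hk r hpr hζ ht ?_ (fun w hw1 hw2 => ?_) hc (emb_injective hp.inList _) hs Q
  · obtain ⟨j, -, hj⟩ := (Nat.dvd_prime_pow hpp).1 (show orderOf t ∣ p ^ 1 by
      rw [pow_one]; exact orderOf_dvd_of_pow_eq_one htp)
    exact ⟨j, hj⟩
  · exact H.no_fix hp cs hA hR h1 h2 hw1 (pull_eq_of_cX hp cs hζ htx hw2)

end RCert

/-- **`p` prime to the order of the Weyl group.** -/
theorem comm_of_weyl {D : ChevalleyDatum} {l : ℕ} {M : CoxeterMatrix (Fin l)} (hp : IsType D l M) {W : Type*} [Group W]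
    (cs : CoxeterSystem M W) {p : ℕ} [Fact p.Prime] (hW : ¬ p ∣ Nat.card W) {F : Type u} [Field F] [Fintype F]
    (hpF : ¬ p ∣ Fintype.card F) {G0 : Type*} [Group G0] [Finite G0] {e0 : G0 →* ↥(D.group F)}
    (he0 : Function.Injective e0) (Q : Sylow p G0) : IsMulCommutative Q := by
  obtain ⟨r, e, hr, hcF, hck, he, hq, hk⟩ := exists_closure (F := F) rfl
  have hWf := finite_W hp cs
  have hpr : p ≠ r := by
    rintro rfl
    exact hpF (by rw [hq]; exact dvd_pow_self p he.ne')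
  have hpp : p.Prime := Fact.out
  have hpk : ((p : ℕ) : AlgebraicClosure F) ≠ 0 := by
    rw [Ne, CharP.cast_eq_zero_iff (AlgebraicClosure F) r]
    exact fun h => hpr ((Nat.prime_dvd_prime_iff_eq hr.out hpp).1 h).symm
  have : NeZero ((p : ℕ) : AlgebraicClosure F) := ⟨hpk⟩
  obtain ⟨ζ, hζ'⟩ := HasEnoughRootsOfUnity.exists_primitiveRoot (AlgebraicClosure F) p
  have hζ : orderOf ζ = p := hζ'.eq_orderOf.symm
  obtain ⟨P⟩ : Nonempty (Sylow p G0) := inferInstance
  refine comm_of_embed hp cs hk r hpr hζ (t := 1) (one_mem _) (fun w hw _ => ?_)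
    (e0 := (emb hp.inList (algebraMap F (AlgebraicClosure F))).comp e0)
    ((emb_injective hp.inList _).comp he0) (s := 1) (z := 1) (by rw [map_one]; group) P
    (fun y _ => by rw [mul_one, one_mul]) Q
  by_contra hne
  apply hW
  rw [← orderOf_eq_prime hw hne]
  exact orderOf_dvd_natCard w

end Cfsg.Agent.H778.Exc

private theorem dce_3a4191b6b986 : _root_.True := by
  try have : _root_.True := by simp only [_root_.Cfsg.Agent.H778.Exc.enumB.eq_3]
  try have : _root_.True := by simp only [_root_.Cfsg.Agent.H778.Exc.enumB.eq_def]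
  try have : _root_.True := by simp only [_root_.Cfsg.Agent.H778.Exc.Rc.congr_simp]
  try have : _root_.True := by simp only [_root_.Cfsg.Agent.H778.Exc.enumB.eq_2]
  try have : _root_.True := by simp only [_root_.Cfsg.Agent.H778.Exc.enumB.eq_1]
  exact _root_.True.intro
end

-- part: H778/ExcLang
section
set_option linter.all false
open scoped Cfsg.Agent.FastGrp

/-!
# Lang's theorem for tori; centralisers of sets of torus elements; fixed representatives (helper778)

* `torus_lang` : Lang's theorem for the torus, in characters;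
* `cent_alg` : an element commuting with a finite set of torus elements, on which no root vanishes and which is fixed
  by no element of the Weyl group, is in the torus;
* `AAct c X` : `X` normalises the torus and acts on the characters as `c`;
* `exists_act` : a representative `X` of `c`, of `p`-power order, with `n σ(X) n⁻¹ = X`.
-/

set_option autoImplicit false
set_option linter.unusedSectionVars false

namespace Cfsg.Agent.H778.Exc

open CoxeterSystem Cfsg Cfsg.Lie Cfsg.Lie.ChevalleyDatum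
open Cfsg.Agent.ChevalleyStructure Cfsg.Agent.ChevalleyStructure.Elts Cfsg.Agent.ChevalleyStructure.CoxeterGeom
  Cfsg.Agent.ChevalleyStructure.CoxeterGeomTypes Cfsg.Agent.ChevalleyStructure.NPerm
open Cfsg.Agent.Tits.Roots Cfsg.Agent.Tits.Core Cfsg.Agent.Nodes Cfsg.Agent.Nodes.Reps Cfsg.Agent.Nodes.BNOf
  Cfsg.Agent.Nodes.RGDChev Cfsg.Agent.Nodes.Bruhat Cfsg.Agent.Nodes.LeviDec Cfsg.Agent.Nodes.StabComb
open Cfsg.Agent.KFacts.RgdField Cfsg.Agent.KFacts.RgdChevCoord Cfsg.Agent.BpExc.TorCent Cfsg.Agent.BpExc.TorChev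
open Cfsg.Agent.GpExc.Field Cfsg.Agent.BpExc.Tow Cfsg.Agent.BpExc.TowChev Cfsg.Agent.BpExc.Fr
  Cfsg.Agent.BpExc.LangFr Cfsg.Agent.LangThm Cfsg.Agent.BpExc Cfsg.Agent.H129.TorusChar Cfsg.Agent.H129.TorusMain
  Cfsg.Agent.H129.TorusUntw Cfsg.Agent.ChevStructure.FieldMap Cfsg.Agent.BpExc.EmbSplit
open Cfsg.Agent.PRankPar

universe u v

section Lang

/-- **Lang's theorem for the torus**, in characters -/
theorem torus_lang {l : ℕ} {k : Type u} [Field k] [IsAlgClosed k] {θ : (Fin l → ℤ) →+ (Fin l → ℤ)} {m : ℕ}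
    (hm : 0 < m) (hθ : ∀ x, (⇑θ)^[m] x = x) {q : ℕ} (hq : 1 < q) {ψ : (Fin l → ℤ) → k} (hψ : IsMC ψ) :
    ∃ φ : (Fin l → ℤ) → k, IsMC φ ∧ ∀ x, φ (θ x) = ψ x * φ x ^ q := by
  have hN : 0 < q ^ m - 1 := by
    have : 1 < q ^ m := Nat.one_lt_pow hm.ne' hq
    omega
  choose c hc using fun i : Fin l => IsAlgClosed.exists_pow_nat_eq (ψ (-(sr i))) hN
  have hc0 : ∀ i, c i ≠ 0 := fun i h0 => by
    have := hc i
    rw [h0, zero_pow hN.ne'] at this
    exact hψ.ne_zero _ this.symm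
  obtain ⟨ρ, hρdef⟩ : ∃ ρ : (Fin l → ℤ) → k, ρ = fun x => ∏ i, c i ^ x i := ⟨_, rfl⟩
  have hρ : IsMC ρ := by rw [hρdef]; exact IsMC.of_prod c hc0
  have hρψ : ∀ x, ρ x ^ (q ^ m - 1) = ψ (-x) := by
    intro x
    refine (hρ.pow (q ^ m - 1)).ext (hψ.comp (-(AddMonoidHom.id _))) (fun i => ?_) x
    show ρ (sr i) ^ _ = ψ (-(sr i))
    rw [← hc i]
    congr 1
    rw [hρdef]
    show ∏ j, c j ^ (sr i : Fin l → ℤ) j = c i
    rw [Finset.prod_eq_single i]
    · rw [sr_self, zpow_one]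
    · intro j _ hj
      rw [sr_ne hj, zpow_zero]
    · intro h; exact absurd (Finset.mem_univ i) h
  refine ⟨fun x => ∏ i ∈ Finset.range m, ρ ((⇑θ)^[i] x) ^ q ^ (m - 1 - i), ⟨?_, fun x y => ?_⟩, fun x => ?_⟩
  · refine Finset.prod_eq_one fun i _ => ?_
    rw [iterate_map_zero, hρ.zero, one_pow]
  · rw [← Finset.prod_mul_distrib]
    refine Finset.prod_congr rfl fun i _ => ?_
    rw [iterate_map_add, hρ.add, mul_pow]
  · obtain ⟨a, ha⟩ : ∃ a : ℕ → k, a = fun j => ρ ((⇑θ)^[j] x) ^ q ^ (m - j) := ⟨_, rfl⟩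
    have h1 : ∏ i ∈ Finset.range m, ρ ((⇑θ)^[i] (θ x)) ^ q ^ (m - 1 - i) = ∏ i ∈ Finset.range m, a (i + 1) := by
      refine Finset.prod_congr rfl fun i _ => ?_
      rw [ha]
      show _ = ρ ((⇑θ)^[i + 1] x) ^ q ^ (m - (i + 1))
      rw [Function.iterate_succ_apply, show m - (i + 1) = m - 1 - i by omega]
    have h2 : (∏ i ∈ Finset.range m, ρ ((⇑θ)^[i] x) ^ q ^ (m - 1 - i)) ^ q = ∏ i ∈ Finset.range m, a i := by
      rw [← Finset.prod_pow]
      refine Finset.prod_congr rfl fun i hi => ?_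
      rw [Finset.mem_range] at hi
      rw [ha, ← pow_mul, ← pow_succ, show m - 1 - i + 1 = m - i by omega]
    have h3 := Finset.prod_range_succ a m
    rw [Finset.prod_range_succ'] at h3
    have ha0 : a 0 = ρ x ^ q ^ m := by rw [ha]; simp
    have ham : a m = ρ x := by rw [ha]; simp [hθ]
    have hx0 : ρ x ≠ 0 := hρ.ne_zero x
    rw [ha0, ham] at h3
    have h4 : ρ x ^ q ^ m = ψ (-x) * ρ x := by
      rw [← hρψ x, ← pow_succ, Nat.sub_add_cancel]
      exact Nat.one_le_pow _ _ (by omega)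
    rw [h4, ← mul_assoc] at h3
    have h5 := mul_right_cancel₀ hx0 h3
    beta_reduce
    rw [h1, h2, ← h5]
    have h6 := hψ.neg_mul x
    calc ∏ i ∈ Finset.range m, a (i + 1) = (ψ x * ψ (-x)) * ∏ i ∈ Finset.range m, a (i + 1) := by rw [h6, one_mul]
      _ = _ := by ring

/-- an injective endomorphism of the lattice preserving the roots has finite order -/
theorem exists_order {l : ℕ} {M : CoxeterMatrix (Fin l)} {A : Fin l → Fin l → ℤ} {W : Type*} [Group W] [Finite W]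
    (cs : CoxeterSystem M W) (h : IsCartan M A) (θ : (Fin l → ℤ) →+ (Fin l → ℤ)) (hinj : Function.Injective θ)
    (hroot : ∀ a, IsRoot cs h a → IsRoot cs h (θ a)) : ∃ m, 0 < m ∧ ∀ x, (⇑θ)^[m] x = x := by
  have hfin : Finite {a // IsRoot cs h a} := by
    have h1 : {a | IsRoot cs h a} ⊆ Set.range (fun p : W × Fin l => rep cs h p.1 (sr p.2)) := by
      rintro a ⟨w, i, rfl⟩
      exact ⟨(w, i), rfl⟩
    exact ((Set.finite_range _).subset h1).to_subtype
  let f : {a // IsRoot cs h a} → {a // IsRoot cs h a} := fun a => ⟨θ a, hroot _ a.2⟩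
  have hf : Function.Injective f := fun a b hab => Subtype.ext (hinj (congrArg Subtype.val hab))
  let e : Equiv.Perm {a // IsRoot cs h a} := Equiv.ofBijective f (Finite.injective_iff_bijective.1 hf)
  refine ⟨orderOf e, orderOf_pos e, ?_⟩
  have h1 : ∀ (n : ℕ) (a : {a // IsRoot cs h a}), (((e ^ n) a : {a // IsRoot cs h a}) : Fin l → ℤ) = (⇑θ)^[n] a := by
    intro n
    induction n with
    | zero => intro a; rfl
    | succ n ih =>
      intro a
      rw [pow_succ', Equiv.Perm.mul_apply, Function.iterate_succ_apply', ← ih]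
      rfl
  have h2 : ∀ n : ℕ, ∃ g : (Fin l → ℤ) →+ (Fin l → ℤ), ∀ x, g x = (⇑θ)^[n] x := by
    intro n
    induction n with
    | zero => exact ⟨AddMonoidHom.id _, fun x => rfl⟩
    | succ n ih =>
      obtain ⟨g, hg⟩ := ih
      exact ⟨θ.comp g, fun x => by rw [Function.iterate_succ_apply', ← hg]; rfl⟩
  obtain ⟨g, hg⟩ := h2 (orderOf e)
  have h3 : g = AddMonoidHom.id _ := by
    refine hom_ext fun i => ?_
    rw [hg, ← h1 _ ⟨sr i, isRoot_sr cs h i⟩, pow_orderOf_eq_one]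
    rfl
  intro x
  rw [← hg, h3]
  rfl

end Lang

variable {D : ChevalleyDatum} {l : ℕ} {M : CoxeterMatrix (Fin l)} (hp : IsType D l M)
  {W : Type*} [Group W] (cs : CoxeterSystem M W)

/-! ### centralisers -/

section CentFin

variable {K : Type u} [Field K] [Finite K]

include hp cs in
theorem sup_inf_eq_bot {X : (Fin l → ℤ) → Subgroup ↥(D.group K)} {S : Set ↥(D.group K)} {P : Set (Fin l → ℤ)}
    (h : ∀ x ∈ P, X x ⊓ Subgroup.centralizer S = ⊥) : RGD.Sup (fun x => X x ⊓ Subgroup.centralizer S) P = ⊥ := by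
  rw [eq_bot_iff]
  refine RGD.Sup_le fun x hx => ?_
  rw [h x hx]

theorem cent_fin (r : ℕ) [Fact r.Prime] [CharP K r] {S : Set ↥(D.group K)} (hS : S ⊆ TT D K)
    (h1 : ∀ a, IsRoot cs hp.isCartan a → ∃ s ∈ S, cX hp s a ≠ 1)
    (h2 : ∀ w : W, (∀ s ∈ S, ∀ a, IsRoot cs hp.isCartan a → cX hp s (rep cs hp.isCartan w a) = cX hp s a) → w = 1)
    {y : ↥(D.group K)} (hy : ∀ s ∈ S, y * s = s * y) : y ∈ TT D K := by
  have hWf := finite_W hp cs
  have R := rgd (K := K) hp cs r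
  have C := coords (K := K) hp cs r
  have hyc : y ∈ Subgroup.centralizer S := by
    rw [Subgroup.mem_centralizer_iff]
    intro s hs
    exact (hy s hs).symm
  obtain ⟨u, hu, w, k, hk, hkc, v, hv, rfl⟩ := Cfsg.Agent.Nodes.NormalForm.mem_centralizer R hS
    (by rw [GG_top hp cs]; trivial) hyc
  have hbot : RGD.Sup (fun x => XX D l K x ⊓ Subgroup.centralizer S) (RGD.Pos cs hp.isCartan) = ⊥ := by
    refine sup_inf_eq_bot hp cs fun a ha => ?_
    rw [eq_bot_iff]
    rintro x ⟨hx, hxc⟩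
    by_contra hne
    obtain ⟨s, hs, hs1⟩ := h1 a ha.1
    have h3 : a ∈ Sx cs hp.isCartan (ch hp) s := by
      refine mem_Sx_of_centralizer C (hS hs) ha.1 hx (fun h => hne (Subgroup.mem_bot.2 h)) ?_
      rw [Subgroup.mem_centralizer_singleton_iff]
      exact (Subgroup.mem_centralizer_iff.1 hxc s hs).symm
    exact hs1 (by rw [cX_root hp cs (hS hs) ha.1]; exact h3.2)
  rw [hbot, Subgroup.mem_bot] at hu hv
  subst hu
  subst hv
  rw [one_mul, mul_one]
  have hw : w = 1 := by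
    refine h2 w fun s hs a ha => ?_
    have h3 := C.chi_rp R.nsys hk ha (hS hs)
    have h4 : k * s * k⁻¹ = s := by
      rw [← Subgroup.mem_centralizer_iff.1 hkc s hs]; group
    rw [h4] at h3
    rw [cX_root hp cs (hS hs) (ha.act w), cX_root hp cs (hS hs) ha]
    exact h3
  subst hw
  exact hk.mem_of_one

end CentFin

section CentAlg

variable {k : Type u} [Field k]

/-- finitely many torus elements are at a common level -/
theorem exists_TT_finite (hk : LocFin k) {S : Set ↥(D.group k)} (hSf : S.Finite) (hS : S ⊆ TT D k) :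
    ∃ E : Lev k, ∀ E' : Lev k, E ≤ E' → ∀ s ∈ S, ∃ s' ∈ TT D ↥E'.1, emb hp.inList E'.1.subtype s' = s := by
  induction S, hSf using Set.Finite.induction_on with
  | empty =>
    obtain ⟨E⟩ := nonempty_lev hk
    exact ⟨E, fun E' _ s hs => absurd hs (Set.notMem_empty s)⟩
  | @insert a S _ _ ih =>
    obtain ⟨E1, h1⟩ := ih ((Set.subset_insert a S).trans hS)
    obtain ⟨E2, h2⟩ := exists_TT hp hk (hS (Set.mem_insert a S))
    obtain ⟨E, h3, h4⟩ := dir_lev hk E1 E2
    refine ⟨E, fun E' hE' s hs => ?_⟩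
    rcases hs with rfl | hs
    · obtain ⟨s', h5, h6⟩ := h2 E' (h4.trans hE')
      exact ⟨s', h5, h6⟩
    · exact h1 E' (h3.trans hE') s hs

include cs in
theorem emb_cX {F : Type u} [Field F] (f : F →+* k) {t : ↥(D.group F)} (ht : t ∈ TT D F) (x : Fin l → ℤ) :
    cX hp (emb hp.inList f t) x = f (cX hp t x) := by
  have key : ∀ i, ch hp (sr i) (emb hp.inList f t) = f (ch hp (sr i) t) := by
    intro i
    obtain ⟨s, hs, e⟩ := (isRoot_iff hp cs _).1 (isRoot_sr cs hp.isCartan i)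
    rw [← e, emb_ch hp _ hs ht]
  unfold cX
  rw [map_prod]
  exact Finset.prod_congr rfl fun i _ => by rw [key, map_zpow₀]

/-- **An element commuting with a finite set of torus elements.** -/
theorem cent_alg (hk : LocFin k) (r : ℕ) [Fact r.Prime] [CharP k r] {S : Set ↥(D.group k)} (hSf : S.Finite)
    (hS : S ⊆ TT D k) (h1 : ∀ a, IsRoot cs hp.isCartan a → ∃ s ∈ S, cX hp s a ≠ 1)
    (h2 : ∀ w : W, (∀ s ∈ S, ∀ a, IsRoot cs hp.isCartan a → cX hp s (rep cs hp.isCartan w a) = cX hp s a) → w = 1)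
    {y : ↥(D.group k)} (hy : ∀ s ∈ S, y * s = s * y) : y ∈ TT D k := by
  obtain ⟨E1, hE1⟩ := exists_TT_finite hp hk hSf hS
  obtain ⟨E2, hE2⟩ := exists_level hp hk y
  obtain ⟨L, h3, h4⟩ := dir_lev hk E1 E2
  have := charP_lev r L.1
  obtain ⟨y', hy'⟩ := hE2 L h4
  have hinj : Function.Injective (emb hp.inList L.1.subtype) := emb_injective hp.inList _
  have h5 : y' ∈ TT D ↥L.1 := by
    refine cent_fin hp cs r (S := {s' | s' ∈ TT D ↥L.1 ∧ emb hp.inList L.1.subtype s' ∈ S}) (fun s hs => hs.1)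
      (fun a ha => ?_) (fun w hw => ?_) (fun s hs => ?_)
    · obtain ⟨s, hs, hs1⟩ := h1 a ha
      obtain ⟨s', hs', rfl⟩ := hE1 L h3 s hs
      refine ⟨s', ⟨hs', hs⟩, fun h => hs1 ?_⟩
      rw [emb_cX hp cs _ hs', h, map_one]
    · refine h2 w fun s hs a ha => ?_
      obtain ⟨s', hs', rfl⟩ := hE1 L h3 s hs
      rw [emb_cX hp cs _ hs', emb_cX hp cs _ hs', hw s' ⟨hs', hs⟩ a ha]
    · apply hinj
      rw [map_mul, map_mul, hy']
      exact hy _ hs.2
  rw [← hy']
  rw [← TL_eq hp hk]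
  exact le_TL (T := Tj hp (k := k)) L ⟨y', h5, rfl⟩

end CentAlg

/-! ### elements acting on the torus -/

section Act

variable {k : Type u} [Field k]

/-- `X` normalises the torus and acts on the characters as `c`. -/
def AAct (c : W) (X : ↥(D.group k)) : Prop :=
  (∀ t ∈ TT D k, X * t * X⁻¹ ∈ TT D k) ∧
    ∀ t ∈ TT D k, ∀ x, cX hp (X * t * X⁻¹) (rep cs hp.isCartan c x) = cX hp t x

variable {hp cs}

theorem AAct.mul {c c' : W} {X X' : ↥(D.group k)} (h : AAct hp cs c X) (h' : AAct hp cs c' X') :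
    AAct hp cs (c * c') (X * X') := by
  have e : ∀ t, X * X' * t * (X * X')⁻¹ = X * (X' * t * X'⁻¹) * X⁻¹ := fun t => by group
  refine ⟨fun t ht => ?_, fun t ht x => ?_⟩
  · rw [e]; exact h.1 _ (h'.1 t ht)
  · rw [e, rep_mul_apply, h.2 _ (h'.1 t ht), h'.2 t ht]

theorem AAct.one : AAct hp cs (1 : W) (1 : ↥(D.group k)) := by
  refine ⟨fun t ht => ?_, fun t ht x => ?_⟩
  · rwa [one_mul, inv_one, mul_one]
  · rw [one_mul, inv_one, mul_one, map_one, Module.End.one_apply]

theorem AAct.pow {c : W} {X : ↥(D.group k)} (h : AAct hp cs c X) (n : ℕ) : AAct hp cs (c ^ n) (X ^ n) := by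
  induction n with
  | zero => rw [pow_zero, pow_zero]; exact AAct.one
  | succ n ih => rw [pow_succ, pow_succ]; exact ih.mul h

theorem aact_torus (hk : LocFin k) (r : ℕ) [Fact r.Prime] [CharP k r] {t : ↥(D.group k)} (ht : t ∈ TT D k) :
    AAct hp cs (1 : W) t := by
  have hN : NSys M (TT D k) (nc hp k) := nsys_of_locFin hp cs hk r
  have h1 : Rp cs hN 1 t := rp_of_mem ht
  refine ⟨fun s hs => (Subgroup.mem_normalizer_iff.1 h1.mem_normalizer s).1 hs, fun s hs x => ?_⟩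
  exact cX_rp hp cs hk r h1 hs x

theorem aact_rp (hk : LocFin k) (r : ℕ) [Fact r.Prime] [CharP k r] {hN : NSys M (TT D k) (nc hp k)} {w : W}
    {g : ↥(D.group k)} (hg : Rp cs hN w g) : AAct hp cs w g :=
  ⟨fun s hs => (Subgroup.mem_normalizer_iff.1 hg.mem_normalizer s).1 hs, fun _ hs x => cX_rp hp cs hk r hg hs x⟩

variable (hp cs)

include hp in
/-- elements of `D.group k` have finite order -/
theorem exists_pow_eq_one (hk : LocFin k) (y : ↥(D.group k)) : ∃ n : ℕ, 0 < n ∧ y ^ n = 1 := by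
  obtain ⟨E, hE⟩ := exists_level hp hk y
  obtain ⟨y', rfl⟩ := hE E le_rfl
  have : Finite ↥(D.group ↥E.1) := inferInstance
  refine ⟨orderOf y', orderOf_pos y', ?_⟩
  rw [← map_pow, pow_orderOf_eq_one, map_one]

/-- a power with `p`-power order and the same image -/
theorem exists_exponent {p : ℕ} [Fact p.Prime] {n : ℕ} (hn : 0 < n) (j : ℕ) :
    ∃ i a : ℕ, i ≡ 1 [MOD p ^ j] ∧ n ∣ i * p ^ a := by
  have hpp : p.Prime := Fact.out
  obtain ⟨a, m, hm, rfl⟩ := Nat.exists_eq_pow_mul_and_not_dvd hn.ne' p hpp.ne_one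
  have hco : (p ^ j).Coprime m := Nat.Coprime.pow_left j ((Nat.Prime.coprime_iff_not_dvd hpp).2 hm)
  obtain ⟨i, hi1, hi2⟩ := Nat.chineseRemainder hco 1 0
  refine ⟨i, a, hi1, ?_⟩
  have h1 : m ∣ i := (Nat.modEq_zero_iff_dvd).1 hi2
  rw [mul_comm]
  exact Nat.mul_dvd_mul h1 dvd_rfl

variable {r e : ℕ} [Fact r.Prime] [CharP k r] {σ : MulAut ↥(D.group k)} {g : (Fin l → ℤ) ≃+ (Fin l → ℤ)}

theorem theta_injective (w : W) (g : (Fin l → ℤ) ≃+ (Fin l → ℤ)) : Function.Injective (theta hp cs w g) := by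
  intro x y hxy
  rw [theta_apply, theta_apply] at hxy
  have h1 := congrArg (rep cs hp.isCartan w⁻¹) hxy
  rw [← rep_mul_apply, ← rep_mul_apply, inv_mul_cancel, map_one] at h1
  exact g.injective h1

/-- **A representative of `c`, fixed by the twisted Frobenius, of `p`-power order.** -/
theorem exists_act [IsAlgClosed k] [Finite W] (hk : LocFin k) (he : 0 < e) {hN : NSys M (TT D k) (nc hp k)}
    (hσ : IsFrob r e σ) (F : Fr cs hp.isCartan (TT D k) (XX D l k) σ g) {w : W} {n : ↥(D.group k)}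
    (hn : Rp cs hN w n) {c : W}
    (hc : ∀ x, rep cs hp.isCartan c (theta hp cs w g x) = theta hp cs w g (rep cs hp.isCartan c x))
    {S : Set ↥(D.group k)} (hSf : S.Finite)
    (hS : S ⊆ TT D k) (h1 : ∀ a, IsRoot cs hp.isCartan a → ∃ s ∈ S, cX hp s a ≠ 1)
    (h2 : ∀ w : W, (∀ s ∈ S, ∀ a, IsRoot cs hp.isCartan a → cX hp s (rep cs hp.isCartan w a) = cX hp s a) → w = 1)
    {d : ℕ} {B : Fin l → Fin l → ℤ} (hB : InvC D l d B) (hd : d ≠ 0) :
    ∃ X : ↥(D.group k), n * σ X * n⁻¹ = X ∧ AAct hp cs c X := by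
  obtain ⟨τ, hτ⟩ : ∃ τ : MulAut ↥(D.group k), τ = MulAut.conj n * σ := ⟨_, rfl⟩
  have hτa : ∀ y, τ y = n * σ y * n⁻¹ := fun y => by rw [hτ]; rfl
  have hτT : ∀ t, t ∈ TT D k → τ t ∈ TT D k := fun t ht => by
    rw [hτa]
    exact (Subgroup.mem_normalizer_iff.1 hn.mem_normalizer (σ t)).1 ((F.tor t).2 ht)
  have hτT' : ∀ t, τ t ∈ TT D k → t ∈ TT D k := fun t ht => by
    rw [hτa] at ht
    exact (F.tor t).1 ((Subgroup.mem_normalizer_iff.1 hn.mem_normalizer (σ t)).2 ht)
  have hτX : ∀ t ∈ TT D k, ∀ x, cX hp (τ t) (theta hp cs w g x) = cX hp t x ^ r ^ e := fun t ht x => by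
    rw [hτa, theta_apply, cX_rp hp cs hk r hn ((F.tor t).2 ht), cX_sigma hp cs hσ F ht]
  have hsurj : ∀ x, ∃ x', theta hp cs w g x' = x := fun x =>
    ⟨g.symm (rep cs hp.isCartan w⁻¹ x), by rw [theta_apply, AddEquiv.apply_symm_apply, rep_apply_inv]⟩
  obtain ⟨nc0, hnc0⟩ := exists_rp cs hN c
  have hA := aact_rp (hp := hp) (cs := cs) hk r hnc0
  -- `τ nc0` acts as `c`
  have hA' : AAct hp cs c (τ nc0) := by
    have key : ∀ t ∈ TT D k, ∃ t' ∈ TT D k, τ t' = t := fun t ht =>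
      ⟨τ⁻¹ t, hτT' _ (by rwa [MulAut.apply_inv_self]), MulAut.apply_inv_self _ _ _⟩
    refine ⟨fun t ht => ?_, fun t ht x => ?_⟩
    · obtain ⟨t', ht', rfl⟩ := key t ht
      rw [← map_inv, ← map_mul, ← map_mul]
      exact hτT _ (hA.1 t' ht')
    · obtain ⟨t', ht', rfl⟩ := key t ht
      obtain ⟨x', rfl⟩ := hsurj x
      rw [← map_inv, ← map_mul, ← map_mul, hc, hτX _ (hA.1 t' ht'), hA.2 t' ht', hτX t' ht']
  -- `h = nc0⁻¹ τ nc0` is in the torus
  have hh : nc0⁻¹ * τ nc0 ∈ TT D k := by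
    refine cent_alg hp cs hk r hSf hS h1 h2 fun s hs => ?_
    have hsT := hS hs
    have h3 : τ nc0 * s * (τ nc0)⁻¹ = nc0 * s * nc0⁻¹ := by
      refine cX_inj hp (hA'.1 s hsT) (hA.1 s hsT) fun i => ?_
      have h4 : (sr i : Fin l → ℤ) = rep cs hp.isCartan c (rep cs hp.isCartan c⁻¹ (sr i)) := by rw [rep_apply_inv]
      rw [h4, hA'.2 s hsT, hA.2 s hsT]
    have h5 : nc0⁻¹ * (τ nc0 * s * (τ nc0)⁻¹) * nc0 = s := by rw [h3]; group
    calc nc0⁻¹ * τ nc0 * s = (nc0⁻¹ * (τ nc0 * s * (τ nc0)⁻¹) * nc0) * (nc0⁻¹ * τ nc0) := by group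
      _ = s * (nc0⁻¹ * τ nc0) := by rw [h5]
  -- Lang for the torus
  obtain ⟨m, hm, hθ⟩ := exists_order cs hp.isCartan (theta hp cs w g) (theta_injective hp cs w g)
    (fun a ha => by rw [theta_apply]; exact ((F.root a).2 ha).act w)
  have hq : 1 < r ^ e := Nat.one_lt_pow he.ne' (Fact.out : r.Prime).one_lt
  obtain ⟨φ, hφ, hφθ⟩ := torus_lang (k := k) hm hθ hq ((isMC_cX hp hh).comp (theta hp cs w g))
  obtain ⟨t, ht, htφ⟩ := exists_cX hp hB hd hφ (fun _ => IsAlgClosed.exists_pow_nat_eq _ (Nat.pos_of_ne_zero hd))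
  have hfix : (nc0⁻¹ * τ nc0) * τ t = t := by
    refine cX_inj hp (mul_mem hh (hτT t ht)) ht fun i => ?_
    obtain ⟨x, hx⟩ := hsurj (sr i)
    rw [← hx, cX_mul hp hh (hτT t ht), hτX t ht, htφ, htφ, hφθ]
  refine ⟨nc0 * t, ?_, ?_⟩
  · rw [← hτa, map_mul]
    calc τ nc0 * τ t = nc0 * ((nc0⁻¹ * τ nc0) * τ t) := by group
      _ = nc0 * t := by rw [hfix]
  · have := hA.mul (aact_torus (hp := hp) (cs := cs) hk r ht)
    rwa [mul_one] at this

/-- the same, of `p`-power order -/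
theorem exists_act_pow {p : ℕ} [Fact p.Prime] (hk : LocFin k) {n : ↥(D.group k)} {c : W} {j : ℕ} (hcj : c ^ p ^ j = 1)
    {X : ↥(D.group k)} (hX : n * σ X * n⁻¹ = X) (hA : AAct hp cs c X) :
    ∃ X : ↥(D.group k), n * σ X * n⁻¹ = X ∧ AAct hp cs c X ∧ ∃ a : ℕ, X ^ p ^ a = 1 := by
  obtain ⟨m, hm, hXm⟩ := exists_pow_eq_one hp hk X
  obtain ⟨i, a, hi, hia⟩ := exists_exponent (p := p) hm j
  refine ⟨X ^ i, ?_, ?_, a, ?_⟩
  · rw [map_pow, ← conj_pow, hX]
  · have h1 := hA.pow i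
    have h2 : c ^ i = c := by
      have h3 : i ≡ 1 [MOD orderOf c] := hi.of_dvd (orderOf_dvd_of_pow_eq_one hcj)
      have h4 := pow_eq_pow_iff_modEq.2 h3
      rwa [pow_one] at h4
    rwa [h2] at h1
  · rw [← pow_mul]
    obtain ⟨b, hb⟩ := hia
    rw [hb, pow_mul, hXm, one_pow]

end Act

end Cfsg.Agent.H778.Exc
end

-- part: H778/ExcNot
section
set_option linter.all false
open scoped Cfsg.Agent.FastGrp

/-!
# `p`-central elements and torus elements (helper778)

`core` : a finite group `G0` embedded in `D.group k`, all `p`-elements of `G0` are `p`-central, `VS` a set of functionals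
modulo `p` whose torus elements are in `G0` and which separate the roots, `x0 ∈ G0` a `p`-element acting on the torus as
`c`: every `a ∈ VS` is conjugate under the Weyl group to a functional `b` fixed by `c`.
-/

set_option autoImplicit false
set_option linter.unusedSectionVars false

namespace Cfsg.Agent.H778.Exc

open CoxeterSystem Cfsg Cfsg.Lie Cfsg.Lie.ChevalleyDatum
open Cfsg.Agent.ChevalleyStructure Cfsg.Agent.ChevalleyStructure.Elts Cfsg.Agent.ChevalleyStructure.CoxeterGeom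
  Cfsg.Agent.ChevalleyStructure.CoxeterGeomTypes Cfsg.Agent.ChevalleyStructure.NPerm
open Cfsg.Agent.Tits.Roots Cfsg.Agent.Tits.Core Cfsg.Agent.Nodes Cfsg.Agent.Nodes.Reps Cfsg.Agent.Nodes.BNOf
  Cfsg.Agent.Nodes.RGDChev Cfsg.Agent.Nodes.Bruhat
open Cfsg.Agent.KFacts.RgdField Cfsg.Agent.KFacts.RgdChevCoord Cfsg.Agent.BpExc.TorCent Cfsg.Agent.BpExc.TorChev
open Cfsg.Agent.GpExc.Field Cfsg.Agent.BpExc.Tow Cfsg.Agent.BpExc.TowChev Cfsg.Agent.BpExc.Fr
  Cfsg.Agent.BpExc.LangFr Cfsg.Agent.LangThm Cfsg.Agent.BpExc Cfsg.Agent.H129.TorusChar Cfsg.Agent.H129.TorusMain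
  Cfsg.Agent.H129.TorusUntw Cfsg.Agent.ChevStructure.FieldMap Cfsg.Agent.BpExc.EmbSplit
open Cfsg.Agent.H573

universe u v

/-! ### powers of `ζ` -/

section Zeta

variable {k : Type u} [Field k] {p : ℕ} [Fact p.Prime] {ζ : k} (hζ : orderOf ζ = p)

/-- `ζ ^ c` for `c` modulo `p` -/
def zz (ζ : k) (c : ZMod p) : k := ζ ^ c.val

include hζ

theorem zz_inj {a b : ZMod p} : zz ζ a = zz ζ b ↔ a = b := by
  constructor
  · intro h
    have h1 : a.val ∈ Set.Iio (orderOf ζ) := by rw [hζ]; exact ZMod.val_lt a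
    have h2 : b.val ∈ Set.Iio (orderOf ζ) := by rw [hζ]; exact ZMod.val_lt b
    exact ZMod.val_injective p (pow_injOn_Iio_orderOf h1 h2 h)
  · rintro rfl; rfl

omit hζ in
theorem zz_zero : zz ζ (0 : ZMod p) = 1 := by
  unfold zz
  rw [ZMod.val_zero, pow_zero]

theorem zz_add (a b : ZMod p) : zz ζ (a + b) = zz ζ a * zz ζ b := by
  unfold zz
  rw [← pow_add, ZMod.val_add]
  have h := pow_mod_orderOf ζ (a.val + b.val)
  rw [hζ] at h
  exact h

theorem zz_natCast_mul (n : ℕ) (a : ZMod p) : zz ζ ((n : ZMod p) * a) = zz ζ a ^ n := by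
  induction n with
  | zero => rw [Nat.cast_zero, zero_mul, zz_zero, pow_zero]
  | succ n ih => rw [Nat.cast_succ, add_mul, one_mul, zz_add hζ, ih, pow_succ]

theorem zz_eq_one {a : ZMod p} : zz ζ a = 1 ↔ a = 0 := by
  rw [← zz_zero (ζ := ζ) (p := p), zz_inj hζ]

theorem isMC_zz {l : ℕ} (b : Fin l → ZMod p) : IsMC (fun x : Fin l → ℤ => zz ζ (ev b x)) where
  zero := by
    show zz ζ (ev b 0) = 1
    rw [ev_zero, zz_zero]
  add x y := by
    show zz ζ (ev b (x + y)) = _
    rw [ev_add, zz_add hζ]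

theorem exists_zz {a : k} (ha : a ^ p = 1) : ∃ c : ZMod p, a = zz ζ c := by
  have hprim : IsPrimitiveRoot ζ p := by
    have := IsPrimitiveRoot.orderOf ζ
    rwa [hζ] at this
  obtain ⟨i, hi, e⟩ := hprim.eq_pow_of_pow_eq_one ha
  refine ⟨(i : ZMod p), ?_⟩
  unfold zz
  rw [ZMod.val_cast_of_lt hi, e]

end Zeta

section Core

variable {D : ChevalleyDatum} {l : ℕ} {M : CoxeterMatrix (Fin l)} (hp : IsType D l M)
  {W : Type*} [Group W] (cs : CoxeterSystem M W) {k : Type u} [Field k] {p : ℕ} [Fact p.Prime] {ζ : k}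
  (hζ : orderOf ζ = p)

include hζ in
theorem exists_fun_of_pow {t : ↥(D.group k)} (ht : t ∈ TT D k) (htp : t ^ p = 1) :
    ∃ b : Fin l → ZMod p, ∀ x, cX hp t x = zz ζ (ev b x) := by
  have h1 : ∀ i, cX hp t (sr i) ^ p = 1 := fun i => by rw [← cX_pow hp ht, htp, cX_one]
  choose b hb using fun i => exists_zz hζ (h1 i)
  refine ⟨b, (isMC_cX hp ht).ext (isMC_zz hζ b) fun i => ?_⟩
  rw [hb i, ev_sr]

include hζ in
/-- the torus element of a functional -/
theorem exists_torus_elt [IsAlgClosed k] {d : ℕ} {B : Fin l → Fin l → ℤ} (hB : InvC D l d B) (hd : d ≠ 0)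
    (b : Fin l → ZMod p) : ∃ t ∈ TT D k, ∀ x, cX hp t x = zz ζ (ev b x) :=
  exists_cX hp hB hd (isMC_zz hζ b) (fun _ => IsAlgClosed.exists_pow_nat_eq _ (Nat.pos_of_ne_zero hd))

include hζ in
theorem pow_eq_one_of_fun {t : ↥(D.group k)} (ht : t ∈ TT D k) {b : Fin l → ZMod p}
    (h : ∀ x, cX hp t x = zz ζ (ev b x)) : t ^ p = 1 := by
  refine cX_inj hp (pow_mem ht p) (one_mem _) fun i => ?_
  rw [cX_pow hp ht, cX_one, h, ← zz_natCast_mul hζ, CharP.cast_eq_zero, zero_mul, zz_zero]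

/-- No root vanishes on `VS`, and no element of the Weyl group fixes `VS`. -/
structure Sep {l : ℕ} {M : CoxeterMatrix (Fin l)} {A : Fin l → Fin l → ℤ} {W : Type*} [Group W] (cs : CoxeterSystem M W)
    (h : IsCartan M A) {p : ℕ} (VS : Set (Fin l → ZMod p)) : Prop where
  exists_ne : ∀ {a}, IsRoot cs h a → ∃ b ∈ VS, ev b a ≠ 0
  eq_one : ∀ {w : W}, (∀ b ∈ VS, ∀ a, IsRoot cs h a → ev b (rep cs h w a) = ev b a) → w = 1

/-- criterion: roots which agree with a simple root on `VS` are positive -/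
theorem Sep.mk' {l : ℕ} {M : CoxeterMatrix (Fin l)} {A : Fin l → Fin l → ℤ} {W : Type*} [Group W]
    {cs : CoxeterSystem M W} {h : IsCartan M A} {p : ℕ} {VS : Set (Fin l → ZMod p)}
    (h1 : ∀ a, IsRoot cs h a → ∃ b ∈ VS, ev b a ≠ 0)
    (h2 : ∀ i, ∀ a, IsRoot cs h a → (∀ b ∈ VS, ev b a = ev b (sr i)) → 0 ≤ a) : Sep cs h VS where
  exists_ne := fun ha => h1 _ ha
  eq_one := fun {w} hw => ChevalleyStructure.CoxeterGeom.eq_one_of_nonneg cs h w fun i =>
    h2 i _ ((isRoot_sr cs h i).act w) fun b hb => hw b hb _ (isRoot_sr cs h i)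

include hζ in
/-- **The core.** -/
theorem core (hk : LocFin k) (r : ℕ) [Fact r.Prime] [CharP k r] {G0 : Type*} [Group G0] [Finite G0]
    (hc : PCent p G0) {ψ : G0 →* ↥(D.group k)} (hψ : Function.Injective ψ) {VS : Set (Fin l → ZMod p)}
    (hV : ∀ b ∈ VS, ∃ s : G0, ψ s ∈ TT D k ∧ ∀ x, cX hp (ψ s) x = zz ζ (ev b x)) (hsep : Sep cs hp.isCartan VS)
    {c : W} {x0 : G0} (hx0 : ∃ j, x0 ^ p ^ j = 1) (hact : AAct hp cs c (ψ x0)) {a : Fin l → ZMod p} (ha : a ∈ VS) :
    ∃ b : Fin l → ZMod p, pull cs hp.isCartan b c = b ∧ (∃ w : W, pull cs hp.isCartan b w = a) ∧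
      ∃ s : G0, ψ s ∈ TT D k ∧ ∀ x, cX hp (ψ s) x = zz ζ (ev b x) := by
  have hWf := finite_W hp cs
  have hpp : p.Prime := Fact.out
  choose! sv hsv1 hsv2 using hV
  -- the torus part
  let V0 : Subgroup G0 :=
    { carrier := {y | ψ y ∈ TT D k ∧ y ^ p = 1}
      one_mem' := ⟨by rw [map_one]; exact one_mem _, one_pow p⟩
      mul_mem' := by
        rintro x y ⟨hx, hx1⟩ ⟨hy, hy1⟩
        refine ⟨by rw [map_mul]; exact mul_mem hx hy, ?_⟩
        have hxy : Commute x y := by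
          apply hψ
          rw [map_mul, map_mul]
          exact TT_comm hp _ hx _ hy
        rw [hxy.mul_pow, hx1, hy1, one_mul]
      inv_mem' := by
        rintro x ⟨hx, hx1⟩
        exact ⟨by rw [map_inv]; exact inv_mem hx, by rw [inv_pow, hx1, inv_one]⟩ }
  have hV0 : IsPGroup p ↥V0 := fun y => ⟨1, by
    rw [pow_one]
    exact Subtype.ext y.2.2⟩
  have hsvp : ∀ b ∈ VS, sv b ^ p = 1 := fun b hb => by
    apply hψ
    rw [map_pow, map_one]
    exact pow_eq_one_of_fun hp hζ (hsv1 b hb) (hsv2 b hb)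
  have hsvV : ∀ b ∈ VS, sv b ∈ V0 := fun b hb => ⟨hsv1 b hb, hsvp b hb⟩
  have hX0 : IsPGroup p ↥(Subgroup.zpowers x0) := by
    obtain ⟨j, hj⟩ := hx0
    rintro ⟨y, i, rfl⟩
    refine ⟨j, Subtype.ext ?_⟩
    show (x0 ^ i) ^ p ^ j = 1
    rw [← zpow_natCast, ← zpow_mul, mul_comm, zpow_mul, zpow_natCast, hj, one_zpow]
  have hnorm : Subgroup.zpowers x0 ≤ Subgroup.normalizer (V0 : Set G0) := by
    rw [Subgroup.zpowers_le]
    refine Subgroup.mem_normalizer_fintype (S := (V0 : Set G0)) fun y hy => ⟨?_, ?_⟩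
    · rw [map_mul, map_mul, map_inv]
      exact hact.1 _ hy.1
    · rw [conj_pow, hy.2, mul_one, mul_inv_cancel]
  have hR : IsPGroup p ↥(Subgroup.zpowers x0 ⊔ V0) := hX0.to_sup_of_normal_right' hV0 hnorm
  obtain ⟨P, hP⟩ := hR.exists_le_sylow
  obtain ⟨P', hP'⟩ := hc.exists_sylow (x := sv a) (by
    obtain ⟨j, -, hj⟩ := (Nat.dvd_prime_pow hpp).1 (show orderOf (sv a) ∣ p ^ 1 by
      rw [pow_one]; exact orderOf_dvd_of_pow_eq_one (hsvp a ha))
    exact ⟨j, hj⟩)
  obtain ⟨g, hg⟩ := MulAction.exists_smul_eq G0 P' P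
  obtain ⟨s', hs'⟩ : ∃ s', s' = g * sv a * g⁻¹ := ⟨_, rfl⟩
  have hcomm : ∀ y ∈ P, y * s' = s' * y := by
    intro y hy
    rw [← hg] at hy
    rw [Sylow.smul_def] at hy
    obtain ⟨y', hy', rfl⟩ := hy
    show g * y' * g⁻¹ * s' = s' * (g * y' * g⁻¹)
    have h1 := hP' y' hy'
    rw [hs']
    calc g * y' * g⁻¹ * (g * sv a * g⁻¹) = g * (y' * sv a) * g⁻¹ := by group
      _ = g * (sv a * y') * g⁻¹ := by rw [h1]
      _ = _ := by group
  have hs'p : s' ^ p = 1 := by rw [hs', conj_pow, hsvp a ha, mul_one, mul_inv_cancel]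
  -- `ψ s'` is in the torus
  have hT : ψ s' ∈ TT D k := by
    refine cent_alg hp cs hk r (S := (fun b => ψ (sv b)) '' VS) ((Set.toFinite VS).image _) ?_ (fun x hx => ?_)
      (fun w hw => ?_) ?_
    · rintro _ ⟨b, hb, rfl⟩
      exact hsv1 b hb
    · obtain ⟨b, hb, hb1⟩ := hsep.exists_ne hx
      refine ⟨_, ⟨b, hb, rfl⟩, ?_⟩
      rw [hsv2 b hb, Ne, zz_eq_one hζ]
      exact hb1
    · refine hsep.eq_one fun b hb x hx => ?_
      have h1 := hw _ ⟨b, hb, rfl⟩ x hx
      rwa [hsv2 b hb, hsv2 b hb, zz_inj hζ] at h1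
    · rintro _ ⟨b, hb, rfl⟩
      rw [← map_mul, ← map_mul, hcomm (sv b) (hP (Subgroup.mem_sup_right (hsvV b hb)))]
  obtain ⟨b, hb⟩ := exists_fun_of_pow hp hζ hT (by rw [← map_pow, hs'p, map_one])
  refine ⟨b, ?_, ?_, s', hT, hb⟩
  · -- `c` fixes `b`
    funext i
    show ev b (rep cs hp.isCartan c (sr i)) = b i
    have h1 := hcomm x0 (hP (Subgroup.mem_sup_left (Subgroup.mem_zpowers x0)))
    have h2 : ψ x0 * ψ s' * (ψ x0)⁻¹ = ψ s' := by
      rw [← map_mul, h1, map_mul]; group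
    have h3 := hact.2 _ hT (sr i)
    rw [h2, hb, hb, zz_inj hζ, ev_sr] at h3
    exact h3
  · -- conjugacy
    have H := tow hp cs hk r
    have C := coordsL hp cs hk r
    rw [← TL_eq hp hk, ← XL_eq hp hk] at C
    have hs1 : ψ (sv a) ∈ TL (Tj hp (k := k)) := by rw [TL_eq hp hk]; exact hsv1 a ha
    have ht1 : ψ s' ∈ TL (Tj hp (k := k)) := by rw [TL_eq hp hk]; exact hT
    have hgG : ψ g ∈ GG cs hp.isCartan (TL (Tj hp (k := k))) (XL (Xj hp)) := by
      rw [GG_eq_top hp cs hk]; exact Subgroup.mem_top _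
    obtain ⟨m, -, w, n, hn, hns, -⟩ := BpExc.Fr.exists_form H C hs1 ht1 hgG (by
      rw [← map_mul, ← map_mul, hs']; congr 1; group)
    refine ⟨w, funext fun i => ?_⟩
    show ev b (rep cs hp.isCartan w (sr i)) = a i
    have h3 := C.chi_rp H.nsys hn (isRoot_sr cs hp.isCartan i) hs1
    have h4 : n * ψ (sv a) * n⁻¹ = ψ s' := by rw [hns]; group
    rw [h4, ← cX_root hp cs hT ((isRoot_sr cs hp.isCartan i).act w),
      ← cX_root hp cs (hsv1 a ha) (isRoot_sr cs hp.isCartan i), hb, hsv2 a ha, zz_inj hζ, ev_sr] at h3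
    exact h3

end Core

section Alg

variable {D : ChevalleyDatum} {l : ℕ} {M : CoxeterMatrix (Fin l)} (hp : IsType D l M)
  {W : Type*} [Group W] (cs : CoxeterSystem M W) {k : Type u} [Field k] {r e : ℕ} [Fact r.Prime] [CharP k r]
  {σ : MulAut ↥(D.group k)} {g : (Fin l → ℤ) ≃+ (Fin l → ℤ)}

/-- rational conjugates of torus elements, general version -/
theorem exists_elt_tw [IsAlgClosed k] (hk : LocFin k) (he : 0 < e) (hσ : IsFrob r e σ)
    (F : Fr cs hp.isCartan (TT D k) (XX D l k) σ g) {t : ↥(D.group k)} (ht : t ∈ TT D k) (w : W)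
    (hw : ∀ x, cX hp t (theta hp cs w g x) = cX hp t x ^ r ^ e) :
    ∃ z : ↥(D.group k), σ (z * t * z⁻¹) = z * t * z⁻¹ := by
  let hN : NSys M (TT D k) (nc hp k) := nsys_of_locFin hp cs hk r
  obtain ⟨n, hn⟩ := exists_rp cs hN w
  obtain ⟨z, hz⟩ := lang_all hp cs he hσ F 1 n
  rw [map_one, one_mul] at hz
  refine ⟨z, ?_⟩
  have hτ : n * σ t * n⁻¹ = t := (tau_iff hp cs hk hσ F hn ht).2 hw
  rw [map_mul, map_mul, map_inv]
  have h1 : σ z = z * n := by rw [hz]; group
  rw [h1]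
  calc z * n * σ t * (z * n)⁻¹ = z * (n * σ t * n⁻¹) * z⁻¹ := by group
    _ = z * t * z⁻¹ := by rw [hτ]

variable {p : ℕ} [Fact p.Prime] {ζ : k} (hζ : orderOf ζ = p)

/-- the functionals of the twisted torus -/
def VT (p : ℕ) (w : W) (g : (Fin l → ℤ) ≃+ (Fin l → ℤ)) (q : ℕ) : Set (Fin l → ZMod p) :=
  {b | ∀ x, ev b (theta hp cs w g x) = (q : ZMod p) * ev b x}

include hζ in
/-- **The general theorem.** -/
theorem exists_fix [IsAlgClosed k] (hk : LocFin k) (he : 0 < e) (hσ : IsFrob r e σ)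
    (F : Fr cs hp.isCartan (TT D k) (XX D l k) σ g) {d : ℕ} {B : Fin l → Fin l → ℤ} (hB : InvC D l d B) (hd : d ≠ 0)
    {G0 : Type*} [Group G0] [Finite G0] (hc : PCent p G0) {e0 : G0 →* ↥(D.group k)} (he0 : Function.Injective e0)
    (hfix : ∀ x, σ (e0 x) = e0 x) (hrange : ∀ y, σ y = y → (∃ j : ℕ, y ^ p ^ j = 1) → y ∈ e0.range) (w : W)
    (hsep : Sep cs hp.isCartan (VT hp cs p w g (r ^ e))) {c : W} {j : ℕ} (hcj : c ^ p ^ j = 1)
    (hcθ : ∀ x, rep cs hp.isCartan c (theta hp cs w g x) = theta hp cs w g (rep cs hp.isCartan c x))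
    {a : Fin l → ZMod p} (ha : a ∈ VT hp cs p w g (r ^ e)) :
    ∃ b : Fin l → ZMod p, pull cs hp.isCartan b c = b ∧ b ∈ VT hp cs p w g (r ^ e) ∧
      ∃ w' : W, pull cs hp.isCartan b w' = a := by
  have hWf := finite_W hp cs
  let hN : NSys M (TT D k) (nc hp k) := nsys_of_locFin hp cs hk r
  obtain ⟨n, hn⟩ := exists_rp cs hN w
  obtain ⟨z, hz⟩ := lang_all hp cs he hσ F 1 n
  rw [map_one, one_mul] at hz
  have hσz : σ z = z * n := by rw [hz]; group
  have hconj : ∀ y, σ (z * y * z⁻¹) = z * (n * σ y * n⁻¹) * z⁻¹ := fun y => by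
    rw [map_mul, map_mul, map_inv, hσz]; group
  choose! tb htb1 htb2 using fun (b : Fin l → ZMod p) => exists_torus_elt hp hζ hB hd b
  have hτb : ∀ b ∈ VT hp cs p w g (r ^ e), n * σ (tb b) * n⁻¹ = tb b := by
    intro b hb
    rw [tau_iff hp cs hk hσ F hn (htb1 b)]
    intro x
    rw [htb2, htb2, hb x, zz_natCast_mul hζ]
  let ψ : G0 →* ↥(D.group k) := (MulAut.conj z⁻¹).toMonoidHom.comp e0
  have hψa : ∀ s, ψ s = z⁻¹ * e0 s * z := fun s => by
    show z⁻¹ * e0 s * z⁻¹⁻¹ = _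
    rw [inv_inv]
  have hψ : Function.Injective ψ := (MulAut.conj z⁻¹).injective.comp he0
  have hV : ∀ b ∈ VT hp cs p w g (r ^ e), ∃ s : G0, ψ s ∈ TT D k ∧ ∀ x, cX hp (ψ s) x = zz ζ (ev b x) := by
    intro b hb
    obtain ⟨s, hs⟩ := hrange (z * tb b * z⁻¹) (by rw [hconj, hτb b hb]) ⟨1, by
      rw [pow_one, conj_pow, pow_eq_one_of_fun hp hζ (htb1 b) (htb2 b), mul_one, mul_inv_cancel]⟩
    have h1 : ψ s = tb b := by rw [hψa, hs]; group
    exact ⟨s, by rw [h1]; exact htb1 b, by rw [h1]; exact htb2 b⟩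
  obtain ⟨X0, hX0, hA0⟩ := exists_act hp cs hk he hσ F hn hcθ (S := tb '' (VT hp cs p w g (r ^ e)))
    ((Set.toFinite _).image _) (by rintro _ ⟨b, -, rfl⟩; exact htb1 b)
    (fun x hx => by
      obtain ⟨b, hb, hb1⟩ := hsep.exists_ne hx
      exact ⟨_, ⟨b, hb, rfl⟩, by rw [htb2, Ne, zz_eq_one hζ]; exact hb1⟩)
    (fun w hw => hsep.eq_one fun b hb x hx => by
      have h1 := hw _ ⟨b, hb, rfl⟩ x hx
      rwa [htb2, htb2, zz_inj hζ] at h1) hB hd
  obtain ⟨X, hX, hA, i, hXi⟩ := exists_act_pow hp cs hk hcj hX0 hA0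
  obtain ⟨x0, hx0⟩ := hrange (z * X * z⁻¹) (by rw [hconj, hX]) ⟨i, by
    rw [conj_pow, hXi, mul_one, mul_inv_cancel]⟩
  have hψx : ψ x0 = X := by rw [hψa, hx0]; group
  obtain ⟨b, h1, h2, s, h3, h4⟩ := core hp cs hζ hk r hc hψ hV hsep (c := c) (x0 := x0) ⟨i, by
    apply hψ
    rw [map_pow, map_one, hψx, hXi]⟩ (by rw [hψx]; exact hA) ha
  refine ⟨b, h1, ?_, h2⟩
  have h5 : n * σ (ψ s) * n⁻¹ = ψ s := by
    rw [hψa]
    have h6 := hconj (z⁻¹ * e0 s * z)
    have h7 : z * (z⁻¹ * e0 s * z) * z⁻¹ = e0 s := by group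
    rw [h7, hfix] at h6
    have h8 : z⁻¹ * (z * (n * σ (z⁻¹ * e0 s * z) * n⁻¹) * z⁻¹) * z = n * σ (z⁻¹ * e0 s * z) * n⁻¹ := by group
    rw [← h8, ← h6]
  intro x
  have h6 := (tau_iff hp cs hk hσ F hn h3).1 h5 x
  rwa [h4, h4, ← zz_natCast_mul hζ, zz_inj hζ] at h6

end Alg

end Cfsg.Agent.H778.Exc
end
end
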